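import Cfsg.Agent.Lib.Helper47.SemiConjMat

/-!
# Counting the semisimple classes of `GL_n(q)` and `SL_n(q)`

Existence of a matrix of order prime to `p` with a prescribed characteristic polynomial
(`exists_matrix_charpoly`), and the class counts `gl_card_semisimple_classes`,
`sl_card_semisimple_classes`.
-/

set_option autoImplicit false

namespace Cfsg.Agent.Lib.Helper47

open Polynomial Module Matrix


section Exist

variable {F : Type*} [Field F]

lemma fromBlocks_diag_pow {l m : Type*} [Fintype l] [Fintype m] [DecidableEq l] [DecidableEq m]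
    (A : Matrix l l F) (D : Matrix m m F) (k : ℕ) :
    (Matrix.fromBlocks A 0 0 D) ^ k = Matrix.fromBlocks (A ^ k) 0 0 (D ^ k) := by
  induction k with
  | zero => simp [Matrix.fromBlocks_one]
  | succ k ih => rw [pow_succ, ih, Matrix.fromBlocks_multiply]; simp [pow_succ]

theorem exists_matrix_of_monic [Finite F] (p : ℕ) [Fact p.Prime] [CharP F p] :
    ∀ (d : ℕ) (f : F[X]), f.Monic → f.natDegree = d → f.coeff 0 ≠ 0 →
      ∃ (m : ℕ) (M : Matrix (Fin m) (Fin m) F), M.charpoly = f ∧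
        ∃ k, 0 < k ∧ k.Coprime p ∧ M ^ k = 1 := by
  intro d
  induction d using Nat.strong_induction_on with
  | _ d ih =>
    intro f hfm hd hf0
    rcases Nat.eq_zero_or_pos d with h0 | hpos
    · subst h0
      have hf1 : f = 1 := hfm.natDegree_eq_zero.mp hd
      refine ⟨0, 0, ?_, 1, one_pos, Nat.coprime_one_left p, Subsingleton.elim _ _⟩
      rw [hf1]; exact Matrix.charpoly_isEmpty
    · have hnu : ¬ IsUnit f := by
        intro hu
        have := natDegree_eq_zero_of_isUnit hu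
        omega
      obtain ⟨f₁, hf₁m, hf₁i, f₂, rfl⟩ := exists_monic_irreducible_factor f hnu
      have hf₂m : f₂.Monic := hf₁m.of_mul_monic_left hfm
      have hdeg : (f₁ * f₂).natDegree = f₁.natDegree + f₂.natDegree := hf₁m.natDegree_mul hf₂m
      have h0 : f₁.coeff 0 * f₂.coeff 0 ≠ 0 := by rwa [← mul_coeff_zero]
      have hf₁0 : f₁.coeff 0 ≠ 0 := left_ne_zero_of_mul h0
      have hf₂0 : f₂.coeff 0 ≠ 0 := right_ne_zero_of_mul h0
      have hlt : f₂.natDegree < d := by
        have := hf₁i.natDegree_pos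
        omega
      obtain ⟨m₂, M₂, hM₂, k₂, hk₂, hk₂p, hM₂k⟩ := ih _ hlt f₂ hf₂m rfl hf₂0
      have : Fact (Irreducible f₁) := ⟨hf₁i⟩
      have hfin : Module.Finite F (AdjoinRoot f₁) := (AdjoinRoot.powerBasis hf₁i.ne_zero).finite
      have : Finite (AdjoinRoot f₁) := Module.finite_of_finite F
      have : Fintype (AdjoinRoot f₁) := Fintype.ofFinite _
      have : CharP (AdjoinRoot f₁) p :=
        charP_of_injective_algebraMap (algebraMap F (AdjoinRoot f₁)).injective p
      obtain ⟨e, -, hcard⟩ := FiniteField.card (AdjoinRoot f₁) p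
      have hroot : AdjoinRoot.root f₁ ≠ 0 := by
        intro h
        have h1 := AdjoinRoot.eval₂_root f₁
        rw [h, eval₂_at_zero] at h1
        exact hf₁0 ((map_eq_zero _).mp h1)
      have hpow : AdjoinRoot.root f₁ ^ (p ^ (e : ℕ) - 1) = 1 := by
        rw [← hcard]; exact FiniteField.pow_card_sub_one_eq_one _ hroot
      have hM₁ : (Algebra.leftMulMatrix (AdjoinRoot.powerBasis hf₁i.ne_zero).basis
          (AdjoinRoot.powerBasis hf₁i.ne_zero).gen).charpoly = f₁ := by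
        rw [_root_.charpoly_leftMulMatrix, AdjoinRoot.minpoly_powerBasis_gen_of_monic hf₁m]
      have hM₁k : (Algebra.leftMulMatrix (AdjoinRoot.powerBasis hf₁i.ne_zero).basis
          (AdjoinRoot.powerBasis hf₁i.ne_zero).gen) ^ (p ^ (e : ℕ) - 1) = 1 := by
        rw [← map_pow, AdjoinRoot.powerBasis_gen, hpow, map_one]
      have hp : p.Prime := Fact.out
      have hge : 2 ≤ p ^ (e : ℕ) := by
        calc 2 ≤ p := hp.two_le
          _ = p ^ 1 := (pow_one p).symm
          _ ≤ p ^ (e : ℕ) := Nat.pow_le_pow_right hp.pos e.pos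
      have hk₁p : (p ^ (e : ℕ) - 1).Coprime p := by
        rw [Nat.coprime_comm, hp.coprime_iff_not_dvd]
        intro hdvd
        have h2 : p ∣ p ^ (e : ℕ) := dvd_pow_self p e.pos.ne'
        have h3 : p ∣ p ^ (e : ℕ) - (p ^ (e : ℕ) - 1) := Nat.dvd_sub h2 hdvd
        have h4 : p ^ (e : ℕ) - (p ^ (e : ℕ) - 1) = 1 := by omega
        rw [h4] at h3
        exact hp.one_lt.ne' (Nat.dvd_one.mp h3)
      refine ⟨(AdjoinRoot.powerBasis hf₁i.ne_zero).dim + m₂,
        Matrix.reindexAlgEquiv F F finSumFinEquiv (Matrix.fromBlocks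
          (Algebra.leftMulMatrix (AdjoinRoot.powerBasis hf₁i.ne_zero).basis
            (AdjoinRoot.powerBasis hf₁i.ne_zero).gen) 0 0 M₂), ?_,
        (p ^ (e : ℕ) - 1) * k₂, Nat.mul_pos (by omega) hk₂, Nat.Coprime.mul_left hk₁p hk₂p, ?_⟩
      · rw [Matrix.coe_reindexAlgEquiv, Matrix.charpoly_reindex,
          Matrix.charpoly_fromBlocks_zero₁₂, hM₁, hM₂]
      · rw [← map_pow, fromBlocks_diag_pow, pow_mul, hM₁k, one_pow, mul_comm, pow_mul, hM₂k,
          one_pow, Matrix.fromBlocks_one, map_one]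

theorem exists_matrix_charpoly [Finite F] (p : ℕ) [Fact p.Prime] [CharP F p] (f : F[X])
    (hfm : f.Monic) (hf0 : f.coeff 0 ≠ 0) :
    ∃ M : Matrix (Fin f.natDegree) (Fin f.natDegree) F, M.charpoly = f ∧
      ∃ k, 0 < k ∧ k.Coprime p ∧ M ^ k = 1 := by
  obtain ⟨m, M, hM, hk⟩ := exists_matrix_of_monic p _ f hfm rfl hf0
  have hm : m = f.natDegree := by
    rw [← hM, Matrix.charpoly_natDegree_eq_dim, Fintype.card_fin]
  subst hm
  exact ⟨M, hM, hk⟩

end Exist



section Coeff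

variable {F : Type*} [Field F]

/-- The vector of the lower `n` coefficients of the characteristic polynomial. -/
noncomputable def coeffVec {n : ℕ} (M : Matrix (Fin n) (Fin n) F) : Fin n → F :=
  fun i => M.charpoly.coeff i

lemma eq_of_monic_of_coeff_eq {n : ℕ} {f g : F[X]} (hf : f.Monic) (hg : g.Monic)
    (hdf : f.natDegree = n) (hdg : g.natDegree = n) (h : ∀ i < n, f.coeff i = g.coeff i) :
    f = g := by
  ext j
  rcases lt_trichotomy j n with hj | hj | hj
  · exact h j hj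
  · have h1 : f.coeff n = 1 := by rw [← hdf]; exact hf.coeff_natDegree
    have h2 : g.coeff n = 1 := by rw [← hdg]; exact hg.coeff_natDegree
    rw [hj, h1, h2]
  · rw [coeff_eq_zero_of_natDegree_lt (by omega), coeff_eq_zero_of_natDegree_lt (by omega)]

lemma charpoly_eq_of_coeffVec_eq {n : ℕ} {M N : Matrix (Fin n) (Fin n) F}
    (h : coeffVec M = coeffVec N) : M.charpoly = N.charpoly := by
  apply eq_of_monic_of_coeff_eq (n := n) (Matrix.charpoly_monic M) (Matrix.charpoly_monic N)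
    (by simp) (by simp)
  intro i hi
  exact congrFun h ⟨i, hi⟩

lemma coeffVec_eq_of_charpoly_eq {n : ℕ} {M N : Matrix (Fin n) (Fin n) F}
    (h : M.charpoly = N.charpoly) : coeffVec M = coeffVec N := by
  unfold coeffVec; rw [h]

/-- The monic polynomial of degree `n` with given lower coefficients. -/
noncomputable def monicOfCoeffs {n : ℕ} (a : Fin n → F) : F[X] :=
  X ^ n + ∑ i : Fin n, C (a i) * X ^ (i : ℕ)

lemma monicOfCoeffs_monic {n : ℕ} (a : Fin n → F) : (monicOfCoeffs a).Monic :=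
  monic_X_pow_add (degree_sum_fin_lt a)

lemma monicOfCoeffs_natDegree {n : ℕ} (a : Fin n → F) : (monicOfCoeffs a).natDegree = n := by
  unfold monicOfCoeffs
  rw [natDegree_add_eq_left_of_degree_lt, natDegree_X_pow]
  rw [degree_X_pow]
  exact degree_sum_fin_lt a

lemma monicOfCoeffs_coeff {n : ℕ} (a : Fin n → F) (i : Fin n) :
    (monicOfCoeffs a).coeff i = a i := by
  unfold monicOfCoeffs
  rw [coeff_add, coeff_X_pow, if_neg (by omega : (i : ℕ) ≠ n), zero_add, finsetSum_coeff]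
  rw [Finset.sum_eq_single i]
  · simp
  · intro j _ hji
    rw [coeff_C_mul_X_pow, if_neg]
    intro h
    exact hji (Fin.ext h.symm)
  · simp

lemma coeffVec_zero {n : ℕ} (hn : 0 < n) (M : Matrix (Fin n) (Fin n) F) :
    coeffVec M ⟨0, hn⟩ = (-1) ^ n * M.det := by
  unfold coeffVec
  rw [Matrix.det_eq_sign_charpoly_coeff, Fintype.card_fin, ← mul_assoc, ← mul_pow]
  simp

end Coeff

section Classes

theorem card_classes_eq {G : Type*} [Group G] {T : Type*} (P : G → Prop) (χ : G → T)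
    (hχ : ∀ g h, IsConj g h → χ g = χ h)
    (hinj : ∀ g h, P g → P h → χ g = χ h → IsConj g h) (S : T → Prop)
    (hS : ∀ t, S t ↔ ∃ g, P g ∧ χ g = t) :
    Nat.card {c : ConjClasses G // ∃ g : G, ConjClasses.mk g = c ∧ P g}
      = Nat.card {t : T // S t} := by
  apply Nat.card_congr
  refine Equiv.ofBijective
    (fun c => ⟨χ c.2.choose, (hS _).mpr ⟨c.2.choose, c.2.choose_spec.2, rfl⟩⟩) ⟨?_, ?_⟩
  · rintro ⟨c, hc⟩ ⟨c', hc'⟩ h
    have h1 := congrArg Subtype.val h
    simp only at h1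
    apply Subtype.ext
    simp only
    rw [← hc.choose_spec.1, ← hc'.choose_spec.1, ConjClasses.mk_eq_mk_iff_isConj]
    exact hinj _ _ hc.choose_spec.2 hc'.choose_spec.2 h1
  · rintro ⟨t, ht⟩
    obtain ⟨g, hg, rfl⟩ := (hS t).mp ht
    refine ⟨⟨ConjClasses.mk g, g, rfl, hg⟩, ?_⟩
    apply Subtype.ext
    simp only
    apply hχ
    rw [← ConjClasses.mk_eq_mk_iff_isConj]
    exact (Exists.choose_spec (⟨g, rfl, hg⟩ :
      ∃ g', ConjClasses.mk g' = ConjClasses.mk g ∧ P g')).1

end Classes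

section Count

variable {F : Type*} [Field F] [Fintype F]

lemma card_vec_ne_zero (m : ℕ) :
    Nat.card {a : Fin (m + 1) → F // a 0 ≠ 0} = (Fintype.card F - 1) * Fintype.card F ^ m := by
  have e : {a : Fin (m + 1) → F // a 0 ≠ 0} ≃ {x : F // x ≠ 0} × (Fin m → F) :=
    { toFun := fun a => (⟨a.1 0, a.2⟩, Fin.tail a.1)
      invFun := fun x => ⟨Fin.cons x.1.1 x.2, by simpa using x.1.2⟩
      left_inv := fun a => Subtype.ext (Fin.cons_self_tail a.1)
      right_inv := fun x => by simp }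
  rw [Nat.card_congr e, Nat.card_prod, ← Nat.card_congr unitsEquivNeZero, Nat.card_units,
    Nat.card_eq_fintype_card, Nat.card_eq_fintype_card]
  simp

lemma card_vec_eq (m : ℕ) (c : F) :
    Nat.card {a : Fin (m + 1) → F // a 0 = c} = Fintype.card F ^ m := by
  have e : {a : Fin (m + 1) → F // a 0 = c} ≃ (Fin m → F) :=
    { toFun := fun a => Fin.tail a.1
      invFun := fun t => ⟨Fin.cons c t, Fin.cons_zero ..⟩
      left_inv := fun a => by
        obtain ⟨a, rfl⟩ := a
        exact Subtype.ext (Fin.cons_self_tail a)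
      right_inv := fun t => by simp }
  rw [Nat.card_congr e, Nat.card_eq_fintype_card]
  simp

end Count



section GLSL

variable {F : Type*} [Field F] [Finite F] (p : ℕ) [Fact p.Prime] [CharP F p]

theorem exists_matrix_coeffVec {n : ℕ} (a : Fin n → F) (h0 : ∀ h : 0 < n, a ⟨0, h⟩ ≠ 0) :
    ∃ M : Matrix (Fin n) (Fin n) F, coeffVec M = a ∧ ∃ k, 0 < k ∧ k.Coprime p ∧ M ^ k = 1 := by
  have hf0 : (monicOfCoeffs a).coeff 0 ≠ 0 := by
    rcases Nat.eq_zero_or_pos n with hn | hn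
    · subst hn; simp [monicOfCoeffs]
    · have := monicOfCoeffs_coeff a ⟨0, hn⟩
      rw [this]
      exact h0 hn
  obtain ⟨m, M, hM, hk⟩ := exists_matrix_of_monic p _ (monicOfCoeffs a) (monicOfCoeffs_monic a)
    rfl hf0
  have hm : m = n := by
    rw [← monicOfCoeffs_natDegree a, ← hM, Matrix.charpoly_natDegree_eq_dim, Fintype.card_fin]
  subst hm
  refine ⟨M, ?_, hk⟩
  funext i
  unfold coeffVec
  rw [hM, monicOfCoeffs_coeff]

lemma gl_coeffVec_eq_of_isConj {n : ℕ} (g h : GL (Fin n) F) (hc : IsConj g h) :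
    coeffVec (g : Matrix (Fin n) (Fin n) F) = coeffVec (h : Matrix (Fin n) (Fin n) F) := by
  obtain ⟨c, rfl⟩ := isConj_iff.mp hc
  apply coeffVec_eq_of_charpoly_eq
  simp

theorem gl_isConj_of_coeffVec_eq {n : ℕ} (g h : GL (Fin n) F) (hg : (orderOf g).Coprime p)
    (hh : (orderOf h).Coprime p)
    (hc : coeffVec (g : Matrix (Fin n) (Fin n) F) = coeffVec (h : Matrix (Fin n) (Fin n) F)) :
    IsConj g h := by
  have hgs : Module.End.IsSemisimple (toLin' (g : Matrix (Fin n) (Fin n) F)) :=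
    isSemisimple_toLin'_of_pow_eq_one _ _ (natCast_ne_zero_of_coprime p hg) (by
      rw [← Units.val_pow_eq_pow_val, pow_orderOf_eq_one]; rfl)
  have hhs : Module.End.IsSemisimple (toLin' (h : Matrix (Fin n) (Fin n) F)) :=
    isSemisimple_toLin'_of_pow_eq_one _ _ (natCast_ne_zero_of_coprime p hh) (by
      rw [← Units.val_pow_eq_pow_val, pow_orderOf_eq_one]; rfl)
  obtain ⟨P, hP, hPM⟩ := exists_conj_matrix _ _ hgs hhs (charpoly_eq_of_coeffVec_eq hc)
  obtain ⟨u, rfl⟩ := (Matrix.isUnit_iff_isUnit_det P).mpr hP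
  rw [isConj_iff]
  refine ⟨u, ?_⟩
  rw [mul_inv_eq_iff_eq_mul]
  apply Units.ext
  simp only [Units.val_mul]
  exact hPM

theorem gl_exists_coeffVec {n : ℕ} (hn : 0 < n) (a : Fin n → F) (h0 : a ⟨0, hn⟩ ≠ 0) :
    ∃ g : GL (Fin n) F, (orderOf g).Coprime p ∧ coeffVec (g : Matrix (Fin n) (Fin n) F) = a := by
  obtain ⟨M, hM, k, hk, hkp, hMk⟩ := exists_matrix_coeffVec p a (fun _ => h0)
  refine ⟨Units.ofPowEqOne M k hMk hk.ne', ?_, hM⟩
  exact Nat.Coprime.coprime_dvd_left (orderOf_dvd_of_pow_eq_one (Units.pow_ofPowEqOne hMk hk.ne'))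
    hkp

omit [Finite F] [Fact p.Prime] [CharP F p] in
lemma gl_coeffVec_zero_ne {n : ℕ} (hn : 0 < n) (g : GL (Fin n) F) :
    coeffVec (g : Matrix (Fin n) (Fin n) F) ⟨0, hn⟩ ≠ 0 := by
  rw [coeffVec_zero hn]
  have hd : (g : Matrix (Fin n) (Fin n) F).det ≠ 0 :=
    ((Matrix.isUnit_iff_isUnit_det _).mp g.isUnit).ne_zero
  exact mul_ne_zero (pow_ne_zero _ (neg_ne_zero.mpr one_ne_zero)) hd

/-- The number of classes of elements of order prime to `p` in `GL_n(q)`. -/
theorem gl_card_semisimple_classes [Fintype F] (m : ℕ) :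
    Nat.card {c : ConjClasses (GL (Fin (m + 1)) F) // ∃ g : GL (Fin (m + 1)) F,
      ConjClasses.mk g = c ∧ (orderOf g).Coprime p}
      = (Fintype.card F - 1) * Fintype.card F ^ m := by
  rw [← card_vec_ne_zero]
  exact card_classes_eq (fun g : GL (Fin (m + 1)) F => (orderOf g).Coprime p)
    (fun g => coeffVec (g : Matrix (Fin (m + 1)) (Fin (m + 1)) F))
    (fun g h hc => gl_coeffVec_eq_of_isConj g h hc)
    (fun g h hg hh hc => gl_isConj_of_coeffVec_eq p g h hg hh hc)
    (fun a => a 0 ≠ 0)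
    (fun a => ⟨fun ha => gl_exists_coeffVec p (Nat.succ_pos m) a ha, by
      rintro ⟨g, -, rfl⟩
      exact gl_coeffVec_zero_ne (Nat.succ_pos m) g⟩)

lemma sl_coeffVec_eq_of_isConj {n : ℕ} (g h : Matrix.SpecialLinearGroup (Fin n) F)
    (hc : IsConj g h) :
    coeffVec (g : Matrix (Fin n) (Fin n) F) = coeffVec (h : Matrix (Fin n) (Fin n) F) := by
  obtain ⟨c, rfl⟩ := isConj_iff.mp hc
  apply coeffVec_eq_of_charpoly_eq
  apply charpoly_eq_of_mul_eq (c : Matrix (Fin n) (Fin n) F)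
  · rw [c.det_coe]; exact isUnit_one
  · rw [← Matrix.SpecialLinearGroup.coe_mul, ← Matrix.SpecialLinearGroup.coe_mul]
    rw [inv_mul_cancel_right]

theorem sl_isConj_of_coeffVec_eq {n : ℕ} (g h : Matrix.SpecialLinearGroup (Fin n) F)
    (hg : (orderOf g).Coprime p) (hh : (orderOf h).Coprime p)
    (hc : coeffVec (g : Matrix (Fin n) (Fin n) F) = coeffVec (h : Matrix (Fin n) (Fin n) F)) :
    IsConj g h :=
  sl_isConj_of_charpoly_eq p n g h _ _ hg hh (pow_orderOf_eq_one g) (pow_orderOf_eq_one h)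
    (charpoly_eq_of_coeffVec_eq hc)

theorem sl_exists_coeffVec {n : ℕ} (hn : 0 < n) (a : Fin n → F) (h0 : a ⟨0, hn⟩ = (-1) ^ n) :
    ∃ g : Matrix.SpecialLinearGroup (Fin n) F, (orderOf g).Coprime p ∧
      coeffVec (g : Matrix (Fin n) (Fin n) F) = a := by
  obtain ⟨M, hM, k, hk, hkp, hMk⟩ := exists_matrix_coeffVec p a (fun _ => by
    rw [h0]; exact pow_ne_zero _ (neg_ne_zero.mpr one_ne_zero))
  have hdet : M.det = 1 := by
    have h1 := coeffVec_zero hn M
    rw [hM, h0] at h1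
    have h2 : ((-1 : F) ^ n) * ((-1) ^ n * M.det) = M.det := by
      rw [← mul_assoc, ← mul_pow]; simp
    rw [← h2, ← h1, ← mul_pow]; simp
  obtain ⟨g, hg⟩ : ∃ g : Matrix.SpecialLinearGroup (Fin n) F,
      (g : Matrix (Fin n) (Fin n) F) = M := ⟨⟨M, hdet⟩, rfl⟩
  refine ⟨g, ?_, by rw [hg, hM]⟩
  have hgk : g ^ k = 1 := by
    apply Subtype.ext
    rw [Matrix.SpecialLinearGroup.coe_pow, hg, hMk]; rfl
  exact Nat.Coprime.coprime_dvd_left (orderOf_dvd_of_pow_eq_one hgk) hkp

omit [Finite F] [Fact p.Prime] [CharP F p] in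
lemma sl_coeffVec_zero {n : ℕ} (hn : 0 < n) (g : Matrix.SpecialLinearGroup (Fin n) F) :
    coeffVec (g : Matrix (Fin n) (Fin n) F) ⟨0, hn⟩ = (-1) ^ n := by
  rw [coeffVec_zero hn, g.det_coe, mul_one]

/-- The number of classes of elements of order prime to `p` in `SL_n(q)`. -/
theorem sl_card_semisimple_classes [Fintype F] (m : ℕ) :
    Nat.card {c : ConjClasses (Matrix.SpecialLinearGroup (Fin (m + 1)) F) //
      ∃ g : Matrix.SpecialLinearGroup (Fin (m + 1)) F,
      ConjClasses.mk g = c ∧ (orderOf g).Coprime p}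
      = Fintype.card F ^ m := by
  rw [← card_vec_eq m ((-1 : F) ^ (m + 1))]
  exact card_classes_eq (fun g : Matrix.SpecialLinearGroup (Fin (m + 1)) F => (orderOf g).Coprime p)
    (fun g => coeffVec (g : Matrix (Fin (m + 1)) (Fin (m + 1)) F))
    (fun g h hc => sl_coeffVec_eq_of_isConj g h hc)
    (fun g h hg hh hc => sl_isConj_of_coeffVec_eq p g h hg hh hc)
    (fun a => a 0 = (-1) ^ (m + 1))
    (fun a => ⟨fun ha => sl_exists_coeffVec p (Nat.succ_pos m) a ha, by
      rintro ⟨g, -, rfl⟩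
      exact sl_coeffVec_zero (Nat.succ_pos m) g⟩)

end GLSL

end Cfsg.Agent.Lib.Helper47
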