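import Cfsg.Agent.Lib.Helper47.SpConj
import Cfsg.Agent.Lib.Helper47.SemiCount

/-!
# The number of semisimple classes of `Sp_{2n}(q)` is `q^n`

Upper bound: palindromic characteristic polynomials (`sp_charpoly_reverse`) and conjugacy by
characteristic polynomial. Lower bound: for every monic `h` of degree `n`, the isometry
`(a, b) ↦ (-b, a + x b)` of the alternating form on `R × R`, `R = F[X]/(h)`, transported to the
standard form; a Frobenius power of it is a `p'`-element `s` with `charpoly (s + s⁻¹) = h²`.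
-/

set_option autoImplicit false

namespace Cfsg.Agent.Lib.Helper47

open Polynomial Module Matrix

section SpPal

variable {F : Type*} [Field F] {l : Type*} [Fintype l] [DecidableEq l]

/-- The characteristic polynomial of a symplectic matrix is palindromic. -/
lemma sp_charpoly_reverse {A : Matrix (l ⊕ l) (l ⊕ l) F} (hA : A ∈ Matrix.symplecticGroup l F) :
    A.charpoly.reverse = A.charpoly := by
  have hdet : A.det = 1 := SymplecticGroup.det_eq_one hA
  have hu : IsUnit A := (Matrix.isUnit_iff_isUnit_det A).mpr (by rw [hdet]; exact isUnit_one)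
  have h1 := Matrix.charpoly_inv A hu
  rw [hdet, Ring.inverse_one, map_one, mul_one, ← Matrix.reverse_charpoly] at h1
  have hcard : (-1 : F[X]) ^ Fintype.card (l ⊕ l) = 1 := by
    rw [Fintype.card_sum, ← two_mul, pow_mul]; simp
  rw [hcard, one_mul] at h1
  rw [← h1]
  have h2 : A⁻¹ = (-J l F) * Aᵀ * J l F := by
    have := SymplecticGroup.coe_inv' (⟨A, hA⟩ : Matrix.symplecticGroup l F)
    rw [← this]; rfl
  have hJu : IsUnit (J l F) := (Matrix.isUnit_iff_isUnit_det _).mpr (isUnit_det_J l F)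
  obtain ⟨u, hu'⟩ := hJu
  have h3 : (-J l F) = (u : Matrix (l ⊕ l) (l ⊕ l) F)⁻¹ := by rw [hu', J_inv]
  rw [h2, h3, ← hu', Matrix.charpoly_units_conj', Matrix.charpoly_transpose]

omit [DecidableEq l] [Fintype l] in
lemma eq_of_palindromic {n : ℕ} {f₁ f₂ : F[X]} (hm₁ : f₁.Monic) (hm₂ : f₂.Monic)
    (hd₁ : f₁.natDegree = 2 * n) (hd₂ : f₂.natDegree = 2 * n) (hr₁ : f₁.reverse = f₁)
    (hr₂ : f₂.reverse = f₂) (h : ∀ i, 1 ≤ i → i ≤ n → f₁.coeff i = f₂.coeff i) : f₁ = f₂ := by
  have key : ∀ (f : F[X]), f.natDegree = 2 * n → f.reverse = f → ∀ j ≤ 2 * n,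
      f.coeff j = f.coeff (2 * n - j) := by
    intro f hd hr j hj
    conv_lhs => rw [← hr]
    rw [coeff_reverse, hd, revAt_le hj]
  have h0 : ∀ (f : F[X]), f.Monic → f.natDegree = 2 * n → f.reverse = f → f.coeff 0 = 1 := by
    intro f hm hd hr
    rw [key f hd hr 0 (Nat.zero_le _), Nat.sub_zero, ← hd]
    exact hm.coeff_natDegree
  apply eq_of_monic_of_coeff_eq (n := 2 * n) hm₁ hm₂ hd₁ hd₂
  intro i hi
  rcases Nat.eq_zero_or_pos i with rfl | hpos
  · rw [h0 f₁ hm₁ hd₁ hr₁, h0 f₂ hm₂ hd₂ hr₂]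
  · by_cases hin : i ≤ n
    · exact h i hpos hin
    · rw [key f₁ hd₁ hr₁ i hi.le, key f₂ hd₂ hr₂ i hi.le]
      exact h (2 * n - i) (by omega) (by omega)

end SpPal

section Frob

variable {F : Type*} [Field F] (h : F[X]) (hh : h.Monic)

/-- The top-coefficient functional on `F[X]/(h)`. -/
noncomputable def frobFun : AdjoinRoot h →ₗ[F] F :=
  (Polynomial.lcoeff F (h.natDegree - 1)).comp (AdjoinRoot.modByMonicHom hh)

lemma frob_nondeg (a : AdjoinRoot h) (ha : ∀ b, frobFun h hh (a * b) = 0) : a = 0 := by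
  by_contra ha0
  obtain ⟨p, hp⟩ : ∃ p, p = AdjoinRoot.modByMonicHom hh a := ⟨_, rfl⟩
  have hmk : AdjoinRoot.mk h p = a := by rw [hp]; exact AdjoinRoot.mk_leftInverse hh a
  have hp0 : p ≠ 0 := by
    rintro h0
    rw [h0, map_zero] at hmk
    exact ha0 hmk.symm
  have hdeg : p.degree < h.degree := by
    obtain ⟨q, rfl⟩ := AdjoinRoot.mk_surjective a
    rw [hp, AdjoinRoot.modByMonicHom_mk]
    exact degree_modByMonic_lt q hh
  have hnat : p.natDegree < h.natDegree := natDegree_lt_natDegree hp0 hdeg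
  obtain ⟨m, hm⟩ : ∃ m, h.natDegree - 1 = p.natDegree + m := ⟨h.natDegree - 1 - p.natDegree, by omega⟩
  have key := ha (AdjoinRoot.mk h (X ^ m))
  rw [← hmk, ← map_mul, frobFun, LinearMap.comp_apply, AdjoinRoot.modByMonicHom_mk] at key
  have hlt : (p * X ^ m).degree < h.degree := by
    rw [degree_mul, degree_X_pow, degree_eq_natDegree hp0, degree_eq_natDegree hh.ne_zero]
    norm_cast
    omega
  rw [(modByMonic_eq_self_iff hh).mpr hlt, lcoeff_apply, hm, coeff_mul_X_pow] at key
  exact hp0 (leadingCoeff_eq_zero.mp key)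

/-- The alternating form on `R × R`, `R = F[X]/(h)`. -/
noncomputable def frobForm (x y : AdjoinRoot h × AdjoinRoot h) : F :=
  frobFun h hh (x.1 * y.2 - x.2 * y.1)

lemma frobForm_isSForm : IsSForm (RingHom.id F) (-1) (frobForm h hh) where
  add_left x y z := by
    simp only [frobForm, Prod.fst_add, Prod.snd_add]
    rw [← map_add]; congr 1; ring
  smul_left c x y := by
    simp only [frobForm, Prod.smul_fst, Prod.smul_snd]
    rw [smul_mul_assoc, smul_mul_assoc, ← smul_sub, map_smul, smul_eq_mul]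
  symm x y := by
    simp only [frobForm, RingHom.id_apply]
    rw [neg_one_mul, ← map_neg]; congr 1; ring

lemma frobForm_nondeg : Nondeg (frobForm h hh) := by
  rintro ⟨a, b⟩ hx
  have ha : a = 0 := frob_nondeg h hh a (fun b' => by
    have := hx (0, b')
    simpa [frobForm] using this)
  have hb : b = 0 := frob_nondeg h hh b (fun a' => by
    have := hx (a', 0)
    simpa [frobForm] using this)
  rw [ha, hb]; rfl

lemma frobForm_alt (x : AdjoinRoot h × AdjoinRoot h) : frobForm h hh x x = 0 := by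
  simp [frobForm, mul_comm]

/-- `(a, b) ↦ (-b, a + x b)`. -/
noncomputable def frobIso : Module.End F (AdjoinRoot h × AdjoinRoot h) :=
  LinearMap.prod (-(LinearMap.snd F _ _))
    (LinearMap.fst F _ _ + (LinearMap.mulLeft F (AdjoinRoot.root h)).comp (LinearMap.snd F _ _))

/-- `(c, d) ↦ (d + x c, -c)`, the inverse of `frobIso`. -/
noncomputable def frobIsoInv : Module.End F (AdjoinRoot h × AdjoinRoot h) :=
  LinearMap.prod
    (LinearMap.snd F _ _ + (LinearMap.mulLeft F (AdjoinRoot.root h)).comp (LinearMap.fst F _ _))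
    (-(LinearMap.fst F _ _))

lemma frobIso_apply (x : AdjoinRoot h × AdjoinRoot h) :
    frobIso h x = (-x.2, x.1 + AdjoinRoot.root h * x.2) := rfl

lemma frobIsoInv_apply (x : AdjoinRoot h × AdjoinRoot h) :
    frobIsoInv h x = (x.2 + AdjoinRoot.root h * x.1, -x.1) := rfl

lemma frobIso_mul_inv : frobIso h * frobIsoInv h = 1 := by
  apply LinearMap.ext
  intro x
  rw [Module.End.mul_apply, frobIsoInv_apply, frobIso_apply]
  ext <;> simp

lemma frobIsoInv_mul : frobIsoInv h * frobIso h = 1 := by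
  apply LinearMap.ext
  intro x
  rw [Module.End.mul_apply, frobIso_apply, frobIsoInv_apply]
  ext <;> simp

lemma frobIso_isometry (x y : AdjoinRoot h × AdjoinRoot h) :
    frobForm h hh (frobIso h x) (frobIso h y) = frobForm h hh x y := by
  simp only [frobForm, frobIso_apply]
  congr 1; ring

lemma frobIso_add_inv : frobIso h + frobIsoInv h
    = (LinearMap.mulLeft F (AdjoinRoot.root h)).prodMap (LinearMap.mulLeft F (AdjoinRoot.root h)) := by
  apply LinearMap.ext
  intro x
  rw [LinearMap.add_apply, frobIso_apply, frobIsoInv_apply]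
  ext <;> simp

include hh in
lemma charpoly_mulLeft_root [Module.Finite F (AdjoinRoot h)] :
    (LinearMap.mulLeft F (AdjoinRoot.root h)).charpoly = h := by
  have h1 := _root_.charpoly_leftMulMatrix (AdjoinRoot.powerBasis hh.ne_zero)
  rw [AdjoinRoot.minpoly_powerBasis_gen_of_monic hh, ← Algebra.toMatrix_lmul_eq,
    LinearMap.charpoly_toMatrix] at h1
  exact h1

end Frob



section SpExist

variable {F : Type*} [Field F]

lemma charpoly_pow_card_pow [Fintype F] {ι : Type*} [Fintype ι] [DecidableEq ι]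
    (M : Matrix ι ι F) (k : ℕ) : (M ^ (Fintype.card F ^ k)).charpoly = M.charpoly := by
  induction k with
  | zero => simp
  | succ k ih => rw [pow_succ, pow_mul, FiniteField.Matrix.charpoly_pow_card, ih]

theorem sp_exists_of_monic [Finite F] (p : ℕ) [Fact p.Prime] [CharP F p] (n : ℕ) (h : F[X])
    (hh : h.Monic) (hdeg : h.natDegree = n) :
    ∃ s : Matrix.symplecticGroup (Fin n) F, (orderOf s).Coprime p ∧
      ((s : Matrix (Fin n ⊕ Fin n) (Fin n ⊕ Fin n) F)
        + ((s⁻¹ : Matrix.symplecticGroup (Fin n) F) : Matrix (Fin n ⊕ Fin n) (Fin n ⊕ Fin n) F)).charpoly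
        = h * h := by
  classical
  have hfinF : Fintype F := Fintype.ofFinite F
  have hp : p.Prime := Fact.out
  rcases Nat.eq_zero_or_pos n with rfl | hn
  · refine ⟨1, by simp, ?_⟩
    have h1 : h = 1 := hh.natDegree_eq_zero.mp hdeg
    rw [h1, mul_one]
    exact Matrix.charpoly_isEmpty
  have hfd : Module.Finite F (AdjoinRoot h) := (AdjoinRoot.powerBasis hh.ne_zero).finite
  have hfr : finrank F (AdjoinRoot h) = n := by
    rw [(AdjoinRoot.powerBasis hh.ne_zero).finrank, AdjoinRoot.powerBasis_dim, hdeg]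
  have hcp : (LinearMap.id : Module.End F (AdjoinRoot h × AdjoinRoot h)).charpoly
      = (LinearMap.id : Module.End F (Fin n ⊕ Fin n → F)).charpoly := by
    have e1 : (LinearMap.id : Module.End F (AdjoinRoot h × AdjoinRoot h)) = 1 := rfl
    have e2 : (LinearMap.id : Module.End F (Fin n ⊕ Fin n → F)) = 1 := rfl
    rw [e1, e2, LinearMap.charpoly_one, LinearMap.charpoly_one, Module.finrank_prod, hfr,
      Module.finrank_fintype_fun_eq_card, Fintype.card_sum, Fintype.card_fin]
  obtain ⟨Θ, -, hΘ⟩ := exists_isometry_conj (σ := RingHom.id F) (ε := -1) (fun _ => rfl)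
    (Or.inl ⟨rfl, rfl⟩) _ (AdjoinRoot h × AdjoinRoot h) (Fin n ⊕ Fin n → F) (frobForm h hh)
    (spForm (Fin n) F) LinearMap.id LinearMap.id rfl (frobForm_isSForm h hh) spForm_isSForm
    (frobForm_nondeg h hh) spForm_nondeg (fun _ => frobForm_alt h hh) (fun _ => spForm_alt)
    Module.End.isSemisimple_id Module.End.isSemisimple_id (fun _ _ => rfl) (fun _ _ => rfl) hcp
  obtain ⟨A, hAdef⟩ : ∃ A, A = LinearMap.toMatrix' (Θ.conj (frobIso h)) := ⟨_, rfl⟩
  obtain ⟨A', hA'def⟩ : ∃ A', A' = LinearMap.toMatrix' (Θ.conj (frobIsoInv h)) := ⟨_, rfl⟩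
  have hAA' : A * A' = 1 := by
    rw [hAdef, hA'def, ← LinearMap.toMatrix'_mul, Module.End.mul_eq_comp, ← LinearEquiv.conj_comp,
      ← Module.End.mul_eq_comp, frobIso_mul_inv]
    have : (1 : Module.End F (AdjoinRoot h × AdjoinRoot h)) = LinearMap.id := rfl
    rw [this, LinearEquiv.conj_id, LinearMap.toMatrix'_id]
  have hA'A : A' * A = 1 := mul_eq_one_comm.mp hAA'
  have hA : A ∈ Matrix.symplecticGroup (Fin n) F := by
    apply mem_sp_of_isometry
    intro x y
    rw [hAdef, ← Matrix.toLin'_apply, ← Matrix.toLin'_apply, Matrix.toLin'_toMatrix',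
      LinearEquiv.conj_apply_apply, LinearEquiv.conj_apply_apply, hΘ, frobIso_isometry, ← hΘ,
      LinearEquiv.apply_symm_apply, LinearEquiv.apply_symm_apply]
  obtain ⟨a, ha⟩ : ∃ a : Matrix.symplecticGroup (Fin n) F,
      (a : Matrix (Fin n ⊕ Fin n) (Fin n ⊕ Fin n) F) = A := ⟨⟨A, hA⟩, rfl⟩
  have hainv : ((a⁻¹ : Matrix.symplecticGroup (Fin n) F) : Matrix (Fin n ⊕ Fin n) (Fin n ⊕ Fin n) F)
      = A' := by
    rw [SymplecticGroup.coe_inv', ha]
    exact Matrix.inv_eq_right_inv hAA'
  have hfin : Finite (Matrix.symplecticGroup (Fin n) F) := Subtype.finite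
  obtain ⟨b, -, hcard⟩ := FiniteField.card F p
  have hk0 : orderOf a ≠ 0 := (orderOf_pos a).ne'
  refine ⟨a ^ (Fintype.card F ^ orderOf a), ?_, ?_⟩
  · have hdvd : orderOf a ∣ Fintype.card F ^ orderOf a * ordCompl[p] (orderOf a) := by
      conv_lhs => rw [← Nat.ordProj_mul_ordCompl_eq_self (orderOf a) p]
      apply Nat.mul_dvd_mul _ dvd_rfl
      rw [hcard, ← pow_mul]
      apply pow_dvd_pow
      have h1 := Nat.factorization_lt p hk0
      have h2 : orderOf a ≤ (b : ℕ) * orderOf a := Nat.le_mul_of_pos_left _ b.pos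
      omega
    have hpow : (a ^ (Fintype.card F ^ orderOf a)) ^ ordCompl[p] (orderOf a) = 1 := by
      rw [← pow_mul]
      exact orderOf_dvd_iff_pow_eq_one.mp hdvd
    exact Nat.Coprime.coprime_dvd_left (orderOf_dvd_of_pow_eq_one hpow)
      (Nat.coprime_ordCompl hp hk0).symm
  · have hnonempty : Nonempty (Fin n ⊕ Fin n) := ⟨Sum.inl ⟨0, hn⟩⟩
    have e1 : ((a ^ (Fintype.card F ^ orderOf a) : Matrix.symplecticGroup (Fin n) F) :
        Matrix (Fin n ⊕ Fin n) (Fin n ⊕ Fin n) F) = A ^ (Fintype.card F ^ orderOf a) := by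
      rw [SubmonoidClass.coe_pow, ha]
    have e2 : (((a ^ (Fintype.card F ^ orderOf a))⁻¹ : Matrix.symplecticGroup (Fin n) F) :
        Matrix (Fin n ⊕ Fin n) (Fin n ⊕ Fin n) F) = A' ^ (Fintype.card F ^ orderOf a) := by
      rw [← inv_pow, SubmonoidClass.coe_pow, hainv]
    have e3 : A ^ (Fintype.card F ^ orderOf a) + A' ^ (Fintype.card F ^ orderOf a)
        = (A + A') ^ (Fintype.card F ^ orderOf a) := by
      rw [hcard, ← pow_mul]
      have hcomm : Commute A A' := by rw [Commute, SemiconjBy, hAA', hA'A]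
      exact (add_pow_char_pow_of_commute p _ hcomm).symm
    rw [e1, e2, e3, charpoly_pow_card_pow]
    have e4 : A + A' = LinearMap.toMatrix' (Θ.conj (frobIso h + frobIsoInv h)) := by
      rw [hAdef, hA'def, map_add, map_add]
    rw [e4, ← Matrix.charpoly_toLin', Matrix.toLin'_toMatrix', LinearEquiv.charpoly_conj,
      frobIso_add_inv, LinearMap.charpoly_prodMap, charpoly_mulLeft_root h hh]

end SpExist

section SpCountMain

variable {F : Type*} [Field F] [Fintype F]

omit [Fintype F] in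
lemma sp_inv_charpoly_of_isConj {n : ℕ} {s t : Matrix.symplecticGroup (Fin n) F}
    (hc : IsConj s t) :
    ((s : Matrix (Fin n ⊕ Fin n) (Fin n ⊕ Fin n) F)
        + ((s⁻¹ : Matrix.symplecticGroup (Fin n) F) : Matrix (Fin n ⊕ Fin n) (Fin n ⊕ Fin n) F)).charpoly
      = ((t : Matrix (Fin n ⊕ Fin n) (Fin n ⊕ Fin n) F)
        + ((t⁻¹ : Matrix.symplecticGroup (Fin n) F) : Matrix (Fin n ⊕ Fin n) (Fin n ⊕ Fin n) F)).charpoly := by
  obtain ⟨c, rfl⟩ := isConj_iff.mp hc
  apply charpoly_eq_of_mul_eq (c : Matrix (Fin n ⊕ Fin n) (Fin n ⊕ Fin n) F)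
  · rw [SymplecticGroup.det_eq_one c.2]; exact isUnit_one
  · have e1 : (c * s * c⁻¹)⁻¹ = c * s⁻¹ * c⁻¹ := by group
    rw [e1, mul_add, add_mul]
    congr 1
    · rw [← Submonoid.coe_mul, ← Submonoid.coe_mul]
      congr 1
      group
    · rw [← Submonoid.coe_mul, ← Submonoid.coe_mul]
      congr 1
      group

/-- The number of classes of elements of order prime to `p` in `Sp_{2n}(q)` is `q^n`. -/
theorem sp_card_semisimple_classes (p : ℕ) [Fact p.Prime] [CharP F p] (n : ℕ) :
    Nat.card {c : ConjClasses (Matrix.symplecticGroup (Fin n) F) //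
      ∃ g : Matrix.symplecticGroup (Fin n) F, ConjClasses.mk g = c ∧ (orderOf g).Coprime p}
      = Fintype.card F ^ n := by
  classical
  have hcardfun : Nat.card (Fin n → F) = Fintype.card F ^ n := by
    rw [Nat.card_eq_fintype_card]; simp
  have hfinG : Finite (Matrix.symplecticGroup (Fin n) F) := Subtype.finite
  have hfinC : Finite (ConjClasses (Matrix.symplecticGroup (Fin n) F)) :=
    Finite.of_surjective _ ConjClasses.mk_surjective
  apply le_antisymm
  · rw [← hcardfun]
    apply Nat.card_le_card_of_injective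
      (fun c : {c : ConjClasses (Matrix.symplecticGroup (Fin n) F) //
        ∃ g : Matrix.symplecticGroup (Fin n) F, ConjClasses.mk g = c ∧ (orderOf g).Coprime p} =>
        fun i : Fin n => (c.2.choose : Matrix (Fin n ⊕ Fin n) (Fin n ⊕ Fin n) F).charpoly.coeff
          ((i : ℕ) + 1))
    rintro ⟨c, hc⟩ ⟨c', hc'⟩ h
    apply Subtype.ext
    simp only
    rw [← hc.choose_spec.1, ← hc'.choose_spec.1, ConjClasses.mk_eq_mk_iff_isConj]
    apply sp_isConj_of_charpoly_eq p n _ _ _ _ hc.choose_spec.2 hc'.choose_spec.2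
      (pow_orderOf_eq_one _) (pow_orderOf_eq_one _)
    apply eq_of_palindromic (n := n) (Matrix.charpoly_monic _) (Matrix.charpoly_monic _)
      (by rw [Matrix.charpoly_natDegree_eq_dim, Fintype.card_sum, Fintype.card_fin]; ring)
      (by rw [Matrix.charpoly_natDegree_eq_dim, Fintype.card_sum, Fintype.card_fin]; ring)
      (sp_charpoly_reverse hc.choose.2) (sp_charpoly_reverse hc'.choose.2)
    intro i hi1 hin
    have := congrFun h ⟨i - 1, by omega⟩
    simp only at this
    rwa [Nat.sub_add_cancel hi1] at this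
  · rw [← hcardfun]
    have hex : ∀ a : Fin n → F, ∃ s : Matrix.symplecticGroup (Fin n) F, (orderOf s).Coprime p ∧
        ((s : Matrix (Fin n ⊕ Fin n) (Fin n ⊕ Fin n) F)
          + ((s⁻¹ : Matrix.symplecticGroup (Fin n) F) :
            Matrix (Fin n ⊕ Fin n) (Fin n ⊕ Fin n) F)).charpoly
          = monicOfCoeffs a * monicOfCoeffs a := fun a =>
      sp_exists_of_monic p n (monicOfCoeffs a) (monicOfCoeffs_monic a) (monicOfCoeffs_natDegree a)
    choose sf hsf1 hsf2 using hex
    apply Nat.card_le_card_of_injective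
      (fun a : Fin n → F => (⟨ConjClasses.mk (sf a), sf a, rfl, hsf1 a⟩ :
        {c : ConjClasses (Matrix.symplecticGroup (Fin n) F) //
          ∃ g : Matrix.symplecticGroup (Fin n) F, ConjClasses.mk g = c ∧ (orderOf g).Coprime p}))
    intro a b hab
    have h1 : ConjClasses.mk (sf a) = ConjClasses.mk (sf b) := congrArg Subtype.val hab
    rw [ConjClasses.mk_eq_mk_iff_isConj] at h1
    have h2 := sp_inv_charpoly_of_isConj h1
    rw [hsf2, hsf2, ← pow_two, ← pow_two] at h2
    have h3 : monicOfCoeffs a = monicOfCoeffs b := by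
      rcases eq_or_eq_neg_of_sq_eq_sq _ _ h2 with h | h
      · exact h
      · have hl := congrArg Polynomial.leadingCoeff h
        rw [leadingCoeff_neg, (monicOfCoeffs_monic a).leadingCoeff,
          (monicOfCoeffs_monic b).leadingCoeff] at hl
        rw [h]
        have : -monicOfCoeffs b = C (-1 : F) * monicOfCoeffs b := by simp
        rw [this, ← hl]; simp
    funext i
    rw [← monicOfCoeffs_coeff a i, ← monicOfCoeffs_coeff b i, h3]

end SpCountMain

end Cfsg.Agent.Lib.Helper47
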