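import Cfsg.Agent.Lib.Helper47.GUPrime
import Cfsg.Agent.Lib.Helper47.SpCount

/-!
# Classes of elements of odd prime order in `Sp_{2m}(q)`

The classes of elements of order `r` are parametrised by the self-reciprocal products of
cyclotomic factors; existence of an element with a prescribed palindromic characteristic
polynomial comes from the count `q^m` of semisimple classes.
-/

set_option autoImplicit false
set_option linter.unusedSectionVars false

namespace Cfsg.Agent.Lib.Helper47

open Polynomial UniqueFactorizationMonoid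

section General

variable {F : Type*} [Field F] {r : ℕ}

lemma charpoly_factors_of_pow_eq_one' (p : ℕ) [Fact p.Prime] [CharP F p] {ι : Type*}
    [Fintype ι] [DecidableEq ι] (hr : r.Prime) (hrp : r ≠ p) (M : Matrix ι ι F)
    (hM : M ^ r = 1) :
    ∃ (c : ℕ) (s : Multiset F[X]), (∀ f ∈ s, IsCycFactor r f) ∧
      M.charpoly = (X - 1) ^ c * s.prod := by
  obtain ⟨e⟩ : Nonempty (ι ≃ Fin (Fintype.card ι)) := ⟨Fintype.equivFin ι⟩
  have h1 : (Matrix.reindexAlgEquiv F F e M) ^ r = 1 := by rw [← map_pow, hM, map_one]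
  obtain ⟨c, s, hs, hc⟩ := charpoly_factors_of_pow_eq_one p hr hrp _ h1
  refine ⟨c, s, hs, ?_⟩
  rw [← hc, Matrix.reindexAlgEquiv_apply, Matrix.charpoly_reindex]

lemma eq_one_of_charpoly_eq' (p : ℕ) [Fact p.Prime] [CharP F p] {ι : Type*}
    [Fintype ι] [DecidableEq ι] (hr : r.Prime) (hrp : r ≠ p) (M : Matrix ι ι F)
    (hM : M ^ r = 1) (c : ℕ) (hc : M.charpoly = (X - 1) ^ c) : M = 1 := by
  obtain ⟨e⟩ : Nonempty (ι ≃ Fin (Fintype.card ι)) := ⟨Fintype.equivFin ι⟩
  have h1 : (Matrix.reindexAlgEquiv F F e M) ^ r = 1 := by rw [← map_pow, hM, map_one]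
  have h2 : (Matrix.reindexAlgEquiv F F e M).charpoly = (X - 1) ^ c := by
    rw [Matrix.reindexAlgEquiv_apply, Matrix.charpoly_reindex, hc]
  have h3 := eq_one_of_charpoly_eq p hr hrp _ h1 c h2
  exact (map_eq_one_iff (Matrix.reindexAlgEquiv F F e)
    (Matrix.reindexAlgEquiv F F e).injective).mp h3

lemma pow_eq_one_of_charpoly_dvd (p : ℕ) [Fact p.Prime] [CharP F p] {ι : Type*}
    [Fintype ι] [DecidableEq ι] (M : Matrix ι ι F) (k : ℕ) (hkp : k.Coprime p)
    (hMk : M ^ k = 1) (N : ℕ) (hdvd : M.charpoly ∣ (X ^ r - 1) ^ N) : M ^ r = 1 := by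
  have hkF : (k : F) ≠ 0 := natCast_ne_zero_of_coprime p hkp
  have hμdvd : minpoly F M ∣ X ^ k - C (1 : F) := by
    apply minpoly.dvd
    rw [map_sub, map_pow, aeval_X, aeval_C, hMk, map_one, sub_self]
  have hsq : Squarefree (minpoly F M) :=
    (separable_X_pow_sub_C 1 hkF one_ne_zero).squarefree.squarefree_of_dvd hμdvd
  have hμ2 : minpoly F M ∣ (X ^ r - 1) ^ N := (Matrix.minpoly_dvd_charpoly M).trans hdvd
  have hμ3 : minpoly F M ∣ X ^ r - 1 := by
    rcases Nat.eq_zero_or_pos N with h0 | hpos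
    · rw [h0, pow_zero] at hμ2
      exact hμ2.trans (one_dvd _)
    · exact (hsq.dvd_pow_iff_dvd hpos.ne').mp hμ2
  obtain ⟨w, hw⟩ := hμ3
  have h4 := congrArg (aeval M) hw
  rw [map_mul, minpoly.aeval, zero_mul, map_sub, map_pow, aeval_X, map_one, sub_eq_zero] at h4
  exact h4

lemma cyc_prod_dvd (hr : r.Prime) (c : ℕ) (s : Multiset F[X])
    (hs : ∀ f ∈ s, IsCycFactor r f) :
    (X - 1 : F[X]) ^ c * s.prod ∣ (X ^ r - 1) ^ (c + Multiset.card s) := by
  have h1dvd : (X - 1 : F[X]) ∣ X ^ r - 1 := by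
    have : Fact r.Prime := ⟨hr⟩
    exact Dvd.intro_left _ (cyclotomic_prime_mul_X_sub_one F r)
  rw [pow_add]
  apply mul_dvd_mul (pow_dvd_pow_of_dvd h1dvd c)
  have := Multiset.prod_dvd_prod_of_dvd (S := s) id (fun _ => (X ^ r - 1 : F[X]))
    (fun f hf => (hs f hf).dvd_X_pow_sub_one)
  simpa using this

end General

section SpExists

variable {F : Type*} [Field F] [Fintype F]

/-- Every palindromic monic polynomial of degree `2m` is the characteristic polynomial of a
semisimple element of `Sp_{2m}(q)`. -/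
theorem sp_exists_charpoly (p : ℕ) [Fact p.Prime] [CharP F p] (m : ℕ) (P : F[X])
    (hPm : P.Monic) (hPd : P.natDegree = 2 * m) (hPr : P.reverse = P) :
    ∃ s : Matrix.symplecticGroup (Fin m) F, (orderOf s).Coprime p ∧
      (s : Matrix (Fin m ⊕ Fin m) (Fin m ⊕ Fin m) F).charpoly = P := by
  classical
  have hinj : Function.Injective
      (fun c : {c : ConjClasses (Matrix.symplecticGroup (Fin m) F) //
        ∃ g : Matrix.symplecticGroup (Fin m) F, ConjClasses.mk g = c ∧ (orderOf g).Coprime p} =>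
        fun i : Fin m => (c.2.choose : Matrix (Fin m ⊕ Fin m) (Fin m ⊕ Fin m) F).charpoly.coeff
          ((i : ℕ) + 1)) := by
    rintro ⟨c, hc⟩ ⟨c', hc'⟩ h
    apply Subtype.ext
    simp only
    rw [← hc.choose_spec.1, ← hc'.choose_spec.1, ConjClasses.mk_eq_mk_iff_isConj]
    apply sp_isConj_of_charpoly_eq p m _ _ _ _ hc.choose_spec.2 hc'.choose_spec.2
      (pow_orderOf_eq_one _) (pow_orderOf_eq_one _)
    apply eq_of_palindromic (n := m) (Matrix.charpoly_monic _) (Matrix.charpoly_monic _)
      (by rw [Matrix.charpoly_natDegree_eq_dim, Fintype.card_sum, Fintype.card_fin]; ring)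
      (by rw [Matrix.charpoly_natDegree_eq_dim, Fintype.card_sum, Fintype.card_fin]; ring)
      (sp_charpoly_reverse hc.choose.2) (sp_charpoly_reverse hc'.choose.2)
    intro i hi1 hin
    have := congrFun h ⟨i - 1, by omega⟩
    simp only at this
    rwa [Nat.sub_add_cancel hi1] at this
  have hcard : Nat.card (Fin m → F) ≤ Nat.card {c : ConjClasses (Matrix.symplecticGroup (Fin m) F) //
        ∃ g : Matrix.symplecticGroup (Fin m) F, ConjClasses.mk g = c ∧ (orderOf g).Coprime p} := by
    rw [sp_card_semisimple_classes p m, Nat.card_eq_fintype_card]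
    simp
  have hbij := hinj.bijective_of_nat_card_le hcard
  obtain ⟨c, hc⟩ := hbij.2 (fun i : Fin m => P.coeff ((i : ℕ) + 1))
  refine ⟨c.2.choose, c.2.choose_spec.2, ?_⟩
  apply eq_of_palindromic (n := m) (Matrix.charpoly_monic _) hPm
    (by rw [Matrix.charpoly_natDegree_eq_dim, Fintype.card_sum, Fintype.card_fin]; ring) hPd
    (sp_charpoly_reverse c.2.choose.2) hPr
  intro i hi1 him
  have := congrFun hc ⟨i - 1, by omega⟩
  simp only at this
  rwa [Nat.sub_add_cancel hi1] at this

end SpExists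

section SelfRecip

lemma zmod_neg_one_eq_pow_iff {r : ℕ} (hr : r.Prime) (hr2 : r ≠ 2) (u : ZMod r) (hu : u ≠ 0) :
    (∃ j : ℕ, (-1 : ZMod r) = u ^ j) ↔ Even (orderOf u) := by
  have : Fact r.Prime := ⟨hr⟩
  have : Fact (2 < r) := ⟨lt_of_le_of_ne hr.two_le (Ne.symm hr2)⟩
  have hneg : (-1 : ZMod r) ≠ 1 := ZMod.neg_one_ne_one
  have hpos : 0 < orderOf u := by
    rw [orderOf_pos_iff, isOfFinOrder_iff_pow_eq_one]
    exact ⟨r - 1, by have := hr.two_le; omega, ZMod.pow_card_sub_one_eq_one hu⟩
  constructor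
  · rintro ⟨j, hj⟩
    have h3 : ¬ orderOf u ∣ j := by
      rw [orderOf_dvd_iff_pow_eq_one, ← hj]; exact hneg
    have h4 : orderOf u ∣ 2 * j := by
      rw [orderOf_dvd_iff_pow_eq_one, mul_comm, pow_mul, ← hj]; ring
    by_contra hne
    have h6 : (orderOf u).Coprime 2 := Nat.coprime_two_right.mpr (Nat.not_even_iff_odd.mp hne)
    exact h3 (h6.dvd_of_dvd_mul_left h4)
  · intro h
    obtain ⟨m, hm⟩ := h
    have h1 : u ^ m ≠ 1 := pow_ne_one_of_lt_orderOf (by omega) (by omega)
    have h2 : u ^ m * u ^ m = 1 := by rw [← pow_add, ← hm, pow_orderOf_eq_one]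
    have h3 : u ^ m = -1 := (mul_self_eq_one_iff.mp h2).resolve_left h1
    exact ⟨m, h3.symm⟩

/-- Over the field with `q` elements, a cyclotomic factor is self-reciprocal iff `ord_r(q)` is
even. -/
theorem dualP_id_eq_self_iff {F : Type*} [Field F] [Fintype F] {p q : ℕ} [Fact p.Prime]
    [CharP F p] (hF : Fintype.card F = q) {r : ℕ}
    (hr : r.Prime) (hr2 : r ≠ 2) (hrp : r ≠ p) {f : F[X]} (hf : IsCycFactor r f) :
    dualP (RingHom.id F) f = f ↔ Even (orderOf (q : ZMod r)) := by
  classical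
  have hfact : Fact r.Prime := ⟨hr⟩
  have hσ : ∀ x, (RingHom.id F) ((RingHom.id F) x) = x := fun _ => rfl
  obtain ⟨k, -, hk⟩ := FiniteField.card F p
  have hfi : Fact (Irreducible f) := ⟨hf.2.1⟩
  have hcharL : CharP (AdjoinRoot f) p :=
    charP_of_injective_algebraMap (algebraMap F (AdjoinRoot f)).injective p
  obtain ⟨lam, hlam⟩ : ∃ lam : AdjoinRoot f, lam = AdjoinRoot.root f := ⟨_, rfl⟩
  have hroot : aeval lam f = 0 := by rw [hlam, AdjoinRoot.aeval_eq, AdjoinRoot.mk_self]
  have hlam_r : lam ^ r = 1 := by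
    obtain ⟨g, hg⟩ := hf.dvd_X_pow_sub_one
    have h1 := congrArg (aeval lam) hg
    rw [map_mul, hroot, zero_mul, map_sub, map_pow, aeval_X, map_one, sub_eq_zero] at h1
    exact h1
  have hlam1 : lam ≠ 1 := by
    intro h1
    obtain ⟨g, hg⟩ := hf.2.2
    have h2 := congrArg (aeval lam) hg
    rw [map_mul, hroot, zero_mul, h1, aeval_def, ← eval_map, map_cyclotomic,
      eval_one_cyclotomic_prime] at h2
    exact natCast_ne_zero_of_coprime p ((Nat.coprime_primes hr Fact.out).mpr hrp) h2
  have hord : orderOf lam = r := orderOf_eq_prime hlam_r hlam1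
  have hlam0 : lam ≠ 0 := by
    rintro rfl
    rw [zero_pow hr.ne_zero] at hlam_r
    exact zero_ne_one hlam_r
  obtain ⟨nu, hnu⟩ : ∃ nu : AdjoinRoot f, nu = lam⁻¹ := ⟨_, rfl⟩
  have hnu_dual : aeval nu (dualP (RingHom.id F) f) = 0 := by
    have h1 := aeval_dualP_root (σ := RingHom.id F) p 0 (by intro x; simp) f lam hlam0 hroot
    rw [pow_zero, pow_one] at h1
    rw [hnu]; exact h1
  have hnu_pow : nu = lam ^ (r - 1) := by
    rw [hnu]
    apply inv_eq_of_mul_eq_one_right
    rw [← pow_succ', Nat.sub_add_cancel hr.one_le, hlam_r]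
  have hcyc' := dualP_isCycFactor p hσ hr hrp hf
  have hiff1 : dualP (RingHom.id F) f = f ↔ aeval nu f = 0 := by
    constructor
    · intro h
      have h' := hnu_dual
      rwa [h] at h'
    · intro h
      exact (minpoly.eq_of_irreducible_of_monic hcyc'.2.1 hnu_dual hcyc'.1).trans
        (minpoly.eq_of_irreducible_of_monic hf.2.1 h hf.1).symm
  have hfrob : ∀ x : AdjoinRoot f, aeval x f = 0 → aeval (x ^ q) f = 0 := by
    intro x hx
    rw [← hF, ← expand_aeval, FiniteField.expand_card, map_pow, hx,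
      zero_pow Fintype.card_ne_zero]
  have hfrobj : ∀ j : ℕ, aeval (lam ^ (q ^ j)) f = 0 := by
    intro j
    induction j with
    | zero => simpa using hroot
    | succ j ih => rw [pow_succ, pow_mul]; exact hfrob _ ih
  have hroots : ∀ mu : AdjoinRoot f, aeval mu f = 0 → ∃ j, mu = lam ^ (q ^ j) := by
    intro mu hmu
    obtain ⟨b, hb⟩ : ∃ b, b = f.natDegree := ⟨_, rfl⟩
    have hbo : b = orderOf ((q : ZMod r)) := by
      rw [hb]; exact hf.natDegree_eq hF hr hrp
    obtain ⟨S, hSdef⟩ : ∃ S : Finset (AdjoinRoot f),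
      S = (Finset.range b).image (fun j => lam ^ (q ^ j)) := ⟨_, rfl⟩
    have hScard : S.card = b := by
      rw [hSdef, Finset.card_image_of_injOn, Finset.card_range]
      intro j hj j' hj' hjj
      simp only [Finset.coe_range, Set.mem_Iio] at hj hj'
      have h1 : q ^ j ≡ q ^ j' [MOD r] := by
        rw [← hord]; exact (pow_eq_pow_iff_modEq₀ hlam0).mp hjj
      have h2 : ((q : ZMod r)) ^ j = ((q : ZMod r)) ^ j' := by
        rw [← Nat.cast_pow, ← Nat.cast_pow]
        exact (ZMod.natCast_eq_natCast_iff _ _ _).mpr h1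
      exact pow_injOn_Iio_orderOf (by rw [Set.mem_Iio, ← hbo]; exact hj)
        (by rw [Set.mem_Iio, ← hbo]; exact hj') h2
    have hSsub : S ⊆ (f.aroots (AdjoinRoot f)).toFinset := by
      intro x hx
      rw [hSdef] at hx
      obtain ⟨j, -, rfl⟩ := Finset.mem_image.mp hx
      rw [Multiset.mem_toFinset, mem_aroots]
      exact ⟨hf.1.ne_zero, hfrobj j⟩
    have hle : (f.aroots (AdjoinRoot f)).toFinset.card ≤ S.card := by
      rw [hScard, hb]
      calc (f.aroots (AdjoinRoot f)).toFinset.card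
          ≤ Multiset.card (f.aroots (AdjoinRoot f)) := Multiset.toFinset_card_le _
        _ ≤ (f.map (algebraMap F (AdjoinRoot f))).natDegree := card_roots' _
        _ = f.natDegree := natDegree_map _
    have hS := Finset.eq_of_subset_of_card_le hSsub hle
    have hmem : mu ∈ S := by
      rw [hS, Multiset.mem_toFinset, mem_aroots]
      exact ⟨hf.1.ne_zero, hmu⟩
    rw [hSdef] at hmem
    obtain ⟨j, -, rfl⟩ := Finset.mem_image.mp hmem
    exact ⟨j, rfl⟩
  rw [hiff1]
  have hu : (q : ZMod r) ≠ 0 := by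
    rw [← hF, hk, Nat.cast_pow]
    apply pow_ne_zero
    rw [Ne, ZMod.natCast_eq_zero_iff]
    intro hdvd
    exact hrp ((Nat.prime_dvd_prime_iff_eq hr Fact.out).mp hdvd)
  rw [← zmod_neg_one_eq_pow_iff hr hr2 (q : ZMod r) hu]
  have hkey : ∀ j : ℕ, nu = lam ^ (q ^ j) ↔ (-1 : ZMod r) = (q : ZMod r) ^ j := by
    intro j
    rw [hnu_pow, pow_eq_pow_iff_modEq₀ hlam0, hord, ← ZMod.natCast_eq_natCast_iff]
    have h1 : ((r - 1 : ℕ) : ZMod r) = -1 := by
      rw [Nat.cast_sub hr.one_le, ZMod.natCast_self]; simp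
    rw [h1, Nat.cast_pow]
  constructor
  · intro h
    obtain ⟨j, hj⟩ := hroots nu h
    exact ⟨j, (hkey j).mp hj⟩
  · rintro ⟨j, hj⟩
    rw [(hkey j).mpr hj]
    exact hfrobj j

end SelfRecip

section SpPrimeMain

/-- The number of classes of elements of odd prime order `r ≠ p` in `Sp_{2m}(q)`. -/
theorem sp_card_prime_order_classes {F : Type*} [Field F] [Fintype F] {p q : ℕ}
    [Fact p.Prime] [CharP F p] (hF : Fintype.card F = q) (m r i t : ℕ) (hr : r.Prime)
    (hr2 : r ≠ 2) (hrp : r ≠ p) (hi : i = orderOf (q : ZMod r)) (ht : t * i = r - 1) :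
    Nat.card {C : ConjClasses ↥(Matrix.symplecticGroup (Fin m) F) //
      ∃ g : Matrix.symplecticGroup (Fin m) F, ConjClasses.mk g = C ∧ orderOf g = r}
      = if Odd i then Nat.choose (m / i + t / 2) (t / 2) - 1
        else Nat.choose (2 * m / i + t) t - 1 := by
  classical
  have hcopr : r.Coprime p := (Nat.coprime_primes hr Fact.out).mpr hrp
  have hfact : Fact r.Prime := ⟨hr⟩
  have hrF : (r : F) ≠ 0 := natCast_ne_zero_of_coprime p hcopr
  have hσ : ∀ x, (RingHom.id F) ((RingHom.id F) x) = x := fun _ => rfl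
  have hipos : 0 < i := by
    rcases Nat.eq_zero_or_pos i with h0 | h
    · rw [h0, mul_zero] at ht
      have := hr.two_le
      omega
    · exact h
  obtain ⟨hfinα, hcardα⟩ := card_isCycFactor hF hr hrp
  rw [← hi] at hcardα
  have hcardα' : Nat.card {f : F[X] // IsCycFactor r f} = t := by
    rw [hcardα, ← ht, Nat.mul_div_cancel _ hipos]
  have hdegα : ∀ f : F[X], IsCycFactor r f → f.Monic ∧ f.natDegree = i :=
    fun f hf => ⟨hf.1, by rw [hi]; exact hf.natDegree_eq hF hr hrp⟩
  obtain ⟨δ, hδdef⟩ : ∃ δ : {f : F[X] // IsCycFactor r f} → {f : F[X] // IsCycFactor r f},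
      ∀ a, (δ a).1 = dualP (RingHom.id F) a.1 :=
    ⟨fun f => ⟨dualP (RingHom.id F) f.1, dualP_isCycFactor p hσ hr hrp f.2⟩, fun _ => rfl⟩
  have hδδ : ∀ a, δ (δ a) = a := by
    intro a
    apply Subtype.ext
    rw [hδdef, hδdef]
    exact (dualP_props p hσ a.1 a.2.1 (a.2.coeff_zero_ne hr.pos)).2.2.2
  have hδfix : ∀ a, δ a = a ↔ Even i := by
    intro a
    rw [hi, ← dualP_id_eq_self_iff hF hr hr2 hrp a.2, Subtype.ext_iff, hδdef]
  have hcardidx : Fintype.card (Fin m ⊕ Fin m) = 2 * m := by
    rw [Fintype.card_sum, Fintype.card_fin]; ring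
  rw [card_classes_eq (fun g : Matrix.symplecticGroup (Fin m) F => orderOf g = r)
    (fun g => (g : Matrix (Fin m ⊕ Fin m) (Fin m ⊕ Fin m) F).charpoly)
    (fun g h hc => by
      obtain ⟨c, rfl⟩ := isConj_iff.mp hc
      apply charpoly_eq_of_mul_eq (c : Matrix (Fin m ⊕ Fin m) (Fin m ⊕ Fin m) F)
      · rw [SymplecticGroup.det_eq_one c.2]; exact isUnit_one
      · rw [← Submonoid.coe_mul, ← Submonoid.coe_mul]
        congr 1
        group)
    (fun g h hg hh hc => sp_isConj_of_charpoly_eq p m g h r r hcopr hcopr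
      (by rw [← hg]; exact pow_orderOf_eq_one g) (by rw [← hh]; exact pow_orderOf_eq_one h) hc)
    (fun f => ∃ g : Matrix.symplecticGroup (Fin m) F, orderOf g = r ∧
      (g : Matrix (Fin m ⊕ Fin m) (Fin m ⊕ Fin m) F).charpoly = f)
    (fun f => Iff.rfl)]
  have hval : ∀ u : Multiset {f : F[X] // IsCycFactor r f}, ∀ f ∈ u.map Subtype.val,
      IsCycFactor r f := by
    intro u f hf
    obtain ⟨a, -, rfl⟩ := Multiset.mem_map.mp hf
    exact a.2
  have hdualmap : ∀ u : Multiset {f : F[X] // IsCycFactor r f},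
      (u.map Subtype.val).map (dualP (RingHom.id F)) = (u.map δ).map Subtype.val := by
    intro u
    rw [Multiset.map_map, Multiset.map_map]
    exact Multiset.map_congr rfl (fun a _ => (hδdef a).symm)
  have hdualpoly : ∀ (c : ℕ) (u : Multiset {f : F[X] // IsCycFactor r f}),
      dualP (RingHom.id F) ((X - 1) ^ c * (u.map Subtype.val).prod)
        = (X - 1) ^ c * ((u.map δ).map Subtype.val).prod := by
    intro c u
    rw [dualP_mul, dualP_pow, dualP_X_sub_one, dualP_multiset_prod, hdualmap]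
  have hD : Nat.card {f : F[X] // ∃ g : Matrix.symplecticGroup (Fin m) F, orderOf g = r ∧
        (g : Matrix (Fin m ⊕ Fin m) (Fin m ⊕ Fin m) F).charpoly = f}
      = Nat.card {u : Multiset {f : F[X] // IsCycFactor r f} //
          0 < Multiset.card u ∧ i * Multiset.card u ≤ 2 * m ∧ u.map δ = u} := by
    symm
    have hex : ∀ u : {u : Multiset {f : F[X] // IsCycFactor r f} //
          0 < Multiset.card u ∧ i * Multiset.card u ≤ 2 * m ∧ u.map δ = u},
        ∃ g : Matrix.symplecticGroup (Fin m) F, orderOf g = r ∧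
          (g : Matrix (Fin m ⊕ Fin m) (Fin m ⊕ Fin m) F).charpoly
            = (X - 1) ^ (2 * m - i * Multiset.card u.1) * (u.1.map Subtype.val).prod := by
      rintro ⟨u, hu0, hun, huδ⟩
      obtain ⟨P, hP⟩ : ∃ P : F[X], P = (X - 1) ^ (2 * m - i * Multiset.card u)
        * (u.map Subtype.val).prod := ⟨_, rfl⟩
      have hdeg : P.natDegree = 2 * m := by
        rw [hP, natDegree_cyc_prod _ _ (fun f hf => hdegα f (hval u f hf)), Multiset.card_map]
        omega
      obtain ⟨M, hMc, hMr⟩ := exists_matrix_of_factors p hr _ _ (hval u) (hP ▸ hdeg)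
      rw [← hP] at hMc
      have hPm : P.Monic := hMc ▸ Matrix.charpoly_monic M
      have hself : dualP (RingHom.id F) P = P := by rw [hP, hdualpoly, huδ]
      obtain ⟨a, ha⟩ : ∃ a : F, a = P.coeff 0 := ⟨_, rfl⟩
      have hadet : a = M.det := by
        rw [ha, ← hMc, charpoly_coeff_zero, pow_mul]; simp
      have har : a ^ r = 1 := by rw [hadet, ← Matrix.det_pow, hMr, Matrix.det_one]
      have ha0 : a ≠ 0 := by
        rintro rfl
        rw [zero_pow hr.ne_zero] at har
        exact zero_ne_one har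
      have haa : a * a = 1 := by
        have h1 := congrArg (fun Q : F[X] => Q.coeff 0) hself
        simp only [dualP, coeff_C_mul, coeff_zero_reverse, Polynomial.map_id, RingHom.id_apply,
          hPm.leadingCoeff, mul_one] at h1
        rw [← ha] at h1
        have h2 := inv_mul_cancel₀ ha0
        rwa [h1] at h2
      have ha1 : a = 1 := by
        obtain ⟨k, hk⟩ := hr.eq_one_or_self_of_dvd 2 |> fun _ =>
          (Nat.Prime.eq_two_or_odd' hr).resolve_left hr2
        rw [hk, pow_succ, pow_mul, pow_two, haa, one_pow, one_mul] at har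
        exact har
      have hPr : P.reverse = P := by
        have h1 := hself
        unfold dualP at h1
        rw [← ha, ha1, Polynomial.map_id] at h1
        simpa using h1
      obtain ⟨g, hgp, hgc⟩ := sp_exists_charpoly p m P hPm hdeg hPr
      have hgr' : (g : Matrix (Fin m ⊕ Fin m) (Fin m ⊕ Fin m) F) ^ r = 1 := by
        apply pow_eq_one_of_charpoly_dvd p _ (orderOf g) hgp
          (by rw [← SubmonoidClass.coe_pow, pow_orderOf_eq_one]; rfl)
          (2 * m - i * Multiset.card u + Multiset.card (u.map Subtype.val))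
        rw [hgc, hP]
        exact cyc_prod_dvd hr _ _ (hval u)
      have hgr : g ^ r = 1 := by
        apply Subtype.ext
        rw [SubmonoidClass.coe_pow, hgr']
        rfl
      have hg1 : g ≠ 1 := by
        rintro rfl
        have h0 : ((1 : Matrix.symplecticGroup (Fin m) F) :
            Matrix (Fin m ⊕ Fin m) (Fin m ⊕ Fin m) F) = 1 := rfl
        rw [h0, Matrix.charpoly_one, hcardidx, hP] at hgc
        have h1 := normalizedFactors_cyc_prod p hr hrp (2 * m) (0 : Multiset F[X]) (by simp)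
        have h2 := normalizedFactors_cyc_prod p hr hrp (2 * m - i * Multiset.card u)
          (u.map Subtype.val) (hval u)
        rw [← hgc] at h2
        rw [Multiset.prod_zero, mul_one] at h1
        rw [h1] at h2
        have h3 : Multiset.card u = 0 := by
          rw [← Multiset.card_map Subtype.val, ← h2]; rfl
        omega
      exact ⟨g, orderOf_eq_prime hgr hg1, by rw [hgc, hP]⟩
    apply Nat.card_congr
    apply Equiv.ofBijective (fun u => (⟨_, hex u⟩ : {f : F[X] //
      ∃ g : Matrix.symplecticGroup (Fin m) F, orderOf g = r ∧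
        (g : Matrix (Fin m ⊕ Fin m) (Fin m ⊕ Fin m) F).charpoly = f}))
    constructor
    · rintro ⟨u, hu0, hun, huδ⟩ ⟨u', hu0', hun', huδ'⟩ h
      have h1 : (X - 1 : F[X]) ^ (2 * m - i * Multiset.card u) * (u.map Subtype.val).prod
          = (X - 1) ^ (2 * m - i * Multiset.card u') * (u'.map Subtype.val).prod :=
        congrArg Subtype.val h
      have h2 := normalizedFactors_cyc_prod p hr hrp (2 * m - i * Multiset.card u) _ (hval u)
      have h3 := normalizedFactors_cyc_prod p hr hrp (2 * m - i * Multiset.card u') _ (hval u')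
      rw [h1, h3] at h2
      apply Subtype.ext
      exact (Multiset.map_injective Subtype.val_injective h2).symm
    · rintro ⟨f, g, hg, rfl⟩
      obtain ⟨G, hG⟩ : ∃ G : Matrix (Fin m ⊕ Fin m) (Fin m ⊕ Fin m) F,
        G = (g : Matrix (Fin m ⊕ Fin m) (Fin m ⊕ Fin m) F) := ⟨_, rfl⟩
      have hGr : G ^ r = 1 := by
        rw [hG, ← SubmonoidClass.coe_pow, ← hg, pow_orderOf_eq_one]; rfl
      obtain ⟨c, s₀, hs₀, hc⟩ := charpoly_factors_of_pow_eq_one' p hr hrp G hGr
      obtain ⟨u, hu⟩ : ∃ u : Multiset {f : F[X] // IsCycFactor r f}, u.map Subtype.val = s₀ :=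
        ⟨s₀.pmap (fun f hf => ⟨f, hf⟩) hs₀, map_val_pmap_mk s₀ hs₀⟩
      have hdeg : 2 * m = c + i * Multiset.card u := by
        have h1 := natDegree_cyc_prod c s₀ (fun f hf => hdegα f (hs₀ f hf))
        rw [← hc, Matrix.charpoly_natDegree_eq_dim, hcardidx, ← hu, Multiset.card_map] at h1
        exact h1
      have hu0 : 0 < Multiset.card u := by
        rw [Multiset.card_pos]
        rintro rfl
        rw [Multiset.map_zero] at hu
        subst hu
        rw [Multiset.prod_zero, mul_one] at hc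
        have h1 := eq_one_of_charpoly_eq' p hr hrp _ hGr c hc
        have h2 : g = 1 := by
          apply Subtype.ext
          rw [← hG, h1]
          rfl
        rw [h2, orderOf_one] at hg
        exact hr.one_lt.ne hg
      have huδ : u.map δ = u := by
        have hrev : G.charpoly.reverse = G.charpoly := by
          rw [hG]; exact sp_charpoly_reverse g.2
        have h0 : G.charpoly.coeff 0 = 1 := by
          rw [← hrev, coeff_zero_reverse, (Matrix.charpoly_monic G).leadingCoeff]
        have h2 : dualP (RingHom.id F) G.charpoly = G.charpoly := by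
          unfold dualP
          rw [Polynomial.map_id, hrev, h0]
          simp
        rw [hc, ← hu, hdualpoly] at h2
        have h3 := normalizedFactors_cyc_prod p hr hrp c _ (hval (u.map δ))
        have h4 := normalizedFactors_cyc_prod p hr hrp c _ (hval u)
        rw [h2, h4] at h3
        exact (Multiset.map_injective Subtype.val_injective h3).symm
      refine ⟨⟨u, hu0, by omega, huδ⟩, ?_⟩
      apply Subtype.ext
      simp only
      rw [← hG, hu, hc]
      congr 2
      omega
  rw [hD]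
  split_ifs with hodd
  · have hne : ∀ a, δ a ≠ a := fun a h =>
      (Nat.not_even_iff_odd.mpr hodd) ((hδfix a).mp h)
    rw [card_invariant_multisets δ hδδ hne i (2 * m) hipos, hcardα',
      Nat.mul_div_mul_left m i (by norm_num : 0 < 2)]
  · have hid : ∀ a, δ a = a := fun a => (hδfix a).mpr (Nat.not_odd_iff_even.mp hodd)
    have e1 : {u : Multiset {f : F[X] // IsCycFactor r f} //
          0 < Multiset.card u ∧ i * Multiset.card u ≤ 2 * m ∧ u.map δ = u}
        ≃ {u : Multiset {f : F[X] // IsCycFactor r f} //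
          0 < Multiset.card u ∧ i * Multiset.card u ≤ 2 * m} :=
      Equiv.subtypeEquivRight (fun u => ⟨fun h => ⟨h.1, h.2.1⟩, fun h => ⟨h.1, h.2, by
        rw [Multiset.map_congr rfl (fun a _ => hid a), Multiset.map_id']⟩⟩)
    rw [Nat.card_congr e1, card_multiset_pos_le _ i (2 * m) hipos, hcardα']

end SpPrimeMain

end Cfsg.Agent.Lib.Helper47
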