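import Mathlib

/-!
# Semisimple endomorphisms with equal characteristic polynomial are conjugate

`exists_conj_of_charpoly_eq`: two semisimple endomorphisms of finite-dimensional spaces with the
same characteristic polynomial are intertwined by a linear equivalence.
`exists_commute_det_eq`: over a finite field, the centraliser of a semisimple endomorphism of a
nonzero space contains maps of every nonzero determinant.
-/

set_option autoImplicit false

namespace Cfsg.Agent.Lib.Helper47

open Polynomial Module

section Cyc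

variable {F : Type*} [Field F] {V : Type*} [AddCommGroup V] [Module F V]

/-- `p ↦ p(g) v`. -/
noncomputable def cycMap (g : Module.End F V) (v : V) : F[X] →ₗ[F] V :=
  (LinearMap.applyₗ v).comp (aeval g).toLinearMap

lemma cycMap_apply (g : Module.End F V) (v : V) (p : F[X]) : cycMap g v p = aeval g p v := rfl

/-- The cyclic submodule generated by `v` under `g`. -/
noncomputable def cyc (g : Module.End F V) (v : V) : Submodule F V := LinearMap.range (cycMap g v)

lemma mem_cyc_self (g : Module.End F V) (v : V) : v ∈ cyc g v := ⟨1, by simp [cycMap_apply]⟩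

lemma cyc_invt (g : Module.End F V) (v : V) : cyc g v ∈ Module.End.invtSubmodule g := by
  rw [Module.End.mem_invtSubmodule]
  rintro _ ⟨p, rfl⟩
  exact ⟨X * p, by simp [cycMap_apply]⟩

lemma cycMap_eq_zero_iff {g : Module.End F V} {v : V} {f : F[X]} (hf : Irreducible f)
    (hv : v ≠ 0) (hfv : aeval g f v = 0) (p : F[X]) : cycMap g v p = 0 ↔ f ∣ p := by
  constructor
  · intro hp
    by_contra hnd
    obtain ⟨a, b, hab⟩ := (hf.coprime_iff_not_dvd).mpr hnd
    apply hv
    have h1 : aeval g (a * f + b * p) v = v := by rw [hab]; simp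
    rw [← h1]
    rw [cycMap_apply] at hp
    simp [hfv, hp]
  · rintro ⟨r, rfl⟩
    rw [cycMap_apply, mul_comm]
    simp [hfv]

lemma ker_cycMap {g : Module.End F V} {v : V} {f : F[X]} (hf : Irreducible f)
    (hv : v ≠ 0) (hfv : aeval g f v = 0) :
    LinearMap.ker (cycMap g v) = (Ideal.span {f}).restrictScalars F := by
  ext p
  rw [LinearMap.mem_ker, cycMap_eq_zero_iff hf hv hfv, Submodule.restrictScalars_mem,
    Ideal.mem_span_singleton]

/-- `F[X]/(f) ≃ cyc g v`. -/
noncomputable def cycEquiv {g : Module.End F V} {v : V} {f : F[X]} (hf : Irreducible f)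
    (hv : v ≠ 0) (hfv : aeval g f v = 0) : AdjoinRoot f ≃ₗ[F] ↥(cyc g v) :=
  ((Submodule.Quotient.restrictScalarsEquiv F (Ideal.span {f})).symm.trans
    (Submodule.quotEquivOfEq _ _ (ker_cycMap hf hv hfv).symm)).trans
    (LinearMap.quotKerEquivRange (cycMap g v))

lemma cycEquiv_mk {g : Module.End F V} {v : V} {f : F[X]} (hf : Irreducible f)
    (hv : v ≠ 0) (hfv : aeval g f v = 0) (p : F[X]) :
    (cycEquiv hf hv hfv (AdjoinRoot.mk f p) : V) = aeval g p v := by
  rfl

lemma cycEquiv_mul {g : Module.End F V} {v : V} {f : F[X]} (hf : Irreducible f)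
    (hv : v ≠ 0) (hfv : aeval g f v = 0) (p : F[X]) (x : AdjoinRoot f) :
    (cycEquiv hf hv hfv (AdjoinRoot.mk f p * x) : V) = aeval g p (cycEquiv hf hv hfv x : V) := by
  obtain ⟨q, rfl⟩ := AdjoinRoot.mk_surjective x
  rw [← map_mul, cycEquiv_mk, cycEquiv_mk, map_mul, Module.End.mul_apply]

lemma cycEquiv_root {g : Module.End F V} {v : V} {f : F[X]} (hf : Irreducible f)
    (hv : v ≠ 0) (hfv : aeval g f v = 0) (x : AdjoinRoot f) :
    (cycEquiv hf hv hfv (AdjoinRoot.root f * x) : V) = g (cycEquiv hf hv hfv x : V) := by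
  have := cycEquiv_mul hf hv hfv X x
  rwa [AdjoinRoot.mk_X, aeval_X] at this

lemma finrank_cyc {g : Module.End F V} {v : V} {f : F[X]} (hf : Irreducible f)
    (hv : v ≠ 0) (hfv : aeval g f v = 0) : finrank F ↥(cyc g v) = f.natDegree := by
  rw [← (cycEquiv hf hv hfv).finrank_eq]
  exact finrank_quotient_span_eq_natDegree

/-- Restriction of an endomorphism to an invariant submodule. -/
noncomputable def resInv (g : Module.End F V) {p : Submodule F V}
    (hp : p ∈ Module.End.invtSubmodule g) : Module.End F p :=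
  g.restrict ((Module.End.mem_invtSubmodule_iff_forall_mem_of_mem g).mp hp)

lemma resInv_apply (g : Module.End F V) {p : Submodule F V}
    (hp : p ∈ Module.End.invtSubmodule g) (x : p) : (resInv g hp x : V) = g (x : V) := rfl

lemma aeval_resInv_apply {g : Module.End F V} {p : Submodule F V}
    (hp : p ∈ Module.End.invtSubmodule g) (r : F[X]) (x : p) :
    ((aeval (resInv g hp) r) x : V) = aeval g r (x : V) := by
  induction r using Polynomial.induction_on' with
  | add a b ha hb => simp [ha, hb]
  | monomial n c =>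
    simp only [aeval_monomial, Module.End.mul_apply, Module.algebraMap_end_apply]
    rw [Submodule.coe_smul]
    congr 1
    induction n generalizing x with
    | zero => simp
    | succ n ih => rw [pow_succ, Module.End.mul_apply, ih, pow_succ, Module.End.mul_apply]; rfl

lemma isSemisimple_resInv {g : Module.End F V} (hg : g.IsSemisimple) {p : Submodule F V}
    (hp : p ∈ Module.End.invtSubmodule g) : (resInv g hp).IsSemisimple :=
  Module.End.IsSemisimple.restrict hp hg

end Cyc

section Fin

variable {F : Type*} [Field F] {V : Type*} [AddCommGroup V] [Module F V] [FiniteDimensional F V]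

lemma exists_irreducible_ker [Nontrivial V] (g : Module.End F V) :
    ∃ f : F[X], f.Monic ∧ Irreducible f ∧ f ∣ minpoly F g ∧ ∃ v : V, v ≠ 0 ∧ aeval g f v = 0 := by
  have hint : IsIntegral F g := Algebra.IsIntegral.isIntegral g
  have hnu : ¬ IsUnit (minpoly F g) := minpoly.not_isUnit F g
  obtain ⟨f, hfm, hfi, r, hr⟩ := Polynomial.exists_monic_irreducible_factor _ hnu
  refine ⟨f, hfm, hfi, ⟨r, hr⟩, ?_⟩
  by_contra hcon
  push Not at hcon
  have hinj : Function.Injective (aeval g f) := by
    rw [← LinearMap.ker_eq_bot, LinearMap.ker_eq_bot']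
    intro v hv
    by_contra hv0
    exact hcon v hv0 hv
  have hr0 : aeval g r = 0 := by
    apply LinearMap.ext
    intro x
    apply hinj
    have : aeval g (minpoly F g) x = 0 := by rw [minpoly.aeval]; rfl
    rw [hr, map_mul, Module.End.mul_apply] at this
    rw [this]; simp
  have hdvd : minpoly F g ∣ r := minpoly.dvd F g hr0
  have hm0 : minpoly F g ≠ 0 := minpoly.ne_zero hint
  have hr_ne : r ≠ 0 := by rintro rfl; simp at hr; exact hm0 hr
  have hdeg := Polynomial.natDegree_le_of_dvd hdvd hr_ne
  have hd2 : (minpoly F g).natDegree = f.natDegree + r.natDegree := by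
    conv_lhs => rw [hr]
    exact natDegree_mul hfi.ne_zero hr_ne
  have := hfi.natDegree_pos
  omega

lemma charpoly_resInv_cyc {g : Module.End F V} {v : V} {f : F[X]} (hfm : f.Monic)
    (hf : Irreducible f) (hv : v ≠ 0) (hfv : aeval g f v = 0) :
    (resInv g (cyc_invt g v)).charpoly = f := by
  have hC := cyc_invt g v
  have hnt : Nontrivial ↥(cyc g v) :=
    ⟨⟨⟨v, mem_cyc_self g v⟩, 0, fun h => hv (congrArg Subtype.val h)⟩⟩
  have h0 : aeval (resInv g hC) f = 0 := by
    apply LinearMap.ext
    rintro ⟨_, p, rfl⟩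
    apply Subtype.ext
    rw [aeval_resInv_apply]
    simp only [cycMap_apply, LinearMap.zero_apply, ZeroMemClass.coe_zero]
    rw [← Module.End.mul_apply, ← map_mul, mul_comm, map_mul, Module.End.mul_apply, hfv, map_zero]
  have hdvd : minpoly F (resInv g hC) ∣ f := minpoly.dvd F _ h0
  have hnu : ¬ IsUnit (minpoly F (resInv g hC)) := minpoly.not_isUnit F _
  have hint : IsIntegral F (resInv g hC) := Algebra.IsIntegral.isIntegral _
  have hass : Associated (minpoly F (resInv g hC)) f :=
    (hf.dvd_iff.mp hdvd).resolve_left hnu |>.symm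
  have hmin : minpoly F (resInv g hC) = f :=
    Polynomial.eq_of_monic_of_associated (minpoly.monic hint) hfm hass
  have hdvd2 : f ∣ (resInv g hC).charpoly := by
    rw [← hmin]; exact LinearMap.minpoly_dvd_charpoly _
  have hdeg : (resInv g hC).charpoly.natDegree = f.natDegree := by
    rw [LinearMap.charpoly_natDegree, finrank_cyc hf hv hfv]
  exact Polynomial.eq_of_monic_of_dvd_of_natDegree_le hfm (LinearMap.charpoly_monic _) hdvd2
    hdeg.le

lemma charpoly_of_isCompl {g : Module.End F V} {p q : Submodule F V}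
    (hp : p ∈ Module.End.invtSubmodule g) (hq : q ∈ Module.End.invtSubmodule g)
    (hpq : IsCompl p q) :
    g.charpoly = (resInv g hp).charpoly * (resInv g hq).charpoly := by
  rw [← LinearMap.charpoly_prodMap, ← LinearEquiv.charpoly_conj (Submodule.prodEquivOfIsCompl p q hpq)]
  congr 1
  apply LinearMap.ext
  intro x
  obtain ⟨⟨a, b⟩, rfl⟩ := (Submodule.prodEquivOfIsCompl p q hpq).surjective x
  simp [LinearEquiv.conj_apply, resInv_apply]

end Fin

universe u

theorem exists_ker_of_dvd_charpoly {F : Type*} [Field F] :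
    ∀ (n : ℕ) (V : Type u) [AddCommGroup V] [Module F V] [FiniteDimensional F V]
      (h : Module.End F V), finrank F V = n → h.IsSemisimple → ∀ f : F[X], f.Monic →
      Irreducible f → f ∣ h.charpoly → ∃ w : V, w ≠ 0 ∧ aeval h f w = 0 := by
  intro n
  induction n using Nat.strong_induction_on with
  | _ n ih =>
    intro V _ _ _ h hn hs f hfm hfi hdvd
    have hpos : 0 < finrank F V := by
      have := natDegree_le_of_dvd hdvd (LinearMap.charpoly_monic h).ne_zero
      rw [LinearMap.charpoly_natDegree] at this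
      have := hfi.natDegree_pos
      omega
    have hnt : Nontrivial V := Module.finrank_pos_iff.mp hpos
    obtain ⟨f₁, hf₁m, hf₁i, -, v, hv, hf₁v⟩ := exists_irreducible_ker h
    have hC := cyc_invt h v
    obtain ⟨U, hU, hCU⟩ := Module.End.isSemisimple_iff.mp hs _ hC
    have hcp := charpoly_of_isCompl hC hU hCU
    rw [charpoly_resInv_cyc hf₁m hf₁i hv hf₁v] at hcp
    rw [hcp] at hdvd
    rcases (hfi.prime.dvd_or_dvd hdvd) with h1 | h2
    · have : f = f₁ := eq_of_monic_of_associated hfm hf₁m (hfi.associated_of_dvd hf₁i h1)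
      exact ⟨v, hv, this ▸ hf₁v⟩
    · have hlt : finrank F U < n := by
        have := Submodule.finrank_add_eq_of_isCompl hCU
        rw [finrank_cyc hf₁i hv hf₁v] at this
        have := hf₁i.natDegree_pos
        omega
      obtain ⟨w, hw, hfw⟩ := ih _ hlt U (resInv h hU) rfl (isSemisimple_resInv hs hU) f hfm hfi h2
      refine ⟨w, fun h0 => hw (Subtype.ext h0), ?_⟩
      rw [← aeval_resInv_apply hU, hfw]; rfl

/-- Two semisimple endomorphisms with the same characteristic polynomial are conjugate. -/
theorem exists_conj_of_charpoly_eq {F : Type*} [Field F] :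
    ∀ (n : ℕ) (V V' : Type u) [AddCommGroup V] [Module F V] [FiniteDimensional F V]
      [AddCommGroup V'] [Module F V'] [FiniteDimensional F V']
      (g : Module.End F V) (h : Module.End F V'),
      finrank F V = n → g.IsSemisimple → h.IsSemisimple → g.charpoly = h.charpoly →
      ∃ φ : V ≃ₗ[F] V', ∀ x, φ (g x) = h (φ x) := by
  intro n
  induction n using Nat.strong_induction_on with
  | _ n ih =>
    intro V V' _ _ _ _ _ _ g h hn hgs hhs hc
    have hn' : finrank F V' = n := by
      rw [← LinearMap.charpoly_natDegree h, ← hc, LinearMap.charpoly_natDegree, hn]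
    rcases Nat.eq_zero_or_pos n with h0 | hpos
    · subst h0
      have : Subsingleton V := Module.finrank_zero_iff.mp hn
      have : Subsingleton V' := Module.finrank_zero_iff.mp hn'
      exact ⟨LinearEquiv.ofSubsingleton V V', fun x => Subsingleton.elim _ _⟩
    · have hnt : Nontrivial V := Module.finrank_pos_iff.mp (hn ▸ hpos)
      obtain ⟨f, hfm, hfi, hfd, v, hv, hfv⟩ := exists_irreducible_ker g
      have hfc : f ∣ h.charpoly := hc ▸ hfd.trans (LinearMap.minpoly_dvd_charpoly g)
      obtain ⟨w, hw, hfw⟩ := exists_ker_of_dvd_charpoly n V' h hn' hhs f hfm hfi hfc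
      have hC := cyc_invt g v
      have hC' := cyc_invt h w
      obtain ⟨U, hU, hCU⟩ := Module.End.isSemisimple_iff.mp hgs _ hC
      obtain ⟨U', hU', hCU'⟩ := Module.End.isSemisimple_iff.mp hhs _ hC'
      have hcp := charpoly_of_isCompl hC hU hCU
      have hcp' := charpoly_of_isCompl hC' hU' hCU'
      rw [charpoly_resInv_cyc hfm hfi hv hfv] at hcp
      rw [charpoly_resInv_cyc hfm hfi hw hfw] at hcp'
      have hcU : (resInv g hU).charpoly = (resInv h hU').charpoly := by
        apply mul_left_cancel₀ hfi.ne_zero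
        rw [← hcp, ← hcp', hc]
      have hlt : finrank F U < n := by
        have := Submodule.finrank_add_eq_of_isCompl hCU
        rw [finrank_cyc hfi hv hfv] at this
        have := hfi.natDegree_pos
        omega
      obtain ⟨ψ, hψ⟩ := ih _ hlt U U' (resInv g hU) (resInv h hU') rfl
        (isSemisimple_resInv hgs hU) (isSemisimple_resInv hhs hU') hcU
      obtain ⟨φ₀, hφ₀⟩ : ∃ φ₀ : ↥(cyc g v) ≃ₗ[F] ↥(cyc h w), ∀ x,
          φ₀ (resInv g hC x) = resInv h hC' (φ₀ x) := by
        refine ⟨(cycEquiv hfi hv hfv).symm.trans (cycEquiv hfi hw hfw), fun x => ?_⟩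
        obtain ⟨y, rfl⟩ := (cycEquiv hfi hv hfv).surjective x
        have e1 : resInv g hC (cycEquiv hfi hv hfv y)
            = cycEquiv hfi hv hfv (AdjoinRoot.root f * y) := by
          apply Subtype.ext; rw [cycEquiv_root]; rfl
        rw [e1]
        simp only [LinearEquiv.trans_apply, LinearEquiv.symm_apply_apply]
        apply Subtype.ext; rw [cycEquiv_root]; rfl
      refine ⟨(Submodule.prodEquivOfIsCompl _ _ hCU).symm.trans
        ((φ₀.prodCongr ψ).trans (Submodule.prodEquivOfIsCompl _ _ hCU')), fun x => ?_⟩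
      obtain ⟨⟨a, b⟩, rfl⟩ := (Submodule.prodEquivOfIsCompl _ _ hCU).surjective x
      have e1 : g (Submodule.prodEquivOfIsCompl _ _ hCU (a, b))
          = Submodule.prodEquivOfIsCompl _ _ hCU (resInv g hC a, resInv g hU b) := by
        simp [resInv_apply]
      rw [e1]
      simp only [LinearEquiv.trans_apply, LinearEquiv.symm_apply_apply,
        LinearEquiv.prodCongr_apply, hφ₀, hψ]
      simp [resInv_apply]

/-- Over a finite field, the centraliser of a semisimple endomorphism of a nonzero space
contains maps of every determinant. -/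
theorem exists_commute_det_eq {F : Type*} [Field F] [Finite F] {V : Type*} [AddCommGroup V]
    [Module F V] [FiniteDimensional F V] [Nontrivial V] (g : Module.End F V)
    (hg : g.IsSemisimple) (δ : F) :
    ∃ c : Module.End F V, (∀ x, c (g x) = g (c x)) ∧ LinearMap.det c = δ := by
  obtain ⟨f, hfm, hfi, -, v, hv, hfv⟩ := exists_irreducible_ker g
  have hC := cyc_invt g v
  obtain ⟨U, hU, hCU⟩ := Module.End.isSemisimple_iff.mp hg _ hC
  have : Fact (Irreducible f) := ⟨hfi⟩
  have : Module.Finite F (AdjoinRoot f) := (AdjoinRoot.powerBasis hfi.ne_zero).finite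
  have : Finite (AdjoinRoot f) := Module.finite_of_finite F
  obtain ⟨β, hβ⟩ := FiniteField.norm_surjective F (AdjoinRoot f) δ
  obtain ⟨pβ, rfl⟩ := AdjoinRoot.mk_surjective β
  have hCp : cyc g v ∈ Module.End.invtSubmodule (aeval g pβ) := by
    rw [Module.End.mem_invtSubmodule]
    rintro _ ⟨r, rfl⟩
    exact ⟨pβ * r, by simp [cycMap_apply]⟩
  have hc₀ : resInv (aeval g pβ) hCp
      = (cycEquiv hfi hv hfv).conj (LinearMap.mulLeft F (AdjoinRoot.mk f pβ)) := by
    apply LinearMap.ext
    intro x
    obtain ⟨y, rfl⟩ := (cycEquiv hfi hv hfv).surjective x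
    rw [LinearEquiv.conj_apply_apply]
    apply Subtype.ext
    simp only [resInv_apply, LinearEquiv.symm_apply_apply, LinearMap.mulLeft_apply]
    rw [cycEquiv_mul]
  have hdet₀ : LinearMap.det (resInv (aeval g pβ) hCp) = δ := by
    rw [hc₀, LinearEquiv.conj_apply, LinearMap.comp_assoc, LinearMap.det_conj, ← hβ,
      Algebra.norm_apply]
    rfl
  refine ⟨(Submodule.prodEquivOfIsCompl _ _ hCU).conj
    ((resInv (aeval g pβ) hCp).prodMap LinearMap.id), fun x => ?_, ?_⟩
  · obtain ⟨⟨a, b⟩, rfl⟩ := (Submodule.prodEquivOfIsCompl _ _ hCU).surjective x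
    have e1 : g (Submodule.prodEquivOfIsCompl _ _ hCU (a, b))
        = Submodule.prodEquivOfIsCompl _ _ hCU (resInv g hC a, resInv g hU b) := by
      simp [resInv_apply]
    rw [e1]
    simp only [LinearEquiv.conj_apply_apply, LinearEquiv.symm_apply_apply,
      LinearMap.prodMap_apply, LinearMap.id_apply]
    simp only [Submodule.coe_prodEquivOfIsCompl', resInv_apply, map_add]
    congr 1
    rw [← Module.End.mul_apply, ← Module.End.mul_apply]
    congr 1
    have : aeval g pβ * g = aeval g (pβ * X) := by simp
    rw [this, mul_comm pβ X]; simp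
  · rw [LinearEquiv.conj_apply, LinearMap.comp_assoc, LinearMap.det_conj, LinearMap.det_prodMap,
      hdet₀, LinearMap.det_id, mul_one]

end Cfsg.Agent.Lib.Helper47
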