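import Cfsg.Agent.Lib.Helper47.SemiConj

/-!
# Matrix versions of the semisimple conjugacy theorem

`exists_conj_matrix`, `exists_commute_matrix_det`, `sl_isConj_of_charpoly_eq`.
-/

set_option autoImplicit false

namespace Cfsg.Agent.Lib.Helper47

open Polynomial Module Matrix

section Mat

variable {F : Type*} [Field F] {n : Type*} [Fintype n] [DecidableEq n]

lemma natCast_ne_zero_of_coprime (p : ℕ) [Fact p.Prime] [CharP F p] {k : ℕ} (hk : k.Coprime p) :
    (k : F) ≠ 0 := by
  rw [Ne, CharP.cast_eq_zero_iff F p k]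
  intro hdvd
  have h1 : p ∣ Nat.gcd k p := Nat.dvd_gcd hdvd dvd_rfl
  rw [hk] at h1
  exact (Fact.out : p.Prime).one_lt.ne' (Nat.dvd_one.mp h1)

/-- A matrix of finite order prime to the characteristic is semisimple. -/
lemma isSemisimple_toLin'_of_pow_eq_one (M : Matrix n n F) (k : ℕ) (hk : (k : F) ≠ 0)
    (hM : M ^ k = 1) : Module.End.IsSemisimple (Matrix.toLin' M) := by
  have hsep : (X ^ k - C (1 : F)).Separable := separable_X_pow_sub_C 1 hk one_ne_zero
  apply Module.End.isSemisimple_of_squarefree_aeval_eq_zero hsep.squarefree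
  rw [map_sub, map_pow, aeval_X, aeval_C, ← Matrix.toLin'_pow, hM, Matrix.toLin'_one, map_one]
  exact sub_self (1 : Module.End F (n → F))

theorem exists_conj_matrix (M N : Matrix n n F) (hM : Module.End.IsSemisimple (toLin' M))
    (hN : Module.End.IsSemisimple (toLin' N)) (hc : M.charpoly = N.charpoly) :
    ∃ P : Matrix n n F, IsUnit P.det ∧ P * M = N * P := by
  obtain ⟨φ, hφ⟩ := exists_conj_of_charpoly_eq _ (n → F) (n → F) (toLin' M) (toLin' N) rfl hM hN
    (by rw [Matrix.charpoly_toLin', Matrix.charpoly_toLin', hc])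
  refine ⟨LinearMap.toMatrix' φ.toLinearMap, ?_, ?_⟩
  · have : LinearMap.toMatrix' φ.toLinearMap * LinearMap.toMatrix' φ.symm.toLinearMap = 1 := by
      rw [← LinearMap.toMatrix'_comp]; simp
    exact Matrix.isUnit_det_of_right_inverse this
  · apply Matrix.toLin'.injective
    rw [Matrix.toLin'_mul, Matrix.toLin'_mul, Matrix.toLin'_toMatrix']
    apply LinearMap.ext
    intro x
    rw [LinearMap.comp_apply, LinearMap.comp_apply]
    exact hφ x

theorem exists_commute_matrix_det [Finite F] [Nonempty n] (M : Matrix n n F)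
    (hM : Module.End.IsSemisimple (toLin' M)) (δ : F) :
    ∃ c : Matrix n n F, c * M = M * c ∧ c.det = δ := by
  obtain ⟨c, hc, hdet⟩ := exists_commute_det_eq (toLin' M) hM δ
  refine ⟨LinearMap.toMatrix' c, ?_, by rw [← hdet, LinearMap.det_toMatrix']⟩
  apply Matrix.toLin'.injective
  rw [toLin'_mul, toLin'_mul, toLin'_toMatrix']
  apply LinearMap.ext
  intro x
  rw [LinearMap.comp_apply, LinearMap.comp_apply]
  exact hc x

lemma charpoly_eq_of_mul_eq (P M N : Matrix n n F) (hP : IsUnit P.det) (h : P * M = N * P) :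
    M.charpoly = N.charpoly := by
  obtain ⟨u, rfl⟩ := (Matrix.isUnit_iff_isUnit_det P).mpr hP
  have : N = u.val * M * u.val⁻¹ := by
    rw [h, mul_assoc, Matrix.mul_nonsing_inv _ hP, mul_one]
  rw [this, Matrix.charpoly_units_conj]

end Mat

/-- In `SL_n(q)`, elements of order prime to `p` with the same characteristic polynomial are
conjugate. -/
theorem sl_isConj_of_charpoly_eq {F : Type*} [Field F] [Finite F] (p : ℕ) [Fact p.Prime]
    [CharP F p] (n : ℕ) (g h : Matrix.SpecialLinearGroup (Fin n) F) (kg kh : ℕ)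
    (hkg : kg.Coprime p) (hkh : kh.Coprime p) (hg : g ^ kg = 1) (hh : h ^ kh = 1)
    (hc : (g : Matrix (Fin n) (Fin n) F).charpoly = (h : Matrix (Fin n) (Fin n) F).charpoly) :
    IsConj g h := by
  rcases Nat.eq_zero_or_pos n with h0 | hpos
  · subst h0
    have : g = h := Subsingleton.elim _ _
    rw [this]
  have : Nonempty (Fin n) := ⟨⟨0, hpos⟩⟩
  have hgs : Module.End.IsSemisimple (toLin' (g : Matrix (Fin n) (Fin n) F)) :=
    isSemisimple_toLin'_of_pow_eq_one _ kg (natCast_ne_zero_of_coprime p hkg) (by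
      rw [← Matrix.SpecialLinearGroup.coe_pow, hg]; rfl)
  have hhs : Module.End.IsSemisimple (toLin' (h : Matrix (Fin n) (Fin n) F)) :=
    isSemisimple_toLin'_of_pow_eq_one _ kh (natCast_ne_zero_of_coprime p hkh) (by
      rw [← Matrix.SpecialLinearGroup.coe_pow, hh]; rfl)
  obtain ⟨P, hP, hPM⟩ := exists_conj_matrix _ _ hgs hhs hc
  obtain ⟨c, hcM, hcdet⟩ := exists_commute_matrix_det (g : Matrix (Fin n) (Fin n) F) hgs
    (P.det)⁻¹
  have hdet : (P * c).det = 1 := by
    rw [Matrix.det_mul, hcdet, mul_inv_cancel₀ hP.ne_zero]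
  obtain ⟨Q, hQ⟩ : ∃ Q : Matrix.SpecialLinearGroup (Fin n) F,
      (Q : Matrix (Fin n) (Fin n) F) = P * c := ⟨⟨P * c, hdet⟩, rfl⟩
  rw [isConj_iff]
  refine ⟨Q, ?_⟩
  rw [mul_inv_eq_iff_eq_mul]
  apply Subtype.ext
  simp only [Matrix.SpecialLinearGroup.coe_mul]
  rw [hQ, mul_assoc, hcM, ← mul_assoc, hPM, mul_assoc]

end Cfsg.Agent.Lib.Helper47
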