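import Mathlib
import Cfsg.Prelude.Def_Classical
import Cfsg.Agent.Lib.Helper47.SLGen
import Cfsg.Agent.Lib.Helper47.ClassicalEmb

set_option autoImplicit false

namespace Cfsg.Agent.Lib.Helper47

open Matrix

section unitary

variable {F : Type*} [Field F] (q : ℕ) (φ : F →+* F) (hφ : ∀ x, φ x = x ^ q)

include hφ in
theorem hermForm_eq (n : ℕ) (u v : Fin n → F) :
    Cfsg.hermForm n F q u v = ∑ i, u i * φ (v i) := by
  simp [Cfsg.hermForm, hφ]

include hφ in
theorem herm_add_smul_left (n : ℕ) (u z v : Fin n → F) (c : F) :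
    Cfsg.hermForm n F q (u + c • z) v
      = Cfsg.hermForm n F q u v + c * Cfsg.hermForm n F q z v := by
  simp only [hermForm_eq q φ hφ, Pi.add_apply, Pi.smul_apply, smul_eq_mul, add_mul,
    Finset.sum_add_distrib, Finset.mul_sum, mul_assoc]

include hφ in
theorem herm_add_smul_right (n : ℕ) (u v z : Fin n → F) (c : F) :
    Cfsg.hermForm n F q u (v + c • z)
      = Cfsg.hermForm n F q u v + φ c * Cfsg.hermForm n F q u z := by
  simp only [hermForm_eq q φ hφ, Pi.add_apply, Pi.smul_apply, smul_eq_mul, map_add, map_mul,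
    mul_add, Finset.sum_add_distrib, Finset.mul_sum]
  congr 1
  apply Finset.sum_congr rfl
  intro i _
  ring

include hφ in
theorem herm_conj (hφ2 : ∀ x, φ (φ x) = x) (n : ℕ) (u v : Fin n → F) :
    φ (Cfsg.hermForm n F q u v) = Cfsg.hermForm n F q v u := by
  simp only [hermForm_eq q φ hφ, map_sum, map_mul, hφ2]
  apply Finset.sum_congr rfl
  intro i _
  ring

include hφ in
/-- Unitary transvections preserve the hermitian form. -/
theorem herm_transvection (hφ2 : ∀ x, φ (φ x) = x) (n : ℕ) (z : Fin n → F)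
    (hz : Cfsg.hermForm n F q z z = 0) (κ : F) (hκ : φ κ = -κ) (u v : Fin n → F) :
    Cfsg.hermForm n F q (u + (κ * Cfsg.hermForm n F q u z) • z)
        (v + (κ * Cfsg.hermForm n F q v z) • z) = Cfsg.hermForm n F q u v := by
  rw [herm_add_smul_left q φ hφ, herm_add_smul_right q φ hφ, herm_add_smul_right q φ hφ, hz,
    map_mul, herm_conj q φ hφ hφ2, hκ]
  ring

theorem mem_SU_iff (n : ℕ) (g : SpecialLinearGroup (Fin n) F) :
    g ∈ Cfsg.SU n F q ↔ ∀ u v : Fin n → F,
      Cfsg.hermForm n F q (g.1 *ᵥ u) (g.1 *ᵥ v) = Cfsg.hermForm n F q u v := Iff.rfl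

/-- Even permutation matrices are unitary. -/
def permSU (n : ℕ) (F : Type*) [Field F] (q : ℕ) : alternatingGroup (Fin n) →* Cfsg.SU n F q :=
  (permSL F).codRestrict _ (fun σ => by
    rw [mem_SU_iff]
    intro u v
    rw [permSL_coe]
    unfold Cfsg.hermForm
    simp only [permMatHom_mulVec]
    exact Equiv.sum_comp (σ.1⁻¹) (fun i => u i * v i ^ q))

theorem permSU_injective (n : ℕ) : Function.Injective (permSU n F q) := by
  intro σ τ h
  apply permSL_injective F
  exact congrArg Subtype.val h

/-- Extend a vector of length 3 by zeros. -/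
def ext3 (n : ℕ) (w : Fin 3 → F) : Fin n → F := fun i => if h : (i : ℕ) < 3 then w ⟨i, h⟩ else 0

include hφ in
theorem herm_ext3 (n : ℕ) (hn : 3 ≤ n) (w w' : Fin 3 → F) :
    Cfsg.hermForm n F q (ext3 n w) (ext3 n w')
      = w 0 * φ (w' 0) + w 1 * φ (w' 1) + w 2 * φ (w' 2) := by
  rw [hermForm_eq q φ hφ]
  rw [← Fintype.sum_of_injective (Fin.castLE hn) (Fin.castLE_injective hn)
    (fun j => w j * φ (w' j)) (fun i => ext3 n w i * φ (ext3 n w' i))]
  · rw [Fin.sum_univ_three]
  · intro i hi
    have h3 : ¬ (i : ℕ) < 3 := by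
      intro h
      apply hi
      exact ⟨⟨i, h⟩, Fin.ext rfl⟩
    simp [ext3, h3]
  · intro j
    have hj : ((Fin.castLE hn j : Fin n) : ℕ) < 3 := by
      simp
    simp [ext3]

variable (n : ℕ) (a b x : F)

/-- first isotropic vector -/
def suE : Fin n → F := ext3 n ![1, a, b]

/-- second isotropic vector -/
def suF : Fin n → F := ext3 n ![x, φ x * a, φ x * b]

include hφ in
theorem herm_EE (hn : 3 ≤ n) (ha : φ a = a) (hb : φ b = b) (hab : a ^ 2 + b ^ 2 = -1) :
    Cfsg.hermForm n F q (suE n a b) (suE n a b) = 0 := by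
  unfold suE
  rw [herm_ext3 q φ hφ n hn]
  simp only [Matrix.cons_val_zero, Matrix.cons_val_one, Matrix.cons_val_two, Matrix.head_cons,
    Matrix.tail_cons, map_one, ha, hb]
  linear_combination hab

include hφ in
theorem herm_FF (hφ2 : ∀ x, φ (φ x) = x) (hn : 3 ≤ n) (ha : φ a = a) (hb : φ b = b)
    (hab : a ^ 2 + b ^ 2 = -1) :
    Cfsg.hermForm n F q (suF φ n a b x) (suF φ n a b x) = 0 := by
  unfold suF
  rw [herm_ext3 q φ hφ n hn]
  simp only [Matrix.cons_val_zero, Matrix.cons_val_one, Matrix.cons_val_two, Matrix.head_cons,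
    Matrix.tail_cons, map_mul, hφ2, ha, hb]
  linear_combination (x * φ x) * hab

include hφ in
theorem herm_EF (hφ2 : ∀ x, φ (φ x) = x) (hn : 3 ≤ n) (ha : φ a = a) (hb : φ b = b)
    (hab : a ^ 2 + b ^ 2 = -1) :
    Cfsg.hermForm n F q (suE n a b) (suF φ n a b x) = φ x - x := by
  unfold suE suF
  rw [herm_ext3 q φ hφ n hn]
  simp only [Matrix.cons_val_zero, Matrix.cons_val_one, Matrix.cons_val_two, Matrix.head_cons,
    Matrix.tail_cons, map_mul, hφ2, ha, hb]
  linear_combination x * hab

include hφ in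
theorem herm_FE (hn : 3 ≤ n) (ha : φ a = a) (hb : φ b = b)
    (hab : a ^ 2 + b ^ 2 = -1) :
    Cfsg.hermForm n F q (suF φ n a b x) (suE n a b) = -(φ x - x) := by
  unfold suE suF
  rw [herm_ext3 q φ hφ n hn]
  simp only [Matrix.cons_val_zero, Matrix.cons_val_one, Matrix.cons_val_two, Matrix.head_cons,
    Matrix.tail_cons, map_one, ha, hb]
  linear_combination φ x * hab

/-- columns `e`, `f` -/
def suB : Matrix (Fin n) (Fin 2) F :=
  Matrix.of fun i j => if j = 0 then suE n a b i else suF φ n a b x i

/-- dual rows -/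
def suC : Matrix (Fin 2) (Fin n) F :=
  Matrix.of fun j i => if j = 0 then φ (suF φ n a b x i) / (φ x - x)
    else -(φ (suE n a b i)) / (φ x - x)

include hφ in
theorem suC_mul_suB (hφ2 : ∀ x, φ (φ x) = x) (hn : 3 ≤ n) (ha : φ a = a) (hb : φ b = b)
    (hab : a ^ 2 + b ^ 2 = -1) (hx : φ x ≠ x) :
    suC φ n a b x * suB φ n a b x = 1 := by
  have hl : φ x - x ≠ 0 := sub_ne_zero.mpr hx
  have h1 := herm_EE q φ hφ n a b hn ha hb hab
  have h2 := herm_FF q φ hφ n a b x hφ2 hn ha hb hab
  have h3 := herm_EF q φ hφ n a b x hφ2 hn ha hb hab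
  have h4 := herm_FE q φ hφ n a b x hn ha hb hab
  rw [hermForm_eq q φ hφ] at h1 h2 h3 h4
  ext j j'
  fin_cases j <;> fin_cases j'
  · simp only [Matrix.mul_apply, suC, suB, Matrix.of_apply, Fin.zero_eta, if_true,
      Matrix.one_apply_eq]
    have : ∑ i, φ (suF φ n a b x i) / (φ x - x) * suE n a b i
        = (∑ i, suE n a b i * φ (suF φ n a b x i)) / (φ x - x) := by
      rw [Finset.sum_div]
      apply Finset.sum_congr rfl
      intro i _
      ring
    rw [this, h3, div_self hl]
  · simp only [Matrix.mul_apply, suC, suB, Matrix.of_apply, Fin.zero_eta, Fin.mk_one, if_true,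
      one_ne_zero, if_false]
    have : ∑ i, φ (suF φ n a b x i) / (φ x - x) * suF φ n a b x i
        = (∑ i, suF φ n a b x i * φ (suF φ n a b x i)) / (φ x - x) := by
      rw [Finset.sum_div]
      apply Finset.sum_congr rfl
      intro i _
      ring
    rw [this, h2, zero_div]
    simp
  · simp only [Matrix.mul_apply, suC, suB, Matrix.of_apply, Fin.zero_eta, Fin.mk_one, if_true,
      one_ne_zero, if_false]
    have : ∑ i, -(φ (suE n a b i)) / (φ x - x) * suE n a b i
        = -(∑ i, suE n a b i * φ (suE n a b i)) / (φ x - x) := by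
      rw [← Finset.sum_neg_distrib, Finset.sum_div]
      apply Finset.sum_congr rfl
      intro i _
      ring
    rw [this, h1, neg_zero, zero_div]
    simp
  · simp only [Matrix.mul_apply, suC, suB, Matrix.of_apply, Fin.mk_one, one_ne_zero, if_false,
      Matrix.one_apply_eq]
    have : ∑ i, -(φ (suE n a b i)) / (φ x - x) * suF φ n a b x i
        = -(∑ i, suF φ n a b x i * φ (suE n a b i)) / (φ x - x) := by
      rw [← Finset.sum_neg_distrib, Finset.sum_div]
      apply Finset.sum_congr rfl
      intro i _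
      ring
    rw [this, h4, neg_neg, div_self hl]

end unitary

section fixed

variable {F : Type*} [Field F] (q : ℕ) (φ : F →+* F) (hφ : ∀ x, φ x = x ^ q)

/-- The fixed field of `φ`. -/
def fixSubfield : Subfield F := φ.eqLocusField (RingHom.id F)

theorem mem_fixSubfield (x : F) : x ∈ fixSubfield φ ↔ φ x = x := Iff.rfl

theorem blockMat_transvection_mulVec {ι : Type*} [Fintype ι] [DecidableEq ι]
    (B : Matrix ι (Fin 2) F) (C : Matrix (Fin 2) ι F) (i j : Fin 2) (c : F) (u : ι → F) :
    blockMat B C (1 + Matrix.single i j c) *ᵥ u = u + (c * (C *ᵥ u) j) • (fun a => B a i) := by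
  unfold blockMat
  rw [add_sub_cancel_left, Matrix.add_mulVec, Matrix.one_mulVec, ← Matrix.mulVec_mulVec]
  congr 1
  obtain ⟨w, hw⟩ : ∃ w, w = C *ᵥ u := ⟨_, rfl⟩
  rw [← hw]
  ext a
  simp only [Matrix.mulVec, dotProduct, Pi.smul_apply, smul_eq_mul]
  rw [Finset.sum_eq_single j]
  · rw [Matrix.mul_single_apply_same]
    ring
  · intro k _ hk
    rw [Matrix.mul_single_apply_of_ne (hbj := hk)]
    ring
  · simp

variable (n : ℕ) (a b x : F)

/-- `SL₂` of the fixed field, acting on the hyperbolic plane spanned by `e`, `f`. -/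
def suHom (h : suC φ n a b x * suB φ n a b x = 1) :
    SpecialLinearGroup (Fin 2) (fixSubfield φ) →* SpecialLinearGroup (Fin n) F :=
  (blockEmb (suB φ n a b x) (suC φ n a b x) h).comp
    (SpecialLinearGroup.map (fixSubfield φ).subtype)

theorem suHom_injective (h : suC φ n a b x * suB φ n a b x = 1) :
    Function.Injective (suHom φ n a b x h) := by
  apply (blockEmb_injective _ _ h).comp
  intro g g' hgg
  ext i j
  have h1 := congrArg (fun M : SpecialLinearGroup (Fin 2) F => M.1 i j) hgg
  simpa using h1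

include hφ in
theorem suHom_mem_SU (hφ2 : ∀ x, φ (φ x) = x) (hn : 3 ≤ n) (ha : φ a = a) (hb : φ b = b)
    (hab : a ^ 2 + b ^ 2 = -1) (hx : φ x ≠ x) (h : suC φ n a b x * suB φ n a b x = 1)
    (g : SpecialLinearGroup (Fin 2) (fixSubfield φ)) : suHom φ n a b x h g ∈ Cfsg.SU n F q := by
  have hl : φ x - x ≠ 0 := sub_ne_zero.mpr hx
  have hφl : φ (φ x - x) = -(φ x - x) := by
    rw [map_sub, hφ2]
    ring
  have hH : (Cfsg.SU n F q).comap (suHom φ n a b x h) = ⊤ := by
    apply eq_top_of_transvection_mem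
    intro i j hij c
    rw [Subgroup.mem_comap, mem_SU_iff]
    have hc : φ (c : F) = c := c.2
    have hcoe : (suHom φ n a b x h (SpecialLinearGroup.transvection hij c)).1
        = blockMat (suB φ n a b x) (suC φ n a b x) (1 + Matrix.single i j (c : F)) := by
      change blockMat _ _ ((SpecialLinearGroup.map (fixSubfield φ).subtype
        (SpecialLinearGroup.transvection hij c)).1) = _
      congr 1
      rw [SpecialLinearGroup.map_apply_coe, SpecialLinearGroup.transvection_coe]
      ext a' b'
      simp only [RingHom.mapMatrix_apply, Matrix.map_apply, Matrix.add_apply, Matrix.one_apply,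
        Matrix.single_apply, Subfield.coe_subtype, Subfield.coe_add]
      split_ifs <;> simp
    intro u v
    rw [hcoe, blockMat_transvection_mulVec, blockMat_transvection_mulVec]
    fin_cases i <;> fin_cases j
    · exact absurd rfl hij
    · have hB : (fun a' => suB φ n a b x a' 0) = suE n a b := by
        ext a'
        simp [suB]
      have hC : ∀ u : Fin n → F, (suC φ n a b x *ᵥ u) 1
          = -(Cfsg.hermForm n F q u (suE n a b)) / (φ x - x) := by
        intro u
        rw [hermForm_eq q φ hφ]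
        simp only [Matrix.mulVec, dotProduct, suC, Matrix.of_apply, one_ne_zero, if_false]
        rw [← Finset.sum_neg_distrib, Finset.sum_div]
        apply Finset.sum_congr rfl
        intro i _
        ring
      simp only [Fin.zero_eta, Fin.mk_one]
      rw [hB, hC, hC]
      have h1 := herm_transvection q φ hφ hφ2 n (suE n a b)
        (herm_EE q φ hφ n a b hn ha hb hab) (-(c : F) / (φ x - x))
        (by rw [map_div₀, map_neg, hc, hφl]; field_simp) u v
      have e1 : ∀ t : F, (c : F) * (-t / (φ x - x)) = -(c : F) / (φ x - x) * t := by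
        intro t
        ring
      rw [e1, e1]
      exact h1
    · have hB : (fun a' => suB φ n a b x a' 1) = suF φ n a b x := by
        ext a'
        simp [suB]
      have hC : ∀ u : Fin n → F, (suC φ n a b x *ᵥ u) 0
          = (Cfsg.hermForm n F q u (suF φ n a b x)) / (φ x - x) := by
        intro u
        rw [hermForm_eq q φ hφ]
        simp only [Matrix.mulVec, dotProduct, suC, Matrix.of_apply, if_true]
        rw [Finset.sum_div]
        apply Finset.sum_congr rfl
        intro i _
        ring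
      simp only [Fin.zero_eta, Fin.mk_one]
      rw [hB, hC, hC]
      have h1 := herm_transvection q φ hφ hφ2 n (suF φ n a b x)
        (herm_FF q φ hφ n a b x hφ2 hn ha hb hab) ((c : F) / (φ x - x))
        (by rw [map_div₀, hc, hφl]; field_simp) u v
      have e1 : ∀ t : F, (c : F) * (t / (φ x - x)) = (c : F) / (φ x - x) * t := by
        intro t
        ring
      rw [e1, e1]
      exact h1
    · exact absurd rfl hij
  have h2 : g ∈ (Cfsg.SU n F q).comap (suHom φ n a b x h) := by
    rw [hH]
    trivial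
  exact h2

theorem card_le_card_fixSubfield_sq [Fintype F] [Fintype (fixSubfield φ)]
    (hφ2 : ∀ x, φ (φ x) = x) (hx : φ x ≠ x) :
    Fintype.card F ≤ Fintype.card (fixSubfield φ) ^ 2 := by
  have hl : φ x - x ≠ 0 := sub_ne_zero.mpr hx
  let f : (fixSubfield φ) × (fixSubfield φ) → F := fun st => (st.1 : F) + (st.2 : F) * x
  have hf : Function.Surjective f := by
    intro y
    have ht : φ ((φ y - y) / (φ x - x)) = (φ y - y) / (φ x - x) := by
      rw [map_div₀, map_sub, map_sub, hφ2, hφ2]
      have hl' : x - φ x ≠ 0 := fun h => hl (by linear_combination -h)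
      field_simp
      ring
    have hs : φ (y - (φ y - y) / (φ x - x) * x) = y - (φ y - y) / (φ x - x) * x := by
      rw [map_sub, map_mul, ht]
      field_simp
      ring
    refine ⟨(⟨_, hs⟩, ⟨_, ht⟩), ?_⟩
    simp [f]
  have h1 := Fintype.card_le_of_surjective f hf
  rw [Fintype.card_prod] at h1
  rw [sq]
  exact h1

end fixed

section existence

/-- Frobenius data for a field of order `q²`. -/
theorem exists_unitary_data (F : Type*) [Field F] [Fintype F] (q : ℕ)
    (hq : Fintype.card F = q ^ 2) :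
    ∃ φ : F →+* F, (∀ x, φ x = x ^ q) ∧ (∀ x, φ (φ x) = x) ∧
      ∃ a b x : F, φ a = a ∧ φ b = b ∧ a ^ 2 + b ^ 2 = -1 ∧ φ x ≠ x := by
  classical
  have hcard : 1 < Fintype.card F := Fintype.one_lt_card
  have hq1 : 1 < q := by
    by_contra hcon
    have : q = 0 ∨ q = 1 := by omega
    rcases this with h | h <;> rw [h] at hq <;> omega
  have hq0 : q ≠ 0 := by omega
  obtain ⟨p, hp⟩ := CharP.exists F
  have hpp : p.Prime := by
    rcases CharP.char_is_prime_or_zero F p with h | h
    · exact h
    · exfalso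
      subst h
      have : CharZero F := CharP.charP_to_charZero F
      exact not_finite F
  have : Fact p.Prime := ⟨hpp⟩
  obtain ⟨k, -, hk⟩ := FiniteField.card F p
  have hdvd : q ∣ p ^ (k : ℕ) := by
    rw [← hk, hq]
    exact dvd_pow_self q two_ne_zero
  obtain ⟨j, -, hj⟩ := (Nat.dvd_prime_pow hpp).mp hdvd
  let φ : F →+* F :=
    { toFun := fun x => x ^ q
      map_one' := one_pow q
      map_mul' := fun x y => mul_pow x y q
      map_zero' := zero_pow hq0
      map_add' := fun x y => by
        rw [hj]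
        exact add_pow_char_pow x y p j }
  have hφ : ∀ x, φ x = x ^ q := fun x => rfl
  have hφ2 : ∀ x, φ (φ x) = x := by
    intro x
    rw [hφ, hφ, ← pow_mul, ← sq, ← hq]
    exact FiniteField.pow_card x
  refine ⟨φ, hφ, hφ2, ?_⟩
  obtain ⟨a, b, hab⟩ := CharP.sq_add_sq F p (-1)
  have hx : ∃ x : F, φ x ≠ x := by
    by_contra hcon
    push Not at hcon
    have h0 : (Polynomial.X ^ q - Polynomial.X : Polynomial F) = 0 := by
      apply Polynomial.eq_zero_of_natDegree_lt_card_of_eval_eq_zero' _ (Finset.univ : Finset F)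
      · intro x _
        have := hcon x
        rw [hφ] at this
        simp [this]
      · rw [FiniteField.X_pow_card_sub_X_natDegree_eq F hq1, Finset.card_univ, hq]
        nlinarith
    exact FiniteField.X_pow_card_sub_X_ne_zero F hq1 h0
  obtain ⟨x, hx⟩ := hx
  refine ⟨a, b, x, map_natCast φ a, map_natCast φ b, ?_, hx⟩
  rw [hab]
  simp

/-- `SL₂` over a field with at least `q` elements embeds in `SU_n(q)`, `n ≥ 3`. -/
theorem exists_SU_embedding (F : Type) [Field F] [Fintype F] (q n : ℕ)
    (hq : Fintype.card F = q ^ 2) (hn : 3 ≤ n) :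
    ∃ (K : Type) (_ : Field K) (_ : Fintype K), q ≤ Fintype.card K ∧
      ∃ ψ : SpecialLinearGroup (Fin 2) K →* Cfsg.SU n F q, Function.Injective ψ := by
  classical
  obtain ⟨φ, hφ, hφ2, a, b, x, ha, hb, hab, hx⟩ := exists_unitary_data F q hq
  have hCB := suC_mul_suB q φ hφ n a b x hφ2 hn ha hb hab hx
  have : Fintype (fixSubfield φ) := Fintype.ofFinite _
  refine ⟨fixSubfield φ, inferInstance, inferInstance, ?_, ?_⟩
  · have h1 := card_le_card_fixSubfield_sq φ x hφ2 hx
    rw [hq] at h1
    exact (Nat.pow_le_pow_iff_left two_ne_zero).mp h1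
  · refine ⟨(suHom φ n a b x hCB).codRestrict _
      (suHom_mem_SU q φ hφ n a b x hφ2 hn ha hb hab hx hCB), ?_⟩
    intro g g' hgg
    apply suHom_injective φ n a b x hCB
    exact congrArg Subtype.val hgg

end existence

end Cfsg.Agent.Lib.Helper47
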