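import Cfsg.Agent.Lib.Helper47.UCent
import Cfsg.Agent.Lib.Helper47.SemiConjMat
import Cfsg.Agent.Lib.Helper47.UnitaryEmb

/-!
# Semisimple elements of `SU_n(q)` with the same characteristic polynomial are conjugate
-/

set_option autoImplicit false

namespace Cfsg.Agent.Lib.Helper47

open Polynomial Module Matrix

section U

variable {F : Type*} [Field F] {ι : Type*} [Fintype ι] [DecidableEq ι]

/-- The standard `σ`-hermitian form `∑ u_i σ(v_i)`. -/
def uForm (σ : F →+* F) (u v : ι → F) : F := ∑ i, u i * σ (v i)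

lemma uForm_isSForm (σ : F →+* F) (hσ : ∀ x, σ (σ x) = x) :
    IsSForm σ 1 (uForm σ : (ι → F) → (ι → F) → F) where
  add_left x y z := by simp [uForm, add_mul, Finset.sum_add_distrib]
  smul_left c x y := by simp [uForm, Finset.mul_sum, mul_assoc]
  symm x y := by
    simp only [uForm, one_mul, map_sum, map_mul, hσ]
    exact Finset.sum_congr rfl (fun i _ => mul_comm _ _)

lemma uForm_single_left (σ : F →+* F) (i : ι) (y : ι → F) :
    uForm σ (Pi.single i 1) y = σ (y i) := by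
  simp [uForm, Pi.single_apply]

lemma uForm_single_right (σ : F →+* F) (x : ι → F) (j : ι) :
    uForm σ x (Pi.single j 1) = x j := by
  simp [uForm, Pi.single_apply, apply_ite σ]

lemma uForm_nondeg (σ : F →+* F) : Nondeg (uForm σ : (ι → F) → (ι → F) → F) := by
  intro x hx
  funext j
  have := hx (Pi.single j 1)
  rw [uForm_single_right] at this
  exact this

/-- Mutually adjoint matrices have `σ`-conjugate determinants. -/
lemma uForm_adj_det (σ : F →+* F) {M M' : Matrix ι ι F}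
    (h : ∀ x y, uForm σ (M *ᵥ x) y = uForm σ x (M' *ᵥ y)) : M.det = σ M'.det := by
  have h1 : M = (σ.mapMatrix M')ᵀ := by
    ext j i
    have := h (Pi.single i 1) (Pi.single j 1)
    rw [uForm_single_right, uForm_single_left] at this
    simpa using this
  rw [h1, Matrix.det_transpose, ← RingHom.map_det]

/-- Hilbert 90 for an involution. -/
lemma exists_h90 (σ : F →+* F) (hσ : ∀ x, σ (σ x) = x) (hne : ∃ c, σ c ≠ c) (δ : F)
    (hδ : δ * σ δ = 1) : ∃ γ, γ ≠ 0 ∧ γ = δ * σ γ := by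
  by_cases h : δ = -1
  · obtain ⟨c, hc⟩ := hne
    refine ⟨c - σ c, sub_ne_zero.mpr (Ne.symm hc), ?_⟩
    rw [h, map_sub, hσ]; ring
  · refine ⟨1 + δ, fun h0 => h (eq_neg_of_add_eq_zero_right h0), ?_⟩
    rw [map_add, map_one, mul_add, hδ, mul_one, add_comm]

end U

/-- Conjugacy of semisimple unitary matrices with equal characteristic polynomial by a unitary
matrix of determinant one. -/
theorem exists_unitary_conj_det_one {F : Type*} [Field F] [Finite F] (σ : F →+* F)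
    (hσ : ∀ x, σ (σ x) = x) (hne : ∃ c, σ c ≠ c) (n : ℕ) (G H : Matrix (Fin n) (Fin n) F)
    (hGu : ∀ x y, uForm σ (G *ᵥ x) (G *ᵥ y) = uForm σ x y)
    (hHu : ∀ x y, uForm σ (H *ᵥ x) (H *ᵥ y) = uForm σ x y)
    (hGs : Module.End.IsSemisimple (toLin' G)) (hHs : Module.End.IsSemisimple (toLin' H))
    (hc : G.charpoly = H.charpoly) :
    ∃ P : Matrix (Fin n) (Fin n) F, P.det = 1 ∧
      (∀ x y, uForm σ (P *ᵥ x) (P *ᵥ y) = uForm σ x y) ∧ P * G = H * P := by
  rcases Nat.eq_zero_or_pos n with h0 | hpos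
  · subst h0
    exact ⟨1, by simp, fun x y => by simp, Subsingleton.elim _ _⟩
  have hB := uForm_isSForm (ι := Fin n) σ hσ
  have hnd := uForm_nondeg (ι := Fin n) (F := F) σ
  have hσne : σ ≠ RingHom.id F := by
    intro h
    obtain ⟨c, hc⟩ := hne
    exact hc (by rw [h]; rfl)
  obtain ⟨φ, hφe, hφi⟩ := exists_isometry_conj (σ := σ) (ε := 1) hσ (Or.inr hne) _
    (Fin n → F) (Fin n → F) (uForm σ) (uForm σ) (toLin' G) (toLin' H) rfl hB hB hnd hnd
    (fun h => absurd h hσne) (fun h => absurd h hσne) hGs hHs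
    (fun x y => by rw [Matrix.toLin'_apply, Matrix.toLin'_apply]; exact hGu x y)
    (fun x y => by rw [Matrix.toLin'_apply, Matrix.toLin'_apply]; exact hHu x y)
    (by rw [Matrix.charpoly_toLin', Matrix.charpoly_toLin', hc])
  obtain ⟨P₀, hP₀⟩ : ∃ P₀ : Matrix (Fin n) (Fin n) F, P₀ = LinearMap.toMatrix' φ.toLinearMap :=
    ⟨_, rfl⟩
  obtain ⟨P₁, hP₁⟩ : ∃ P₁ : Matrix (Fin n) (Fin n) F,
    P₁ = LinearMap.toMatrix' φ.symm.toLinearMap := ⟨_, rfl⟩
  have hP01 : P₀ * P₁ = 1 := by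
    rw [hP₀, hP₁, ← LinearMap.toMatrix'_comp]
    simp
  have hP₀v : ∀ x, P₀ *ᵥ x = φ x := by
    intro x
    rw [hP₀, ← Matrix.toLin'_apply, Matrix.toLin'_toMatrix']
    rfl
  have hP₀u : ∀ x y, uForm σ (P₀ *ᵥ x) (P₀ *ᵥ y) = uForm σ x y := by
    intro x y
    rw [hP₀v, hP₀v]
    exact hφi x y
  have hP₀G : P₀ * G = H * P₀ := by
    apply Matrix.toLin'.injective
    rw [Matrix.toLin'_mul, Matrix.toLin'_mul, hP₀, Matrix.toLin'_toMatrix']
    apply LinearMap.ext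
    intro x
    rw [LinearMap.comp_apply, LinearMap.comp_apply]
    exact hφe x
  have hdet01 : P₀.det * P₁.det = 1 := by rw [← Matrix.det_mul, hP01, Matrix.det_one]
  have hd0 : P₀.det ≠ 0 := left_ne_zero_of_mul_eq_one hdet01
  have hadj0 : P₀.det = σ P₁.det := by
    apply uForm_adj_det σ
    intro x y
    have : y = P₀ *ᵥ (P₁ *ᵥ y) := by rw [Matrix.mulVec_mulVec, hP01, Matrix.one_mulVec]
    conv_lhs => rw [this]
    rw [hP₀u]
  -- the correction factor
  obtain ⟨δ, hδ⟩ : ∃ δ : F, δ = P₁.det := ⟨_, rfl⟩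
  have hδ1 : δ * σ δ = 1 := by
    rw [hδ, ← hadj0, mul_comm]; exact hdet01
  obtain ⟨γ, hγ0, hγ⟩ := exists_h90 σ hσ hne δ hδ1
  have hnt : Nontrivial (Fin n → F) := by
    have : Nonempty (Fin n) := ⟨⟨0, hpos⟩⟩
    infer_instance
  obtain ⟨T, T', hTg, hT'g, hTT', hadj, hdetT⟩ := exists_adj_pair_det hB hσ hne hnd hGs
    (fun x y => by rw [Matrix.toLin'_apply, Matrix.toLin'_apply]; exact hGu x y) γ
  obtain ⟨M, hM⟩ : ∃ M : Matrix (Fin n) (Fin n) F, M = LinearMap.toMatrix' T := ⟨_, rfl⟩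
  obtain ⟨M', hM'⟩ : ∃ M' : Matrix (Fin n) (Fin n) F, M' = LinearMap.toMatrix' T' := ⟨_, rfl⟩
  have hMv : ∀ x, M *ᵥ x = T x := by
    intro x; rw [hM, ← Matrix.toLin'_apply, Matrix.toLin'_toMatrix']
  have hM'v : ∀ x, M' *ᵥ x = T' x := by
    intro x; rw [hM', ← Matrix.toLin'_apply, Matrix.toLin'_toMatrix']
  have hMdet : M.det = γ := by rw [hM, LinearMap.det_toMatrix', hdetT]
  have hMadj : ∀ x y, uForm σ (M *ᵥ x) y = uForm σ x (M' *ᵥ y) := by
    intro x y; rw [hMv, hM'v]; exact hadj x y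
  have hM'adj : ∀ x y, uForm σ (M' *ᵥ x) y = uForm σ x (M *ᵥ y) := by
    intro x y
    rw [hB.symm y (M' *ᵥ x), ← hMadj, hB.symm (M *ᵥ y) x]
  have hM'det : M'.det = σ γ := by
    rw [← hMdet, uForm_adj_det σ hMadj, hσ]
  have hσγ0 : σ γ ≠ 0 := by
    intro h
    apply hγ0
    rw [← hσ γ, h, map_zero]
  have hM'u : IsUnit M'.det := by rw [hM'det]; exact isUnit_iff_ne_zero.mpr hσγ0
  have hMM' : M * M' = M' * M := by
    apply Matrix.toLin'.injective
    apply LinearMap.ext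
    intro x
    rw [Matrix.toLin'_mul, Matrix.toLin'_mul, LinearMap.comp_apply, LinearMap.comp_apply,
      Matrix.toLin'_apply, Matrix.toLin'_apply, Matrix.toLin'_apply, Matrix.toLin'_apply, hMv,
      hM'v, hMv, hM'v]
    exact hTT' x
  have hMG : M * G = G * M := by
    apply Matrix.toLin'.injective
    apply LinearMap.ext
    intro x
    rw [Matrix.toLin'_mul, Matrix.toLin'_mul, LinearMap.comp_apply, LinearMap.comp_apply,
      Matrix.toLin'_apply M, Matrix.toLin'_apply M, hMv, hMv]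
    exact hTg x
  have hM'G : M' * G = G * M' := by
    apply Matrix.toLin'.injective
    apply LinearMap.ext
    intro x
    rw [Matrix.toLin'_mul, Matrix.toLin'_mul, LinearMap.comp_apply, LinearMap.comp_apply,
      Matrix.toLin'_apply M', Matrix.toLin'_apply M', hM'v, hM'v]
    exact hT'g x
  have hi1 : M' * M'⁻¹ = 1 := Matrix.mul_nonsing_inv M' hM'u
  have hi2 : M'⁻¹ * M' = 1 := Matrix.nonsing_inv_mul M' hM'u
  have hM'iG : M'⁻¹ * G = G * M'⁻¹ := by
    calc M'⁻¹ * G = M'⁻¹ * G * (M' * M'⁻¹) := by rw [hi1, mul_one]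
      _ = M'⁻¹ * (G * M') * M'⁻¹ := by simp only [mul_assoc]
      _ = M'⁻¹ * (M' * G) * M'⁻¹ := by rw [hM'G]
      _ = (M'⁻¹ * M') * G * M'⁻¹ := by simp only [mul_assoc]
      _ = G * M'⁻¹ := by rw [hi2, one_mul]
  have hMM'i : M'⁻¹ * M = M * M'⁻¹ := by
    calc M'⁻¹ * M = M'⁻¹ * M * (M' * M'⁻¹) := by rw [hi1, mul_one]
      _ = M'⁻¹ * (M * M') * M'⁻¹ := by simp only [mul_assoc]
      _ = M'⁻¹ * (M' * M) * M'⁻¹ := by rw [hMM']
      _ = (M'⁻¹ * M') * M * M'⁻¹ := by simp only [mul_assoc]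
      _ = M * M'⁻¹ := by rw [hi2, one_mul]
  obtain ⟨c, hc⟩ : ∃ c : Matrix (Fin n) (Fin n) F, c = M * M'⁻¹ := ⟨_, rfl⟩
  have hcu : ∀ x y, uForm σ (c *ᵥ x) (c *ᵥ y) = uForm σ x y := by
    intro x y
    have e1 : c *ᵥ x = M *ᵥ (M'⁻¹ *ᵥ x) := by rw [hc, Matrix.mulVec_mulVec]
    have e2 : M' *ᵥ (c *ᵥ y) = M *ᵥ y := by
      rw [hc, Matrix.mulVec_mulVec, ← mul_assoc, ← hMM', mul_assoc, hi1, mul_one]
    rw [e1, hMadj, e2, ← hM'adj, Matrix.mulVec_mulVec, hi1, Matrix.one_mulVec]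
  have hcG : c * G = G * c := by
    rw [hc, mul_assoc, hM'iG, ← mul_assoc, hMG, mul_assoc]
  have hcdet : c.det = γ * (σ γ)⁻¹ := by
    rw [hc, Matrix.det_mul, Matrix.det_nonsing_inv, hMdet, hM'det, Ring.inverse_eq_inv']
  refine ⟨P₀ * c, ?_, ?_, ?_⟩
  · rw [Matrix.det_mul, hcdet]
    have h1 : P₀.det * δ = 1 := by rw [hδ]; exact hdet01
    have h2 : γ * (σ γ)⁻¹ = δ := by
      calc γ * (σ γ)⁻¹ = δ * σ γ * (σ γ)⁻¹ := by rw [← hγ]
        _ = δ := by rw [mul_assoc, mul_inv_cancel₀ hσγ0, mul_one]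
    rw [h2, h1]
  · intro x y
    rw [← Matrix.mulVec_mulVec, ← Matrix.mulVec_mulVec, hP₀u, hcu]
  · rw [mul_assoc, hcG, ← mul_assoc, hP₀G, mul_assoc]

/-- In `SU_n(q)`, elements of order prime to `p` with the same characteristic polynomial are
conjugate. -/
theorem su_isConj_of_charpoly_eq {F : Type*} [Field F] [Fintype F] {q : ℕ}
    (hF : Fintype.card F = q ^ 2) (p : ℕ) [Fact p.Prime] [CharP F p] (n : ℕ)
    (g h : ↥(Cfsg.SU n F q)) (kg kh : ℕ) (hkg : kg.Coprime p) (hkh : kh.Coprime p)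
    (hg : g ^ kg = 1) (hh : h ^ kh = 1)
    (hc : ((g : Matrix.SpecialLinearGroup (Fin n) F) : Matrix (Fin n) (Fin n) F).charpoly =
      ((h : Matrix.SpecialLinearGroup (Fin n) F) : Matrix (Fin n) (Fin n) F).charpoly) :
    IsConj g h := by
  obtain ⟨σ, hσq, hσ, -, -, x₀, -, -, -, hx₀⟩ := exists_unitary_data F q hF
  have hform : ∀ u v : Fin n → F, Cfsg.hermForm n F q u v = uForm σ u v :=
    fun u v => hermForm_eq q σ hσq n u v
  obtain ⟨G, hG⟩ : ∃ G : Matrix (Fin n) (Fin n) F,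
    G = ((g : Matrix.SpecialLinearGroup (Fin n) F) : Matrix (Fin n) (Fin n) F) := ⟨_, rfl⟩
  obtain ⟨H, hH⟩ : ∃ H : Matrix (Fin n) (Fin n) F,
    H = ((h : Matrix.SpecialLinearGroup (Fin n) F) : Matrix (Fin n) (Fin n) F) := ⟨_, rfl⟩
  have hGu : ∀ x y, uForm σ (G *ᵥ x) (G *ᵥ y) = uForm σ x y := by
    intro x y
    rw [← hform, ← hform, hG]
    exact (mem_SU_iff q n _).mp g.2 x y
  have hHu : ∀ x y, uForm σ (H *ᵥ x) (H *ᵥ y) = uForm σ x y := by
    intro x y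
    rw [← hform, ← hform, hH]
    exact (mem_SU_iff q n _).mp h.2 x y
  have hGk : G ^ kg = 1 := by
    have := congrArg (fun z : ↥(Cfsg.SU n F q) =>
      ((z : Matrix.SpecialLinearGroup (Fin n) F) : Matrix (Fin n) (Fin n) F)) hg
    simpa [hG] using this
  have hHk : H ^ kh = 1 := by
    have := congrArg (fun z : ↥(Cfsg.SU n F q) =>
      ((z : Matrix.SpecialLinearGroup (Fin n) F) : Matrix (Fin n) (Fin n) F)) hh
    simpa [hH] using this
  have hGs : Module.End.IsSemisimple (toLin' G) :=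
    isSemisimple_toLin'_of_pow_eq_one _ kg (natCast_ne_zero_of_coprime p hkg) hGk
  have hHs : Module.End.IsSemisimple (toLin' H) :=
    isSemisimple_toLin'_of_pow_eq_one _ kh (natCast_ne_zero_of_coprime p hkh) hHk
  obtain ⟨P, hPdet, hPu, hPG⟩ := exists_unitary_conj_det_one σ hσ ⟨x₀, hx₀⟩ n G H hGu hHu hGs hHs
    (by rw [hG, hH]; exact hc)
  obtain ⟨Q, hQ⟩ : ∃ Q : Matrix.SpecialLinearGroup (Fin n) F, (Q : Matrix _ _ F) = P :=
    ⟨⟨P, hPdet⟩, rfl⟩
  have hQm : Q ∈ Cfsg.SU n F q := by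
    rw [mem_SU_iff]
    intro u v
    rw [hform, hform, hQ]
    exact hPu u v
  rw [isConj_iff]
  refine ⟨⟨Q, hQm⟩, ?_⟩
  rw [mul_inv_eq_iff_eq_mul]
  apply Subtype.ext
  apply Subtype.ext
  simp only [Subgroup.coe_mul, Matrix.SpecialLinearGroup.coe_mul]
  rw [hQ, ← hG, ← hH]
  exact hPG

end Cfsg.Agent.Lib.Helper47
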