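import Cfsg.Agent.Lib.Helper47.HermNorm
import Cfsg.Agent.Lib.Helper47.SUConj
import Cfsg.Prelude.Def_LieClassical

/-!
# Conjugacy in `GU_n(q)` is controlled by `GL_n(q²)`

If `x A x⁻¹ = B` with `A`, `B` unitary, then `a = x* x` is hermitian and commutes with `A`; the
norm lemma gives a polynomial `y` in `a` with `y* y = a`, and `x y⁻¹` is unitary and conjugates
`A` to `B`.
-/

set_option autoImplicit false

namespace Cfsg.Agent.Lib.Helper47

open Polynomial Matrix

section GU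

variable {F : Type*} [Field F] {ι : Type*} [Fintype ι] [DecidableEq ι] {σ : F →+* F}

/-- The adjoint of `x` for the standard hermitian form is the conjugate transpose. -/
lemma uForm_star (hσ : ∀ x, σ (σ x) = x) (x : Matrix ι ι F) (u v : ι → F) :
    uForm σ (x *ᵥ u) v = uForm σ u ((x.map σ)ᵀ *ᵥ v) := by
  simp only [uForm, Matrix.mulVec, dotProduct, Matrix.transpose_apply, Matrix.map_apply,
    map_sum, map_mul, hσ, Finset.sum_mul, Finset.mul_sum]
  rw [Finset.sum_comm]
  apply Finset.sum_congr rfl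
  intro j _
  apply Finset.sum_congr rfl
  intro i _
  ring

/-- Self-adjoint matrices for the standard hermitian form. -/
def HermM (σ : F →+* F) (a : Matrix ι ι F) : Prop :=
  ∀ u v, uForm σ (a *ᵥ u) v = uForm σ u (a *ᵥ v)

lemma HermM.pow {a : Matrix ι ι F} (ha : HermM σ a) (n : ℕ) : HermM σ (a ^ n) := by
  induction n with
  | zero => intro u v; simp
  | succ n ih =>
    intro u v
    rw [pow_succ, ← Matrix.mulVec_mulVec, ih, ha, Matrix.mulVec_mulVec, ← pow_succ',
      pow_succ]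

lemma herm_aeval (hσ : ∀ x, σ (σ x) = x) {a : Matrix ι ι F} (ha : HermM σ a) (P : F[X])
    (u v : ι → F) :
    uForm σ (aeval a P *ᵥ u) v = uForm σ u (aeval a (P.map σ) *ᵥ v) := by
  have hB := uForm_isSForm (ι := ι) σ hσ
  induction P using Polynomial.induction_on' with
  | add p q hp hq =>
    rw [map_add, Matrix.add_mulVec, hB.add_left, hp, hq, Polynomial.map_add, map_add,
      Matrix.add_mulVec, hB.add_right]
  | monomial n c =>
    rw [aeval_monomial, Polynomial.map_monomial, aeval_monomial, Algebra.algebraMap_eq_smul_one,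
      Algebra.algebraMap_eq_smul_one, smul_mul_assoc, one_mul, smul_mul_assoc, one_mul,
      Matrix.smul_mulVec, Matrix.smul_mulVec, hB.smul_left, hB.smul_right, hσ, ha.pow n]

lemma commute_aeval {A a : Matrix ι ι F} (h : A * a = a * A) (P : F[X]) :
    A * aeval a P = aeval a P * A := by
  induction P using Polynomial.induction_on' with
  | add p q hp hq => rw [map_add, mul_add, add_mul, hp, hq]
  | monomial n c =>
    rw [aeval_monomial]
    have h1 : Commute A (algebraMap F (Matrix ι ι F) c) := Algebra.commute_algebraMap_right c A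
    exact (h1.mul_right ((show Commute A a from h).pow_right n)).eq

lemma matrix_eq_zero_of_uForm {M : Matrix ι ι F}
    (h : ∀ u v, uForm σ (M *ᵥ u) v = 0) : M = 0 := by
  apply Matrix.toLin'.injective
  apply LinearMap.ext
  intro u
  rw [Matrix.toLin'_apply, map_zero, LinearMap.zero_apply]
  exact uForm_nondeg σ _ (h u)

end GU

/-- **Norm lemma for matrices**: an invertible hermitian matrix `a` over a finite field is
`y* y` for a polynomial `y` in `a`. -/
theorem exists_poly_norm_matrix {F : Type*} [Field F] [Finite F] {σ : F →+* F} (p : ℕ)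
    [Fact p.Prime] [CharP F p] (hσ : ∀ x, σ (σ x) = x) (hne : ∃ c, σ c ≠ c) {n : ℕ}
    (a : Matrix (Fin n) (Fin n) F) (ha : HermM σ a) (hdet : IsUnit a) :
    ∃ P : F[X], aeval a (P.map σ) * aeval a P = a := by
  classical
  rcases Nat.eq_zero_or_pos n with rfl | hn
  · exact ⟨0, Subsingleton.elim _ _⟩
  have hne' : Nonempty (Fin n) := ⟨⟨0, hn⟩⟩
  have hfin : Fintype F := Fintype.ofFinite F
  have hp : p.Prime := Fact.out
  obtain ⟨au, hau⟩ := hdet
  obtain ⟨k, hk⟩ : ∃ k, k = orderOf au := ⟨_, rfl⟩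
  have hk0 : k ≠ 0 := hk ▸ (orderOf_pos au).ne'
  obtain ⟨pj, hpj⟩ : ∃ pj, pj = p ^ k.factorization p := ⟨_, rfl⟩
  obtain ⟨k', hk'⟩ : ∃ k', k' = k / p ^ k.factorization p := ⟨_, rfl⟩
  have hkk : pj * k' = k := by rw [hpj, hk']; exact Nat.ordProj_mul_ordCompl_eq_self k p
  have hcop' : Nat.Coprime p k' := by rw [hk']; exact Nat.coprime_ordCompl hp hk0
  have hcop : Nat.Coprime pj k' := by rw [hpj]; exact hcop'.pow_left _
  obtain ⟨es, hes1, hes2⟩ := Nat.chineseRemainder hcop 0 1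
  obtain ⟨eu, heu1, heu2⟩ := Nat.chineseRemainder hcop 1 0
  have hsum : au ^ (es + eu) = au ^ 1 := by
    rw [pow_eq_pow_iff_modEq, ← hk, ← hkk, ← Nat.modEq_and_modEq_iff_modEq_mul hcop]
    exact ⟨by simpa using hes1.add heu1, by simpa using hes2.add heu2⟩
  have hs1 : au ^ (es * k') = 1 := by
    rw [← orderOf_dvd_iff_pow_eq_one, ← hk, ← hkk]
    exact Nat.mul_dvd_mul_right ((Nat.modEq_zero_iff_dvd).mp hes1) _
  have hu1 : au ^ (eu * pj) = 1 := by
    rw [← orderOf_dvd_iff_pow_eq_one, ← hk, ← hkk, mul_comm pj k']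
    exact Nat.mul_dvd_mul_right ((Nat.modEq_zero_iff_dvd).mp heu2) _
  -- matrix versions
  have hsum' : a ^ es * a ^ eu = a := by
    have := congrArg (fun z : (Matrix (Fin n) (Fin n) F)ˣ => (z : Matrix (Fin n) (Fin n) F)) hsum
    simp only [Units.val_pow_eq_pow_val, hau, pow_one] at this
    rw [← pow_add]; exact this
  have hs1' : (a ^ es) ^ k' = 1 := by
    have := congrArg (fun z : (Matrix (Fin n) (Fin n) F)ˣ => (z : Matrix (Fin n) (Fin n) F)) hs1
    simp only [Units.val_pow_eq_pow_val, hau, Units.val_one] at this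
    rw [← pow_mul]; exact this
  have hu1' : (a ^ eu) ^ pj = 1 := by
    have := congrArg (fun z : (Matrix (Fin n) (Fin n) F)ˣ => (z : Matrix (Fin n) (Fin n) F)) hu1
    simp only [Units.val_pow_eq_pow_val, hau, Units.val_one] at this
    rw [← pow_mul]; exact this
  obtain ⟨as, has⟩ : ∃ as : Matrix (Fin n) (Fin n) F, as = a ^ es := ⟨_, rfl⟩
  obtain ⟨ν, hν⟩ : ∃ ν : Matrix (Fin n) (Fin n) F, ν = a ^ eu - 1 := ⟨_, rfl⟩
  rw [← has] at hs1' hsum'
  have hasH : HermM σ as := has ▸ ha.pow es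
  -- the semisimple part
  have hk'F : (k' : F) ≠ 0 := natCast_ne_zero_of_coprime p hcop'.symm
  have hint : IsIntegral F as := IsIntegral.of_finite F as
  obtain ⟨m, hm⟩ : ∃ m : F[X], m = minpoly F as := ⟨_, rfl⟩
  have hmm : m.Monic := hm ▸ minpoly.monic hint
  have hm0 : aeval as m = 0 := hm ▸ minpoly.aeval F as
  have hmdvd : m ∣ X ^ k' - C (1 : F) := by
    rw [hm]
    apply minpoly.dvd
    rw [map_sub, map_pow, aeval_X, aeval_C, hs1', map_one, sub_self]
  have hsq : Squarefree m :=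
    (separable_X_pow_sub_C 1 hk'F one_ne_zero).squarefree.squarefree_of_dvd hmdvd
  have hmσ : m.map σ = m := by
    have h0 : aeval as (m.map σ) = 0 := by
      apply matrix_eq_zero_of_uForm (σ := σ)
      intro u v
      rw [herm_aeval hσ hasH, map_map_invol σ hσ, hm0, Matrix.zero_mulVec,
        (uForm_isSForm σ hσ).zero_right]
    have hdvd : m ∣ m.map σ := by rw [hm] at h0 ⊢; exact minpoly.dvd F as h0
    exact Polynomial.eq_of_monic_of_dvd_of_natDegree_le hmm (hmm.map σ) hdvd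
      (by rw [Polynomial.natDegree_map])
  obtain ⟨rs, w, hw⟩ := exists_poly_norm_sf hσ hne _ m rfl hmσ hsq
  have hrs : aeval as (rs * rs.map σ) = as := by
    have := congrArg (aeval as) hw
    rw [map_sub, map_mul (aeval as) m w, hm0, zero_mul, aeval_X] at this
    exact sub_eq_zero.mp this
  -- the unipotent part
  obtain ⟨ru, w', hw'⟩ := exists_poly_norm_unip σ hσ hne pj
  have hνp : ν ^ pj = 0 := by
    rw [hν, hpj, sub_pow_char_pow_of_commute p _ (Commute.one_right _), ← hpj, hu1', one_pow,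
      sub_self]
  have hru : aeval ν (ru * ru.map σ) = a ^ eu := by
    have := congrArg (aeval ν) hw'
    rw [map_sub, map_mul (aeval ν) (X ^ pj) w', map_pow, aeval_X, hνp, zero_mul, map_add, map_one,
      aeval_X] at this
    rw [sub_eq_zero.mp this, hν]
    abel
  refine ⟨rs.comp (X ^ es) * ru.comp (X ^ eu - 1), ?_⟩
  have e1 : (rs.comp (X ^ es) * ru.comp (X ^ eu - 1)).map σ * (rs.comp (X ^ es) * ru.comp (X ^ eu - 1))
      = (rs * rs.map σ).comp (X ^ es) * (ru * ru.map σ).comp (X ^ eu - 1) := by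
    rw [Polynomial.map_mul, Polynomial.map_comp, Polynomial.map_comp, Polynomial.map_pow,
      Polynomial.map_X, Polynomial.map_sub, Polynomial.map_pow, Polynomial.map_X,
      Polynomial.map_one, mul_comp, mul_comp]
    ring
  rw [← map_mul, e1, map_mul, aeval_comp, aeval_comp, map_pow, aeval_X, map_sub, map_pow,
    aeval_X, map_one, ← has, ← hν, hrs, hru]
  exact hsum'

/-- If `x A x⁻¹ = B` with `A`, `B` unitary, there is a unitary `w` with `w A w⁻¹ = B`. -/
theorem exists_unitary_conj {F : Type*} [Field F] [Finite F] {σ : F →+* F} (p : ℕ)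
    [Fact p.Prime] [CharP F p] (hσ : ∀ x, σ (σ x) = x) (hne : ∃ c, σ c ≠ c) {n : ℕ}
    (A B x : Matrix (Fin n) (Fin n) F)
    (hA : ∀ u v, uForm σ (A *ᵥ u) (A *ᵥ v) = uForm σ u v)
    (hB : ∀ u v, uForm σ (B *ᵥ u) (B *ᵥ v) = uForm σ u v) (hx : IsUnit x)
    (hxAB : x * A = B * x) :
    ∃ w : Matrix (Fin n) (Fin n) F, IsUnit w ∧
      (∀ u v, uForm σ (w *ᵥ u) (w *ᵥ v) = uForm σ u v) ∧ w * A = B * w := by
  have hF := uForm_isSForm (ι := Fin n) σ hσ
  obtain ⟨S, hSdef⟩ : ∃ S : Matrix (Fin n) (Fin n) F, S = (x.map σ)ᵀ := ⟨_, rfl⟩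
  have hS : ∀ u v, uForm σ (x *ᵥ u) v = uForm σ u (S *ᵥ v) := by
    intro u v; rw [hSdef]; exact uForm_star hσ x u v
  have hS' : ∀ u v, uForm σ (S *ᵥ u) v = uForm σ u (x *ᵥ v) := by
    intro u v
    rw [hF.symm v (S *ᵥ u), ← hS, ← hF.symm (x *ᵥ v) u]
  obtain ⟨a, hadef⟩ : ∃ a : Matrix (Fin n) (Fin n) F, a = S * x := ⟨_, rfl⟩
  have hxx : ∀ u v, uForm σ (x *ᵥ u) (x *ᵥ v) = uForm σ (a *ᵥ u) v := by
    intro u v
    rw [hadef, ← Matrix.mulVec_mulVec, hS']
  have ha : HermM σ a := by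
    intro u v
    rw [← hxx, hS, hadef, Matrix.mulVec_mulVec]
  have hAu : IsUnit A := by
    rw [← Matrix.mulVec_injective_iff_isUnit]
    intro u u' huu
    have h0 : A *ᵥ (u - u') = 0 := by rw [Matrix.mulVec_sub, huu, sub_self]
    have : u - u' = 0 := by
      apply uForm_nondeg σ
      intro v
      rw [← hA, h0, hF.zero_left]
    exact sub_eq_zero.mp this
  have hAdet : IsUnit A.det := (Matrix.isUnit_iff_isUnit_det A).mp hAu
  have haA : a * A = A * a := by
    have key : ∀ u v₀, uForm σ ((a * A) *ᵥ u) (A *ᵥ v₀) = uForm σ ((A * a) *ᵥ u) (A *ᵥ v₀) := by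
      intro u v₀
      calc uForm σ ((a * A) *ᵥ u) (A *ᵥ v₀)
          = uForm σ (a *ᵥ (A *ᵥ u)) (A *ᵥ v₀) := by rw [Matrix.mulVec_mulVec]
        _ = uForm σ (x *ᵥ (A *ᵥ u)) (x *ᵥ (A *ᵥ v₀)) := by rw [hxx]
        _ = uForm σ ((B * x) *ᵥ u) ((B * x) *ᵥ v₀) := by
          rw [Matrix.mulVec_mulVec, Matrix.mulVec_mulVec, hxAB]
        _ = uForm σ (B *ᵥ (x *ᵥ u)) (B *ᵥ (x *ᵥ v₀)) := by
          rw [Matrix.mulVec_mulVec, Matrix.mulVec_mulVec]
        _ = uForm σ (a *ᵥ u) v₀ := by rw [hB, hxx]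
        _ = uForm σ (A *ᵥ (a *ᵥ u)) (A *ᵥ v₀) := by rw [hA]
        _ = uForm σ ((A * a) *ᵥ u) (A *ᵥ v₀) := by rw [Matrix.mulVec_mulVec]
    have h0 : a * A - A * a = 0 := by
      apply matrix_eq_zero_of_uForm (σ := σ)
      intro u v
      have hv : A *ᵥ (A⁻¹ *ᵥ v) = v := by
        rw [Matrix.mulVec_mulVec, Matrix.mul_nonsing_inv A hAdet, Matrix.one_mulVec]
      have := key u (A⁻¹ *ᵥ v)
      rw [hv] at this
      rw [Matrix.sub_mulVec, hF.sub_left, sub_eq_zero]
      exact this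
    exact sub_eq_zero.mp h0
  have hxdet : IsUnit x.det := (Matrix.isUnit_iff_isUnit_det x).mp hx
  have haU : IsUnit a := by
    rw [Matrix.isUnit_iff_isUnit_det, hadef, Matrix.det_mul, hSdef, Matrix.det_transpose]
    have : (x.map σ).det = σ x.det := by
      rw [RingHom.map_det]; rfl
    rw [this]
    exact (hxdet.map σ).mul hxdet
  obtain ⟨P, hP⟩ := exists_poly_norm_matrix p hσ hne a ha haU
  obtain ⟨y, hy⟩ : ∃ y : Matrix (Fin n) (Fin n) F, y = aeval a P := ⟨_, rfl⟩
  obtain ⟨y', hy'⟩ : ∃ y' : Matrix (Fin n) (Fin n) F, y' = aeval a (P.map σ) := ⟨_, rfl⟩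
  rw [← hy, ← hy'] at hP
  have hy'y : ∀ u v, uForm σ (y' *ᵥ u) v = uForm σ u (y *ᵥ v) := by
    intro u v
    rw [hy', herm_aeval hσ ha, map_map_invol σ hσ, hy]
  have hyA : y * A = A * y := by
    rw [hy]; exact (commute_aeval haA.symm P).symm
  have hydet : IsUnit y.det := by
    have h1 : IsUnit (y'.det * y.det) := by
      rw [← Matrix.det_mul, hP]; exact (Matrix.isUnit_iff_isUnit_det a).mp haU
    exact isUnit_of_mul_isUnit_right h1
  have hi1 : y * y⁻¹ = 1 := Matrix.mul_nonsing_inv y hydet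
  have hi2 : y⁻¹ * y = 1 := Matrix.nonsing_inv_mul y hydet
  have hyiA : y⁻¹ * A = A * y⁻¹ := by
    calc y⁻¹ * A = y⁻¹ * A * (y * y⁻¹) := by rw [hi1, mul_one]
      _ = y⁻¹ * (A * y) * y⁻¹ := by simp only [mul_assoc]
      _ = y⁻¹ * (y * A) * y⁻¹ := by rw [hyA]
      _ = (y⁻¹ * y) * A * y⁻¹ := by simp only [mul_assoc]
      _ = A * y⁻¹ := by rw [hi2, one_mul]
  refine ⟨x * y⁻¹, ?_, ?_, ?_⟩
  · rw [Matrix.isUnit_iff_isUnit_det, Matrix.det_mul, Matrix.det_nonsing_inv]
    exact hxdet.mul (by rw [Ring.inverse_eq_inv']; exact (hydet.ne_zero |> inv_ne_zero |> isUnit_iff_ne_zero.mpr))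
  · intro u v
    have e1 : a *ᵥ (y⁻¹ *ᵥ u) = y' *ᵥ u := by
      rw [← hP, Matrix.mulVec_mulVec, mul_assoc, hi1, mul_one]
    rw [← Matrix.mulVec_mulVec, ← Matrix.mulVec_mulVec, hxx, e1, hy'y, Matrix.mulVec_mulVec, hi1,
      Matrix.one_mulVec]
  · rw [mul_assoc, hyiA, ← mul_assoc, hxAB, mul_assoc]

/-- Conjugacy in `GU_n(q)` is controlled by `GL_n(q²)`. -/
theorem gu_isConj_iff {K : Type*} [Field K] [Fintype K] {q n : ℕ} (hK : Fintype.card K = q ^ 2)
    (A B : ↥(Cfsg.GU n K q)) :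
    IsConj A B ↔ IsConj (A : GL (Fin n) K) (B : GL (Fin n) K) := by
  constructor
  · intro h
    obtain ⟨c, hc⟩ := isConj_iff.mp h
    rw [isConj_iff]
    refine ⟨(c : GL (Fin n) K), ?_⟩
    rw [← hc]
    rfl
  · intro h
    obtain ⟨c, hc⟩ := isConj_iff.mp h
    obtain ⟨σ, hσq, hσ, -, -, x₀, -, -, -, hx₀⟩ := exists_unitary_data K q hK
    obtain ⟨p, hp⟩ := CharP.exists K
    have hpp : p.Prime := by
      rcases CharP.char_is_prime_or_zero K p with h | h
      · exact h
      · exfalso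
        subst h
        have : CharZero K := CharP.charP_to_charZero K
        exact not_finite K
    have : Fact p.Prime := ⟨hpp⟩
    have hform : ∀ u v : Fin n → K, Cfsg.hermForm n K q u v = uForm σ u v :=
      fun u v => hermForm_eq q σ hσq n u v
    have hAu : ∀ u v, uForm σ ((A : GL (Fin n) K).1 *ᵥ u) ((A : GL (Fin n) K).1 *ᵥ v)
        = uForm σ u v := by
      intro u v
      rw [← hform, ← hform]
      exact A.2 u v
    have hBu : ∀ u v, uForm σ ((B : GL (Fin n) K).1 *ᵥ u) ((B : GL (Fin n) K).1 *ᵥ v)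
        = uForm σ u v := by
      intro u v
      rw [← hform, ← hform]
      exact B.2 u v
    have hcAB : (c : Matrix (Fin n) (Fin n) K) * (A : GL (Fin n) K).1
        = (B : GL (Fin n) K).1 * (c : Matrix (Fin n) (Fin n) K) := by
      have h1 : c * (A : GL (Fin n) K) = (B : GL (Fin n) K) * c := by
        rw [← hc]; group
      have := congrArg (fun z : GL (Fin n) K => (z : Matrix (Fin n) (Fin n) K)) h1
      simpa using this
    obtain ⟨w, hwU, hwu, hwAB⟩ := exists_unitary_conj p hσ ⟨x₀, hx₀⟩ _ _ _ hAu hBu c.isUnit hcAB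
    obtain ⟨W, hW⟩ := hwU
    have hWm : W ∈ Cfsg.GU n K q := by
      intro u v
      rw [hform, hform]
      have : (Units.coeHom (Matrix (Fin n) (Fin n) K)) W = w := hW
      rw [this]
      exact hwu u v
    rw [isConj_iff]
    refine ⟨⟨W, hWm⟩, ?_⟩
    rw [mul_inv_eq_iff_eq_mul]
    apply Subtype.ext
    apply Units.ext
    simp only [Subgroup.coe_mul, Units.val_mul]
    rw [hW]
    exact hwAB

end Cfsg.Agent.Lib.Helper47
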