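import Cfsg.Agent.Lib.Helper15.BG13CDefs
import Cfsg.Agent.Lib.Helper78.BG12P16D
import Cfsg.Agent.Lib.Helper32.Uniq2
import Cfsg.Agent.S1414

/-!
# B&G Corollary 13.3(b) (row S1428), piece C-NCPB (helper47 for helper15)

For `p ∈ β(H)`: the `p`-subgroups of `H_β` are not all cyclic, and every `p`-subgroup of `H`
lies in `H_β`.
-/

set_option autoImplicit false

open Cfsg Cfsg.Agent.Lib.Helper32 Cfsg.Agent.Lib.Helper32.BG10 Cfsg.Agent.Lib.Helper3.BG12

namespace Cfsg.Agent.Lib.Helper15.BG13C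

universe u

variable {G : Type u} [Group G] [Finite G]

/-- a cyclic group has `p`-rank at most one -/
theorem ncpb_aux1 (p : ℕ) [Fact p.Prime] (T : Subgroup G) (hT : IsCyclic T) :
    PRankLE p 1 ↥T := by
  intro A _ hAp
  obtain ⟨g, hg⟩ := IsCyclic.exists_generator (α := ↥A)
  have hcard : orderOf g = Nat.card ↥A := orderOf_eq_card_of_forall_mem_zpowers hg
  have hgp : g ^ p = 1 := by
    apply Subtype.ext
    rw [Subgroup.coe_pow]
    exact hAp g.1 g.2
  rw [← hcard, pow_one]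
  exact Nat.le_of_dvd (Nat.Prime.pos Fact.out) (orderOf_dvd_of_pow_eq_one hgp)

theorem ncpb : NCPBStmt G := by
  intro hG H hH p _ hp
  have h14 := Cfsg.Agent.S1414.result hG H hH
  obtain ⟨hle, -, hnd⟩ := h14.1
  have hpp : p.Prime := Fact.out
  have hndp : ¬ p ∣ (piCoreOf (beta H) H).relIndex H := hnd p hpp hp
  obtain ⟨T, hT⟩ := sylSet_nonempty p (piCoreOf (beta H) H)
  have hTH : T ∈ sylSet p H := Cfsg.Agent.Lib.Helper78.BG12.sylSet_of_not_dvd hle hndp hT
  have hnorm : H ≤ Subgroup.normalizer ((piCoreOf (beta H) H : Subgroup G) : Set G) :=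
    le_normalizer_map_subtype H (piCore (beta H) ↥H)
  refine ⟨?_, ?_⟩
  · intro hc
    have hTc : T ≤ piCoreOf (beta H) H ⊓ Subgroup.centralizer (((⊥ : Subgroup G)) : Set G) := by
      refine le_inf hT.1 ?_
      intro x _
      rw [Subgroup.mem_centralizer_iff]
      intro y hy
      have hy1 : y = 1 := Subgroup.mem_bot.1 hy
      rw [hy1, one_mul, mul_one]
    have hcyc : IsCyclic T := hc T hTc (isPGroup_of_mem_sylSet hT)
    have h1 : PRankLE p 1 ↥H := prankLE_of_sylSet hTH 1 (ncpb_aux1 p T hcyc)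
    have h2 : PRankLE p 2 ↥H := by
      intro A hA hAp
      exact (h1 A hA hAp).trans (Nat.pow_le_pow_right hpp.pos (by norm_num))
    exact hp.1.2 h2
  · intro P hPH hP
    obtain ⟨R, hR, hPR⟩ := exists_sylSet_ge hP hPH
    obtain ⟨n, hn, hnT⟩ := sylSet_conj hTH hR
    refine hPR.trans ?_
    rw [← hnT]
    intro x hx
    rw [mem_cj] at hx
    have hx1 : n⁻¹ * x * n ∈ piCoreOf (beta H) H := hT.1 hx
    have hn' := (Subgroup.mem_normalizer_iff.1 (hnorm hn) (n⁻¹ * x * n)).1 hx1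
    have e : n * (n⁻¹ * x * n) * n⁻¹ = x := by group
    rwa [e] at hn'

end Cfsg.Agent.Lib.Helper15.BG13C
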