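import Cfsg.Agent.Lib.Helper47.GUSim
import Cfsg.Agent.Lib.Helper47.SemiCount

/-!
# Counting semisimple classes of `SU_n(q)`

The classes of elements of order prime to `p` are parametrised by their characteristic
polynomials, which are exactly the monic polynomials of degree `n` with constant term `(-1)^n`
that are self-dual for `f ↦ (-1)^n (f^σ).reverse`; there are `q^(n-1)` of them.
-/

set_option autoImplicit false
set_option linter.unusedSectionVars false

namespace Cfsg.Agent.Lib.Helper47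

open Polynomial Matrix

section Fixed

/-- A semilinear involution of a finite vector space `V` over a field with a nontrivial
involution has `√|V|` fixed points. -/
theorem card_fixed_sq {F : Type*} [Field F] {V : Type*} [AddCommGroup V] [Module F V] [Finite V]
    (σ : F →+* F) (θ : F) (hθ : σ θ ≠ θ) (ι : V → V) (hadd : ∀ a b, ι (a + b) = ι a + ι b)
    (hsmul : ∀ (c : F) a, ι (c • a) = σ c • ι a) (hinv : ∀ a, ι (ι a) = a) :
    Nat.card {v : V // ι v = v} ^ 2 = Nat.card V := by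
  have hθ' : θ - σ θ ≠ 0 := sub_ne_zero.mpr (Ne.symm hθ)
  have hfin : Finite {v : V // ι v = v} := Subtype.finite
  rw [pow_two, ← Nat.card_prod]
  apply le_antisymm
  · apply Nat.card_le_card_of_injective
      (fun x : {v : V // ι v = v} × {v : V // ι v = v} => (x.1 : V) + θ • (x.2 : V))
    rintro ⟨⟨a, ha⟩, ⟨b, hb⟩⟩ ⟨⟨a', ha'⟩, ⟨b', hb'⟩⟩ h
    simp only at h
    have h2 : a + σ θ • b = a' + σ θ • b' := by
      have := congrArg ι h
      rwa [hadd, hadd, hsmul, hsmul, ha, hb, ha', hb'] at this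
    have h3 : (θ - σ θ) • b = (θ - σ θ) • b' := by
      rw [sub_smul, sub_smul]
      have := congrArg₂ (· - ·) h h2
      simp only [add_sub_add_left_eq_sub] at this
      exact this
    have hbb : b = b' := smul_right_injective V hθ' h3
    subst hbb
    have haa : a = a' := add_right_cancel h
    subst haa
    rfl
  · apply Nat.card_le_card_of_injective
      (fun w : V => ((⟨w + ι w, by rw [hadd, hinv, add_comm]⟩,
        ⟨θ • w + ι (θ • w), by rw [hadd, hinv, add_comm]⟩) :
          {v : V // ι v = v} × {v : V // ι v = v}))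
    intro w w' h
    have h1 : w + ι w = w' + ι w' := congrArg (fun x => (x.1 : V)) h
    have h2 : θ • w + ι (θ • w) = θ • w' + ι (θ • w') := congrArg (fun x => (x.2 : V)) h
    rw [hsmul, hsmul] at h2
    have h3 : (θ - σ θ) • w = (θ - σ θ) • w' := by
      have e : ∀ v : V, (θ - σ θ) • v = (θ • v + σ θ • ι v) - σ θ • (v + ι v) := by
        intro v; rw [sub_smul, smul_add]; abel
      rw [e, e, h1, h2]
    exact smul_right_injective V hθ' h3

variable {F : Type*} [Field F]

/-- The semilinear involution on coefficient vectors. -/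
def dualVec (σ : F →+* F) (ε : F) {m : ℕ} (b : Fin m → F) : Fin m → F :=
  fun i => ε * σ (b (Fin.rev i))

lemma card_dualVec_fixed [Fintype F] (σ : F →+* F) (hσ : ∀ x, σ (σ x) = x) (θ : F)
    (hθ : σ θ ≠ θ) (ε : F) (hε : ε * ε = 1) (hεσ : σ ε = ε) (m : ℕ) {q : ℕ}
    (hq : Fintype.card F = q ^ 2) :
    Nat.card {b : Fin m → F // dualVec σ ε b = b} = q ^ m := by
  have h := card_fixed_sq (V := Fin m → F) σ θ hθ (dualVec σ ε)
    (by intro a b; funext i; simp [dualVec, mul_add])
    (by intro c a; funext i; simp [dualVec]; ring)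
    (by intro a; funext i; simp [dualVec, hσ, hεσ, ← mul_assoc, hε])
  have h2 : Nat.card (Fin m → F) = (q ^ m) ^ 2 := by
    rw [Nat.card_eq_fintype_card, Fintype.card_fun, Fintype.card_fin, hq, ← pow_mul, ← pow_mul,
      mul_comm]
  rw [h2] at h
  exact Nat.pow_left_injective (by norm_num : (2 : ℕ) ≠ 0) h

/-- The coefficient vectors of the characteristic polynomials of `SU_{m+1}`. -/
def suVec (σ : F →+* F) (m : ℕ) (a : Fin (m + 1) → F) : Prop :=
  a 0 = (-1) ^ (m + 1) ∧ dualVec σ ((-1) ^ (m + 1)) (Fin.tail a) = Fin.tail a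

lemma card_suVec [Fintype F] (σ : F →+* F) (hσ : ∀ x, σ (σ x) = x) (θ : F)
    (hθ : σ θ ≠ θ) (m : ℕ) {q : ℕ} (hq : Fintype.card F = q ^ 2) :
    Nat.card {a : Fin (m + 1) → F // suVec σ m a} = q ^ m := by
  rw [← card_dualVec_fixed σ hσ θ hθ ((-1) ^ (m + 1)) (by rw [← mul_pow]; simp) (by simp) m hq]
  apply Nat.card_congr
  exact
    { toFun := fun a => ⟨Fin.tail a.1, a.2.2⟩
      invFun := fun b => ⟨Fin.cons ((-1) ^ (m + 1)) b.1, Fin.cons_zero .., by
        rw [Fin.tail_cons]; exact b.2⟩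
      left_inv := fun a => by
        apply Subtype.ext
        simp only
        rw [← a.2.1]
        exact Fin.cons_self_tail a.1
      right_inv := fun b => by
        apply Subtype.ext
        simp }

end Fixed

section SU

variable {F : Type*} [Field F] {σ : F →+* F}

lemma charpoly_sT {n : ℕ} (M : Matrix (Fin n) (Fin n) F) :
    (sT σ M).charpoly = M.charpoly.map σ := by
  unfold sT
  rw [Matrix.charpoly_transpose, Matrix.charpoly_map]

lemma charpoly_inv_coeff {n : ℕ} (M : Matrix (Fin n) (Fin n) F) (hdet : M.det = 1) (j : ℕ)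
    (hj : j ≤ n) : (M⁻¹).charpoly.coeff j = (-1) ^ n * M.charpoly.coeff (n - j) := by
  have hu : IsUnit M := (Matrix.isUnit_iff_isUnit_det M).mpr (by rw [hdet]; exact isUnit_one)
  rw [Matrix.charpoly_inv M hu, hdet, Ring.inverse_one, map_one, mul_one, Fintype.card_fin,
    ← Matrix.reverse_charpoly]
  have : ((-1 : F[X]) ^ n) = C ((-1 : F) ^ n) := by simp
  rw [this, coeff_C_mul, coeff_reverse, Matrix.charpoly_natDegree_eq_dim, Fintype.card_fin,
    revAt_le hj]

lemma tail_coeffVec_dual {m : ℕ} (M Mi : Matrix (Fin (m + 1)) (Fin (m + 1)) F)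
    (hdet : M.det = 1) (h1 : M * Mi = 1) :
    Fin.tail (coeffVec (sT σ Mi)) = dualVec σ ((-1) ^ (m + 1)) (Fin.tail (coeffVec M)) := by
  have hMi : Mi = M⁻¹ := (Matrix.inv_eq_right_inv h1).symm
  funext i
  simp only [Fin.tail, coeffVec, dualVec]
  rw [charpoly_sT, coeff_map, hMi, charpoly_inv_coeff M hdet _ (by simp), map_mul,
    map_pow, map_neg, map_one]
  congr 3
  simp only [Fin.val_succ, Fin.val_rev]
  omega

lemma suVec_of_unitary (hσ : ∀ x, σ (σ x) = x) {m : ℕ}
    (B : Matrix (Fin (m + 1)) (Fin (m + 1)) F) (hdet : B.det = 1) (hB : sT σ B * B = 1) :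
    suVec σ m (coeffVec B) := by
  refine ⟨?_, ?_⟩
  · have := coeffVec_zero (Nat.succ_pos m) B
    rw [hdet, mul_one] at this
    exact this
  · have hB' : B * sT σ B = 1 := mul_eq_one_comm.mp hB
    have := tail_coeffVec_dual (σ := σ) B (sT σ B) hdet hB'
    rw [sT_sT hσ] at this
    exact this.symm

theorem exists_unitary_coeffVec [Finite F] (p : ℕ) [Fact p.Prime] [CharP F p]
    (hσ : ∀ x, σ (σ x) = x) (hne : ∃ c, σ c ≠ c) {m : ℕ} (a : Fin (m + 1) → F)
    (ha : suVec σ m a) :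
    ∃ B : Matrix (Fin (m + 1)) (Fin (m + 1)) F, B.det = 1 ∧ sT σ B * B = 1 ∧ coeffVec B = a ∧
      ∃ k, 0 < k ∧ k.Coprime p ∧ B ^ k = 1 := by
  have h0 : a ⟨0, Nat.succ_pos m⟩ = (-1) ^ (m + 1) := ha.1
  obtain ⟨M, hM, k, hk, hkp, hMk⟩ := exists_matrix_coeffVec p a (fun _ => by
    rw [h0]; exact pow_ne_zero _ (neg_ne_zero.mpr one_ne_zero))
  have hdet : M.det = 1 := by
    have h1 := coeffVec_zero (Nat.succ_pos m) M
    rw [hM, h0] at h1
    have h2 : ((-1 : F) ^ (m + 1)) * ((-1) ^ (m + 1) * M.det) = M.det := by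
      rw [← mul_assoc, ← mul_pow]; simp
    rw [← h2, ← h1, ← mul_pow]; simp
  obtain ⟨Mi, hMi⟩ : ∃ Mi : Matrix (Fin (m + 1)) (Fin (m + 1)) F, Mi = M ^ (k - 1) := ⟨_, rfl⟩
  have hMMi : M * Mi = 1 := by rw [hMi, ← pow_succ', Nat.sub_add_cancel hk, hMk]
  have hMiM : Mi * M = 1 := by rw [hMi, ← pow_succ, Nat.sub_add_cancel hk, hMk]
  obtain ⟨N, hN⟩ : ∃ N : Matrix (Fin (m + 1)) (Fin (m + 1)) F, N = sT σ Mi := ⟨_, rfl⟩
  have hNk : N ^ k = 1 := by
    rw [hN, ← sT_pow, hMi, ← pow_mul, mul_comm, pow_mul, hMk, one_pow, sT_one]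
  have hNdet : N.det = 1 := by
    rw [hN, det_sT]
    have h3 : Mi.det = 1 := by
      have := congrArg Matrix.det hMMi
      rw [Matrix.det_mul, hdet, one_mul, Matrix.det_one] at this
      exact this
    rw [h3, map_one]
  have hcv : coeffVec N = coeffVec M := by
    have ht := tail_coeffVec_dual (σ := σ) M Mi hdet hMMi
    rw [← hN, hM, ha.2] at ht
    have h00 : coeffVec N 0 = a 0 := by
      have := coeffVec_zero (Nat.succ_pos m) N
      rw [hNdet, mul_one] at this
      rw [ha.1]; exact this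
    rw [hM, ← Fin.cons_self_tail (coeffVec N), ← Fin.cons_self_tail a, ht, h00]
  have hkF : (k : F) ≠ 0 := natCast_ne_zero_of_coprime p hkp
  have hMs := isSemisimple_toLin'_of_pow_eq_one M k hkF hMk
  have hNs := isSemisimple_toLin'_of_pow_eq_one N k hkF hNk
  obtain ⟨P, hPdet, hPM⟩ := exists_conj_matrix M N hMs hNs (charpoly_eq_of_coeffVec_eq hcv.symm)
  have hkey : sT σ M * P * M = P := by
    rw [mul_assoc, hPM, ← mul_assoc, hN, ← sT_mul, hMiM, sT_one, one_mul]
  obtain ⟨y, B, hyU, hyMB, hBB⟩ := exists_unitary_similar p hσ hne M P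
    ((Matrix.isUnit_iff_isUnit_det M).mpr (by rw [hdet]; exact isUnit_one))
    ((Matrix.isUnit_iff_isUnit_det P).mpr hPdet) hkey
  have hydet : IsUnit y.det := (Matrix.isUnit_iff_isUnit_det y).mp hyU
  have hBdet : B.det = 1 := by
    have := congrArg Matrix.det hyMB
    rw [Matrix.det_mul, Matrix.det_mul, hdet, mul_one] at this
    have h4 : 1 * y.det = B.det * y.det := by rw [one_mul]; exact this
    exact (mul_right_cancel₀ hydet.ne_zero h4).symm
  have hBk : B ^ k = 1 := by
    have h1 : B ^ k * y = y * M ^ k := pow_intertwine hyMB.symm k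
    rw [hMk, mul_one] at h1
    calc B ^ k = B ^ k * (y * y⁻¹) := by rw [Matrix.mul_nonsing_inv y hydet, mul_one]
      _ = y * y⁻¹ := by rw [← mul_assoc, h1]
      _ = 1 := Matrix.mul_nonsing_inv y hydet
  refine ⟨B, hBdet, hBB, ?_, k, hk, hkp, hBk⟩
  rw [← hM]
  exact coeffVec_eq_of_charpoly_eq (charpoly_eq_of_mul_eq y M B hydet hyMB).symm

end SU

/-- The number of classes of elements of order prime to `p` in `SU_{m+1}(q)` is `q^m`. -/
theorem su_card_semisimple_classes {F : Type*} [Field F] [Fintype F] {q : ℕ}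
    (hF : Fintype.card F = q ^ 2) (p : ℕ) [Fact p.Prime] [CharP F p] (m : ℕ) :
    Nat.card {c : ConjClasses ↥(Cfsg.SU (m + 1) F q) //
      ∃ g : ↥(Cfsg.SU (m + 1) F q), ConjClasses.mk g = c ∧ (orderOf g).Coprime p} = q ^ m := by
  obtain ⟨σ, hσq, hσ, -, -, x₀, -, -, -, hx₀⟩ := exists_unitary_data F q hF
  have hform : ∀ u v : Fin (m + 1) → F, Cfsg.hermForm (m + 1) F q u v = uForm σ u v :=
    fun u v => hermForm_eq q σ hσq (m + 1) u v
  rw [← card_suVec σ hσ x₀ hx₀ m hF]
  refine card_classes_eq (fun g : ↥(Cfsg.SU (m + 1) F q) => (orderOf g).Coprime p)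
    (fun g => coeffVec ((g : Matrix.SpecialLinearGroup (Fin (m + 1)) F) :
      Matrix (Fin (m + 1)) (Fin (m + 1)) F)) ?_ ?_ (suVec σ m) ?_
  · intro g h hc
    apply sl_coeffVec_eq_of_isConj
    obtain ⟨c, hc⟩ := isConj_iff.mp hc
    rw [isConj_iff]
    exact ⟨c, by rw [← hc]; rfl⟩
  · intro g h hg hh hc
    exact su_isConj_of_charpoly_eq hF p (m + 1) g h _ _ hg hh (pow_orderOf_eq_one g)
      (pow_orderOf_eq_one h) (charpoly_eq_of_coeffVec_eq hc)
  · intro a
    constructor
    · intro ha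
      obtain ⟨B, hBdet, hBB, hBa, k, hk, hkp, hBk⟩ :=
        exists_unitary_coeffVec p hσ ⟨x₀, hx₀⟩ a ha
      obtain ⟨Q, hQ⟩ : ∃ Q : Matrix.SpecialLinearGroup (Fin (m + 1)) F,
        (Q : Matrix (Fin (m + 1)) (Fin (m + 1)) F) = B := ⟨⟨B, hBdet⟩, rfl⟩
      have hQm : Q ∈ Cfsg.SU (m + 1) F q := by
        rw [mem_SU_iff]
        intro u v
        rw [hform, hform, hQ]
        exact unitary_of_sT_mul_self hσ hBB u v
      have hQk : Q ^ k = 1 := by
        apply Subtype.ext
        rw [Matrix.SpecialLinearGroup.coe_pow, hQ, hBk]; rfl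
      have hgk : (⟨Q, hQm⟩ : ↥(Cfsg.SU (m + 1) F q)) ^ k = 1 := by
        apply Subtype.ext
        rw [SubmonoidClass.coe_pow]
        exact hQk
      refine ⟨⟨Q, hQm⟩, ?_, ?_⟩
      · exact Nat.Coprime.coprime_dvd_left (orderOf_dvd_of_pow_eq_one hgk) hkp
      · show coeffVec (Q : Matrix (Fin (m + 1)) (Fin (m + 1)) F) = a
        rw [hQ, hBa]
    · rintro ⟨g, -, rfl⟩
      apply suVec_of_unitary hσ _ (g : Matrix.SpecialLinearGroup (Fin (m + 1)) F).det_coe
      apply sT_mul_self_of_unitary hσ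
      intro u v
      rw [← hform, ← hform]
      exact (mem_SU_iff q (m + 1) _).mp g.2 u v

end Cfsg.Agent.Lib.Helper47
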