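import Cfsg.Agent.Lib.Helper47.PrimeOrd
import Cfsg.Agent.Lib.Helper47.SUCount

/-!
# The unitary dual of a polynomial

`dualP σ P = (σ P(0))⁻¹ · (P^σ).reverse` is the characteristic polynomial of `(M*)⁻¹` when `P` is
that of `M`.  It permutes the irreducible factors of the `r`-th cyclotomic polynomial, and over
the field with `q²` elements it fixes them all when `ord_r(q) ≡ 2 (mod 4)` and none otherwise.
-/

set_option autoImplicit false
set_option linter.unusedSectionVars false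

namespace Cfsg.Agent.Lib.Helper47

open Polynomial

section Dual

variable {F : Type*} [Field F]

/-- The dual of a polynomial: roots `λ ↦ σ(λ)⁻¹`, normalised. -/
noncomputable def dualP (σ : F →+* F) (P : F[X]) : F[X] :=
  C (σ (P.coeff 0))⁻¹ * (P.map σ).reverse

variable {σ : F →+* F}

lemma dualP_mul (P Q : F[X]) : dualP σ (P * Q) = dualP σ P * dualP σ Q := by
  unfold dualP
  rw [Polynomial.map_mul, reverse_mul_of_domain, mul_coeff_zero, map_mul, mul_inv, C_mul]
  ring

lemma dualP_one : dualP σ (1 : F[X]) = 1 := by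
  unfold dualP
  have : (1 : F[X]).reverse = 1 := by
    have := reverse_C (1 : F)
    simpa using this
  simp [this]

lemma dualP_multiset_prod (s : Multiset F[X]) :
    dualP σ s.prod = (s.map (dualP σ)).prod := by
  induction s using Multiset.induction with
  | empty => simp [dualP_one]
  | cons a s ih => rw [Multiset.prod_cons, dualP_mul, ih, Multiset.map_cons, Multiset.prod_cons]

lemma dualP_pow (P : F[X]) (k : ℕ) : dualP σ (P ^ k) = dualP σ P ^ k := by
  induction k with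
  | zero => simp [dualP_one]
  | succ k ih => rw [pow_succ, dualP_mul, ih, pow_succ]

lemma dualP_X_pow_sub_one {r : ℕ} (hr : 0 < r) : dualP σ (X ^ r - 1 : F[X]) = X ^ r - 1 := by
  unfold dualP
  have h1 : (X ^ r - 1 : F[X]).map σ = C (-1) + C 1 * X ^ r := by
    simp; ring
  have h2 : (X ^ r - 1 : F[X]).coeff 0 = -1 := by
    simp [coeff_X_pow, hr.ne]
  rw [h1, h2, reverse_C_add, reverse_mul_X_pow, reverse_C]
  have h3 : (C (1 : F) * X ^ r).natDegree = r := by simp
  rw [h3]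
  simp
  ring

lemma dualP_X_sub_one : dualP σ (X - 1 : F[X]) = X - 1 := by
  have := dualP_X_pow_sub_one (σ := σ) (r := 1) Nat.one_pos
  simpa using this

lemma charpoly_coeff_zero {n : ℕ} (M : Matrix (Fin n) (Fin n) F) :
    M.charpoly.coeff 0 = (-1) ^ n * M.det := by
  rw [Matrix.det_eq_sign_charpoly_coeff, Fintype.card_fin, ← mul_assoc, ← mul_pow]
  simp

/-- The characteristic polynomial of `(M*)⁻¹` is the dual of that of `M`. -/
lemma charpoly_sT_inv {n : ℕ} (M : Matrix (Fin n) (Fin n) F) (hM : IsUnit M.det) :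
    ((sT σ M)⁻¹).charpoly = dualP σ M.charpoly := by
  have hMu : IsUnit M := (Matrix.isUnit_iff_isUnit_det M).mpr hM
  have h1 : (sT σ M)⁻¹ = sT σ M⁻¹ := by
    apply Matrix.inv_eq_left_inv
    rw [← sT_mul, Matrix.mul_nonsing_inv M hM, sT_one]
  rw [h1, charpoly_sT, Matrix.charpoly_inv M hMu, ← Matrix.reverse_charpoly, Fintype.card_fin]
  unfold dualP
  have h3 : (M.charpoly.reverse).map σ = (M.charpoly.map σ).reverse := by
    unfold reverse
    rw [natDegree_map, reflect_map]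
  rw [Polynomial.map_mul, Polynomial.map_mul, Polynomial.map_pow, Polynomial.map_neg,
    Polynomial.map_one, Polynomial.map_C, h3, charpoly_coeff_zero, Ring.inverse_eq_inv',
    map_mul, map_pow, map_neg, map_one, mul_inv, C_mul, ← inv_pow, map_inv₀]
  congr 1
  simp [inv_neg]

end Dual

section DualFinite

variable {F : Type*} [Field F] [Finite F] {σ : F →+* F}

lemma dualP_props (p : ℕ) [Fact p.Prime] [CharP F p] (hσ : ∀ x, σ (σ x) = x) (P : F[X])
    (hPm : P.Monic) (hP0 : P.coeff 0 ≠ 0) :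
    (dualP σ P).Monic ∧ (dualP σ P).natDegree = P.natDegree ∧ (dualP σ P).coeff 0 ≠ 0 ∧
      dualP σ (dualP σ P) = P := by
  obtain ⟨M, hM, k, hk, -, hMk⟩ := exists_matrix_charpoly p P hPm hP0
  have hdet : IsUnit M.det := by
    have h1 : M.det ^ k = 1 := by rw [← Matrix.det_pow, hMk, Matrix.det_one]
    exact IsUnit.of_pow_eq_one h1 hk.ne'
  obtain ⟨N, hN⟩ : ∃ N : Matrix (Fin P.natDegree) (Fin P.natDegree) F, N = (sT σ M)⁻¹ :=
    ⟨_, rfl⟩
  have hsdet : IsUnit (sT σ M).det := by rw [det_sT]; exact hdet.map σ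
  have hNdet : IsUnit N.det := by
    rw [hN, Matrix.det_nonsing_inv]; exact hsdet.ringInverse
  have hNc : N.charpoly = dualP σ P := by rw [hN, charpoly_sT_inv M hdet, hM]
  have hNN : (sT σ N)⁻¹ = M := by
    have h1 : N = sT σ M⁻¹ := by
      rw [hN]
      apply Matrix.inv_eq_left_inv
      rw [← sT_mul, Matrix.mul_nonsing_inv M hdet, sT_one]
    rw [h1, sT_sT hσ, Matrix.nonsing_inv_nonsing_inv M hdet]
  refine ⟨?_, ?_, ?_, ?_⟩
  · rw [← hNc]; exact Matrix.charpoly_monic N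
  · rw [← hNc, Matrix.charpoly_natDegree_eq_dim, Fintype.card_fin]
  · rw [← hNc, charpoly_coeff_zero]
    exact mul_ne_zero (pow_ne_zero _ (neg_ne_zero.mpr one_ne_zero)) hNdet.ne_zero
  · rw [← hNc, ← charpoly_sT_inv N hNdet, hNN, hM]

omit [Finite F] in
lemma IsCycFactor.coeff_zero_ne {r : ℕ} (hr : 0 < r) {f : F[X]} (hf : IsCycFactor r f) :
    f.coeff 0 ≠ 0 := by
  intro h0
  have hX : (X : F[X]) ∣ f := X_dvd_iff.mpr h0
  have h3 := hX.trans hf.dvd_X_pow_sub_one
  rw [X_dvd_iff] at h3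
  simp [coeff_X_pow, hr.ne] at h3

/-- The dual of a cyclotomic factor is a cyclotomic factor. -/
theorem dualP_isCycFactor (p : ℕ) [Fact p.Prime] [CharP F p] (hσ : ∀ x, σ (σ x) = x) {r : ℕ}
    (hr : r.Prime) (hrp : r ≠ p) {f : F[X]} (hf : IsCycFactor r f) :
    IsCycFactor r (dualP σ f) := by
  have hf0 := hf.coeff_zero_ne hr.pos
  obtain ⟨hm, hdeg, hc0, hdd⟩ := dualP_props p hσ f hf.1 hf0
  have hirr : Irreducible (dualP σ f) := by
    rw [hm.irreducible_iff_natDegree]
    refine ⟨?_, ?_⟩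
    · intro h1
      have h2 : f.natDegree = 0 := by rw [← hdeg, h1, natDegree_one]
      exact (hf.2.1.natDegree_pos).ne' h2
    · intro g h hgm hhm hgh
      have hg0 : g.coeff 0 ≠ 0 := by
        intro h0; apply hc0; rw [← hgh, mul_coeff_zero, h0, zero_mul]
      have hh0 : h.coeff 0 ≠ 0 := by
        intro h0; apply hc0; rw [← hgh, mul_coeff_zero, h0, mul_zero]
      obtain ⟨hgm', hgdeg, -, -⟩ := dualP_props p hσ g hgm hg0
      obtain ⟨hhm', hhdeg, -, -⟩ := dualP_props p hσ h hhm hh0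
      have hf' : dualP σ g * dualP σ h = f := by rw [← dualP_mul, hgh, hdd]
      have h3 := ((hf.1.irreducible_iff_natDegree).mp hf.2.1).2 _ _ hgm' hhm' hf'
      rwa [hgdeg, hhdeg] at h3
  refine ⟨hm, hirr, ?_⟩
  obtain ⟨g, hg⟩ := hf.dvd_X_pow_sub_one
  have h1 : dualP σ f ∣ X ^ r - 1 := by
    have h2 := congrArg (dualP σ) hg
    rw [dualP_X_pow_sub_one hr.pos, dualP_mul] at h2
    exact Dvd.intro _ h2.symm
  have : Fact r.Prime := ⟨hr⟩
  rw [← cyclotomic_prime_mul_X_sub_one F r] at h1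
  rcases hirr.prime.dvd_or_dvd h1 with h | h
  · exact h
  · exfalso
    have h2 : dualP σ f = X - 1 := eq_of_monic_of_associated hm monic_X_sub_one
      (hirr.associated_of_dvd irreducible_X_sub_one h)
    have h3 : f = X - 1 := by rw [← hdd, h2, dualP_X_sub_one]
    exact hf.ne_X_sub_one p hr hrp h3

omit [Finite F] in
/-- If `x` is a root of `P` then `(x^q)⁻¹` is a root of the dual of `P`. -/
lemma aeval_dualP_root {L : Type*} [Field L] [Algebra F L] (p : ℕ) [Fact p.Prime]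
    [CharP L p] (k : ℕ) (hσq : ∀ x, σ x = x ^ (p ^ k)) (P : F[X]) (x : L) (hx0 : x ≠ 0)
    (hx : aeval x P = 0) : aeval (x ^ (p ^ k))⁻¹ (dualP σ P) = 0 := by
  have h1 : eval₂ (algebraMap F L) (x ^ (p ^ k)) (P.map σ) = 0 := by
    have e : (algebraMap F L).comp σ = (iterateFrobenius L p k).comp (algebraMap F L) := by
      ext a
      simp [hσq, iterateFrobenius_def]
    have h2 : eval₂ (algebraMap F L) (x ^ (p ^ k)) (P.map σ)
        = (iterateFrobenius L p k) (aeval x P) := by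
      rw [eval₂_map, e, aeval_def, hom_eval₂, iterateFrobenius_def]
    rw [h2, hx, map_zero]
  have hinv : Invertible (x ^ (p ^ k)) := invertibleOfNonzero (pow_ne_zero _ hx0)
  have h2 : eval₂ (algebraMap F L) (⅟(x ^ (p ^ k))) (P.map σ).reverse = 0 :=
    (eval₂_reverse_eq_zero_iff _ _ _).mpr h1
  rw [invOf_eq_inv] at h2
  unfold dualP
  rw [map_mul, aeval_def (x ^ (p ^ k))⁻¹ (P.map σ).reverse, h2, mul_zero]

end DualFinite

section SelfDual

lemma pow_eq_pow_iff_modEq₀ {L : Type*} [Field L] {x : L} (hx : x ≠ 0) {a b : ℕ} :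
    x ^ a = x ^ b ↔ a ≡ b [MOD orderOf x] := by
  have h := pow_eq_pow_iff_modEq (x := Units.mk0 x hx) (n := a) (m := b)
  rw [← orderOf_units, Units.val_mk0] at h
  rw [← h, Units.ext_iff, Units.val_pow_eq_pow_val, Units.val_pow_eq_pow_val, Units.val_mk0]

lemma zmod_neg_eq_sq_pow_iff {r : ℕ} (hr : r.Prime) (hr2 : r ≠ 2) (u : ZMod r) (hu : u ≠ 0) :
    (∃ j : ℕ, -u = (u ^ 2) ^ j) ↔ orderOf u % 4 = 2 := by
  have : Fact r.Prime := ⟨hr⟩
  have : Fact (2 < r) := ⟨lt_of_le_of_ne hr.two_le (Ne.symm hr2)⟩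
  have hneg : (-1 : ZMod r) ≠ 1 := ZMod.neg_one_ne_one
  constructor
  · rintro ⟨j, hj⟩
    rcases Nat.eq_zero_or_pos j with rfl | hjpos
    · rw [pow_zero] at hj
      have hu1 : u = -1 := by rw [← hj, neg_neg]
      have h2 : u ^ 2 = 1 := by rw [hu1]; ring
      have h3 : u ≠ 1 := by rw [hu1]; exact hneg
      have : Fact (Nat.Prime 2) := ⟨Nat.prime_two⟩
      rw [orderOf_eq_prime h2 h3]
    · obtain ⟨e, he⟩ : ∃ e, e = 2 * j - 1 := ⟨_, rfl⟩
      have h1 : u ^ e = -1 := by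
        have h2 : u * u ^ e = u * (-1) := by
          rw [← pow_succ', he, show 2 * j - 1 + 1 = 2 * j by omega, pow_mul, ← hj]; ring
        exact mul_left_cancel₀ hu h2
      have h3 : ¬ orderOf u ∣ e := by
        rw [orderOf_dvd_iff_pow_eq_one, h1]; exact hneg
      have h4 : orderOf u ∣ 2 * e := by
        rw [orderOf_dvd_iff_pow_eq_one, mul_comm, pow_mul, h1]; ring
      by_contra hne
      have h5 : orderOf u % 4 = 0 ∨ orderOf u % 2 = 1 := by omega
      rcases h5 with h5 | h5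
      · have h6 : 4 ∣ orderOf u := Nat.dvd_of_mod_eq_zero h5
        obtain ⟨d, hd⟩ := h6.trans h4
        omega
      · have h6 : (orderOf u).Coprime 2 := Nat.coprime_two_right.mpr (Nat.odd_iff.mpr h5)
        exact h3 (h6.dvd_of_dvd_mul_left h4)
  · intro h
    obtain ⟨m, hm⟩ : ∃ m, m = orderOf u / 2 := ⟨_, rfl⟩
    have hi : orderOf u = 2 * m := by omega
    have hmodd : m % 2 = 1 := by omega
    have h1 : u ^ m ≠ 1 := pow_ne_one_of_lt_orderOf (by omega) (by omega)
    have h2 : u ^ m * u ^ m = 1 := by rw [← pow_add, ← two_mul, ← hi, pow_orderOf_eq_one]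
    have h3 : u ^ m = -1 := (mul_self_eq_one_iff.mp h2).resolve_left h1
    refine ⟨(m + 1) / 2, ?_⟩
    rw [← pow_mul, show 2 * ((m + 1) / 2) = m + 1 by omega, pow_succ, h3]; ring

/-- Over the field with `q²` elements, a cyclotomic factor is self-dual iff
`ord_r(q) ≡ 2 (mod 4)`. -/
theorem dualP_eq_self_iff {K : Type*} [Field K] [Fintype K] {p q : ℕ} [Fact p.Prime]
    [CharP K p] (hK : Fintype.card K = q ^ 2) {σ : K →+* K} (hσq : ∀ x, σ x = x ^ q) {r : ℕ}
    (hr : r.Prime) (hr2 : r ≠ 2) (hrp : r ≠ p) {f : K[X]} (hf : IsCycFactor r f) :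
    dualP σ f = f ↔ orderOf (q : ZMod r) % 4 = 2 := by
  classical
  have hfact : Fact r.Prime := ⟨hr⟩
  have hσ : ∀ x, σ (σ x) = x := by
    intro x
    rw [hσq, hσq, ← pow_mul, ← pow_two, ← hK, FiniteField.pow_card]
  obtain ⟨m, -, hm⟩ := FiniteField.card K p
  obtain ⟨k, -, hk⟩ := (Nat.dvd_prime_pow (Fact.out : p.Prime)).mp
    (show q ∣ p ^ (m : ℕ) by rw [← hm, hK]; exact Dvd.intro_left q (by ring))
  haveI : Fact (Irreducible f) := ⟨hf.2.1⟩
  have hcharL : CharP (AdjoinRoot f) p :=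
    charP_of_injective_algebraMap (algebraMap K (AdjoinRoot f)).injective p
  obtain ⟨lam, hlam⟩ : ∃ lam : AdjoinRoot f, lam = AdjoinRoot.root f := ⟨_, rfl⟩
  have hroot : aeval lam f = 0 := by rw [hlam, AdjoinRoot.aeval_eq, AdjoinRoot.mk_self]
  have hlam_r : lam ^ r = 1 := by
    obtain ⟨g, hg⟩ := hf.dvd_X_pow_sub_one
    have h1 := congrArg (aeval lam) hg
    rw [map_mul, hroot, zero_mul, map_sub, map_pow, aeval_X, map_one, sub_eq_zero] at h1
    exact h1
  have hlam1 : lam ≠ 1 := by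
    intro h1
    obtain ⟨g, hg⟩ := hf.2.2
    have h2 := congrArg (aeval lam) hg
    rw [map_mul, hroot, zero_mul, h1, aeval_def, ← eval_map, map_cyclotomic,
      eval_one_cyclotomic_prime] at h2
    exact natCast_ne_zero_of_coprime p ((Nat.coprime_primes hr Fact.out).mpr hrp) h2
  have hord : orderOf lam = r := orderOf_eq_prime hlam_r hlam1
  have hlam0 : lam ≠ 0 := by
    rintro rfl
    rw [zero_pow hr.ne_zero] at hlam_r
    exact zero_ne_one hlam_r
  obtain ⟨nu, hnu⟩ : ∃ nu : AdjoinRoot f, nu = (lam ^ q)⁻¹ := ⟨_, rfl⟩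
  have hnu_dual : aeval nu (dualP σ f) = 0 := by
    rw [hnu, hk]
    exact aeval_dualP_root p k (by intro x; rw [hσq, hk]) f lam hlam0 hroot
  have hnu_pow : nu = lam ^ (q * (r - 1)) := by
    rw [hnu]
    apply inv_eq_of_mul_eq_one_right
    have h1 : q + q * (r - 1) = r * q := by
      have := hr.pos
      obtain ⟨r', rfl⟩ : ∃ r', r = r' + 1 := ⟨r - 1, by omega⟩
      simp only [Nat.add_sub_cancel]
      ring
    rw [← pow_add, h1, pow_mul, hlam_r, one_pow]
  have hcyc' := dualP_isCycFactor p hσ hr hrp hf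
  have hiff1 : dualP σ f = f ↔ aeval nu f = 0 := by
    constructor
    · intro h
      have h' := hnu_dual
      rwa [h] at h'
    · intro h
      exact (minpoly.eq_of_irreducible_of_monic hcyc'.2.1 hnu_dual hcyc'.1).trans
        (minpoly.eq_of_irreducible_of_monic hf.2.1 h hf.1).symm
  have hfrob : ∀ x : AdjoinRoot f, aeval x f = 0 → aeval (x ^ (q ^ 2)) f = 0 := by
    intro x hx
    rw [← hK, ← expand_aeval, FiniteField.expand_card, map_pow, hx,
      zero_pow Fintype.card_ne_zero]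
  have hfrobj : ∀ j : ℕ, aeval (lam ^ ((q ^ 2) ^ j)) f = 0 := by
    intro j
    induction j with
    | zero => simpa using hroot
    | succ j ih => rw [pow_succ, pow_mul]; exact hfrob _ ih
  have hroots : ∀ mu : AdjoinRoot f, aeval mu f = 0 → ∃ j, mu = lam ^ ((q ^ 2) ^ j) := by
    intro mu hmu
    obtain ⟨b, hb⟩ : ∃ b, b = f.natDegree := ⟨_, rfl⟩
    have hbo : b = orderOf (((q ^ 2 : ℕ) : ZMod r)) := by
      rw [hb]; exact hf.natDegree_eq hK hr hrp
    obtain ⟨S, hSdef⟩ : ∃ S : Finset (AdjoinRoot f),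
      S = (Finset.range b).image (fun j => lam ^ ((q ^ 2) ^ j)) := ⟨_, rfl⟩
    have hScard : S.card = b := by
      rw [hSdef, Finset.card_image_of_injOn, Finset.card_range]
      intro j hj j' hj' hjj
      simp only [Finset.coe_range, Set.mem_Iio] at hj hj'
      have h1 : (q ^ 2) ^ j ≡ (q ^ 2) ^ j' [MOD r] := by
        rw [← hord]; exact (pow_eq_pow_iff_modEq₀ hlam0).mp hjj
      have h2 : (((q ^ 2 : ℕ) : ZMod r)) ^ j = (((q ^ 2 : ℕ) : ZMod r)) ^ j' := by
        rw [← Nat.cast_pow, ← Nat.cast_pow]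
        exact (ZMod.natCast_eq_natCast_iff _ _ _).mpr h1
      exact pow_injOn_Iio_orderOf (by rw [Set.mem_Iio, ← hbo]; exact hj)
        (by rw [Set.mem_Iio, ← hbo]; exact hj') h2
    have hSsub : S ⊆ (f.aroots (AdjoinRoot f)).toFinset := by
      intro x hx
      rw [hSdef] at hx
      obtain ⟨j, -, rfl⟩ := Finset.mem_image.mp hx
      rw [Multiset.mem_toFinset, mem_aroots]
      exact ⟨hf.1.ne_zero, hfrobj j⟩
    have hle : (f.aroots (AdjoinRoot f)).toFinset.card ≤ S.card := by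
      rw [hScard, hb]
      calc (f.aroots (AdjoinRoot f)).toFinset.card
          ≤ Multiset.card (f.aroots (AdjoinRoot f)) := Multiset.toFinset_card_le _
        _ ≤ (f.map (algebraMap K (AdjoinRoot f))).natDegree := card_roots' _
        _ = f.natDegree := natDegree_map _
    have hS := Finset.eq_of_subset_of_card_le hSsub hle
    have hmem : mu ∈ S := by
      rw [hS, Multiset.mem_toFinset, mem_aroots]
      exact ⟨hf.1.ne_zero, hmu⟩
    rw [hSdef] at hmem
    obtain ⟨j, -, rfl⟩ := Finset.mem_image.mp hmem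
    exact ⟨j, rfl⟩
  rw [hiff1]
  have hu : (q : ZMod r) ≠ 0 := by
    rw [hk, Nat.cast_pow]
    apply pow_ne_zero
    rw [Ne, ZMod.natCast_eq_zero_iff]
    intro hdvd
    exact hrp ((Nat.prime_dvd_prime_iff_eq hr Fact.out).mp hdvd)
  rw [← zmod_neg_eq_sq_pow_iff hr hr2 (q : ZMod r) hu]
  have hkey : ∀ j : ℕ, nu = lam ^ ((q ^ 2) ^ j) ↔ -(q : ZMod r) = ((q : ZMod r) ^ 2) ^ j := by
    intro j
    rw [hnu_pow, pow_eq_pow_iff_modEq₀ hlam0, hord, ← ZMod.natCast_eq_natCast_iff]
    have h1 : ((r - 1 : ℕ) : ZMod r) = -1 := by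
      rw [Nat.cast_sub hr.one_le, ZMod.natCast_self]; simp
    rw [Nat.cast_mul, h1, Nat.cast_pow, Nat.cast_pow, mul_neg, mul_one]
  constructor
  · intro h
    obtain ⟨j, hj⟩ := hroots nu h
    exact ⟨j, (hkey j).mp hj⟩
  · rintro ⟨j, hj⟩
    rw [(hkey j).mpr hj]
    exact hfrobj j

end SelfDual

end Cfsg.Agent.Lib.Helper47
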