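import Mathlib
import Cfsg.Agent.Lib.Helper4.FCDefs

/-! Project FC (S4146, helper4): piece BCB (duplicate seat helper47). -/

set_option autoImplicit false

namespace Cfsg.Agent.Lib.Helper4.FC

universe u

theorem fc_bcb : L1Stmt.{u} → BCb1Stmt.{u} → BCbStmt.{u} := by
  intro hL1 hB1 G _ _ n m p s A x y hF hp hpn hs hAn hAp hyA hcsy hPx hcsx hxA
  obtain ⟨hn1, hm1, hcop, -, -, -, -⟩ := id hF
  -- index computation
  have hidx : (Cen x ⊓ Cen y).index = n * m := by
    have h0 := hL1 G x y (by rw [hcsx, hcsy]; exact hcop)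
    rw [h0, hcsx, hcsy]
  have hrel : (Cen y).relIndex (Cen x) = m := by
    have h1 := Subgroup.relIndex_mul_index (inf_le_left : Cen x ⊓ Cen y ≤ Cen x)
    rw [Subgroup.inf_relIndex_left, hidx] at h1
    have h2 : (Cen x).index = n := hcsx
    rw [h2, mul_comm n m] at h1
    exact Nat.eq_of_mul_eq_mul_right (by omega) h1
  have key : ∀ r : ℕ, r.Prime → r ∣ m → r = s := by
    intro r hr hrm
    by_contra hrs
    haveI : Fact r.Prime := ⟨hr⟩
    obtain ⟨R⟩ : Nonempty (Sylow r ↥(Cen x)) := inferInstance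
    have hRD : (R : Subgroup ↥(Cen x)) ≤ (Cen y).subgroupOf (Cen x) := by
      intro g hg
      rw [Subgroup.mem_subgroupOf]
      obtain ⟨k, hk⟩ := (IsPGroup.iff_orderOf.mp R.isPGroup') ⟨g, hg⟩
      have hprim : Prim r (g : G) := ⟨k, by
        rw [Subgroup.orderOf_coe, ← Subgroup.orderOf_mk g hg]; exact hk⟩
      have hcomm := hB1 G n m p s r A x (g : G) hF hp hpn hs hr hrs hAn hAp hPx hcsx hxA hprim
        g.2 y hyA
      rw [Subgroup.mem_centralizer_iff]
      intro h hh
      rw [Set.mem_singleton_iff.mp hh]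
      exact hcomm.symm
    have hdvd : ((Cen y).subgroupOf (Cen x)).index ∣ (R : Subgroup ↥(Cen x)).index :=
      Subgroup.index_dvd_of_le hRD
    have hnd : ¬ r ∣ (R : Subgroup ↥(Cen x)).index := R.not_dvd_index
    apply hnd
    refine dvd_trans ?_ hdvd
    show r ∣ (Cen y).relIndex (Cen x)
    rw [hrel]; exact hrm
  exact ⟨_, Nat.eq_prime_pow_of_unique_prime_dvd (by omega) (fun {d} hd hdm => key d hd hdm)⟩

end Cfsg.Agent.Lib.Helper4.FC
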