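import Cfsg.Agent.Lib.Helper47.SemiConj

/-!
# Sesquilinear forms over finite fields: basic facts

A minimal unbundled API for `ε`-`σ`-hermitian forms `B : V → V → F` (linear in the first variable),
a representation lemma by counting (`exists_repr`), surjectivity of the norm `β ↦ β τ(β)` for an
involution `τ` of a finite field (`exists_norm_eq`), and uniqueness of invariant forms on a finite
field with involution (`kform_unique`).
-/

set_option autoImplicit false

namespace Cfsg.Agent.Lib.Helper47

open Polynomial Module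

section SForm

variable {F : Type*} [Field F] {V : Type*} [AddCommGroup V] [Module F V]

/-- `B` is linear in the first variable and `ε`-`σ`-hermitian. -/
structure IsSForm (σ : F →+* F) (ε : F) (B : V → V → F) : Prop where
  add_left : ∀ x y z, B (x + y) z = B x z + B y z
  smul_left : ∀ (c : F) x y, B (c • x) y = c * B x y
  symm : ∀ x y, B y x = ε * σ (B x y)

/-- Nondegeneracy (in the first variable). -/
def Nondeg (B : V → V → F) : Prop := ∀ x, (∀ y, B x y = 0) → x = 0

/-- The restriction of a form to a submodule. -/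
def resForm (B : V → V → F) (W : Submodule F V) : W → W → F := fun x y => B x y

lemma resForm_apply (B : V → V → F) (W : Submodule F V) (x y : W) :
    resForm B W x y = B x y := rfl

namespace IsSForm

variable {σ : F →+* F} {ε : F} {B : V → V → F} (hB : IsSForm σ ε B)
include hB

lemma add_right (x y z : V) : B x (y + z) = B x y + B x z := by
  rw [hB.symm (y + z) x, hB.add_left, map_add, mul_add, ← hB.symm, ← hB.symm]

lemma smul_right (c : F) (x y : V) : B x (c • y) = σ c * B x y := by
  rw [hB.symm (c • y) x, hB.smul_left, map_mul, hB.symm y x]; ring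

lemma zero_left (y : V) : B 0 y = 0 := by
  have := hB.smul_left 0 0 y
  simpa using this

lemma zero_right (x : V) : B x 0 = 0 := by
  have := hB.smul_right 0 x 0
  simpa using this

lemma neg_left (x y : V) : B (-x) y = -B x y := by
  have := hB.smul_left (-1) x y
  simpa using this

lemma neg_right (x y : V) : B x (-y) = -B x y := by
  have := hB.smul_right (-1) x y
  simpa using this

lemma sub_left (x y z : V) : B (x - y) z = B x z - B y z := by
  rw [sub_eq_add_neg, hB.add_left, hB.neg_left, sub_eq_add_neg]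

lemma sub_right (x y z : V) : B x (y - z) = B x y - B x z := by
  rw [sub_eq_add_neg, hB.add_right, hB.neg_right, sub_eq_add_neg]

lemma refl {x y : V} (h : B x y = 0) : B y x = 0 := by
  rw [hB.symm x y, h, map_zero, mul_zero]

lemma nondeg_right (hnd : Nondeg B) (y : V) (h : ∀ x, B x y = 0) : y = 0 :=
  hnd y (fun x => hB.refl (h x))

lemma res (W : Submodule F V) : IsSForm σ ε (resForm B W) where
  add_left x y z := hB.add_left x y z
  smul_left c x y := hB.smul_left c x y
  symm x y := hB.symm x y

/-- `x ↦ B x y` as a linear functional. -/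
def lin (y : V) : V →ₗ[F] F where
  toFun x := B x y
  map_add' x x' := hB.add_left x x' y
  map_smul' c x := hB.smul_left c x y

lemma lin_apply (x y : V) : hB.lin y x = B x y := rfl

/-- The orthogonal complement `{y | ∀ x ∈ W, B x y = 0}`. -/
def orth (W : Submodule F V) : Submodule F V where
  carrier := {y | ∀ x ∈ W, B x y = 0}
  add_mem' {a b} ha hb x hx := by rw [hB.add_right, ha x hx, hb x hx, add_zero]
  zero_mem' x _ := hB.zero_right x
  smul_mem' c y hy x hx := by rw [hB.smul_right, hy x hx, mul_zero]

lemma mem_orth {W : Submodule F V} {y : V} : y ∈ hB.orth W ↔ ∀ x ∈ W, B x y = 0 := Iff.rfl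

end IsSForm

end SForm

section Repr

variable {F : Type*} [Field F] [Finite F]

/-- Representation of linear functionals by a pairing with trivial right kernel, by counting. -/
lemma exists_repr {X Y : Type*} [AddCommGroup X] [Module F X] [AddCommGroup Y] [Module F Y]
    [FiniteDimensional F X] [FiniteDimensional F Y] (P : X → Y → F)
    (hadd : ∀ x y y', P x (y + y') = P x y + P x y')
    (hlin : ∀ y, IsLinearMap F (fun x => P x y))
    (hker : ∀ y, (∀ x, P x y = 0) → y = 0) (hcard : Nat.card X ≤ Nat.card Y)
    (l : X →ₗ[F] F) : ∃ y, ∀ x, P x y = l x := by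
  have hfinX : Finite X := Module.finite_of_finite F
  have hfinY : Finite Y := Module.finite_of_finite F
  have hfinD : Finite (X →ₗ[F] F) := Module.finite_of_finite F
  have hinj : Function.Injective (fun y : Y => (hlin y).mk' _) := by
    intro y y' h
    have h1 : ∀ x, P x y = P x y' := fun x => by
      have := congrArg (fun (l : X →ₗ[F] F) => l x) h
      simpa using this
    have h2 : y - y' = 0 := by
      apply hker
      intro x
      have := hadd x (y - y') y'
      rw [sub_add_cancel, h1 x] at this
      exact (add_eq_right.mp this.symm)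
    exact sub_eq_zero.mp h2
  have hc : Nat.card (X →ₗ[F] F) ≤ Nat.card Y := by
    have h1 : Nat.card (X →ₗ[F] F) = Nat.card X := by
      rw [Module.natCard_eq_pow_finrank (K := F) (V := X →ₗ[F] F),
        Module.natCard_eq_pow_finrank (K := F) (V := X)]
      congr 1
      exact Subspace.dual_finrank_eq
    rw [h1]; exact hcard
  obtain ⟨y, hy⟩ := (hinj.bijective_of_nat_card_le hc).surjective l
  refine ⟨y, fun x => ?_⟩
  have := congrArg (fun (l : X →ₗ[F] F) => l x) hy
  simpa using this

end Repr

section Norm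

/-- Surjectivity of `β ↦ β τ(β)` onto the fixed field of a nontrivial involution `τ` of a finite
field. -/
lemma exists_norm_eq {K : Type*} [Field K] [Finite K] (τ : K →+* K) (hτ : ∀ x, τ (τ x) = x)
    (hne : ∃ x, τ x ≠ x) (c : K) (hc : τ c = c) : ∃ β, β * τ β = c := by
  rcases eq_or_ne c 0 with rfl | hc0
  · exact ⟨0, by simp⟩
  let T : Kˣ →* Kˣ := Units.map (τ : K →* K)
  let N : Kˣ →* Kˣ := MonoidHom.id Kˣ * T
  let ψ : Kˣ →* Kˣ := MonoidHom.id Kˣ / T
  have hT : ∀ u : Kˣ, T (T u) = u := fun u => Units.ext (hτ u)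
  have hN : ∀ u : Kˣ, N u = u * T u := fun u => rfl
  have hψ : ∀ u : Kˣ, ψ u = u / T u := fun u => rfl
  -- Hilbert 90
  have h90 : N.ker ≤ ψ.range := by
    intro β hβ
    rw [MonoidHom.mem_ker, hN] at hβ
    have hβ' : (β : K) * τ β = 1 := by
      have := congrArg Units.val hβ
      simpa [T] using this
    obtain ⟨x, hx⟩ : ∃ x : K, x + β * τ x ≠ 0 := by
      by_contra hcon
      push Not at hcon
      have h1 := hcon 1
      rw [map_one, mul_one] at h1
      obtain ⟨y, hy⟩ := hne
      have h2 := hcon y
      have hβ1 : (β : K) = -1 := by linear_combination h1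
      rw [hβ1] at h2
      apply hy
      linear_combination -h2
    have hγ : (β : K) * τ (x + β * τ x) = x + β * τ x := by
      rw [map_add, map_mul, hτ, mul_add, ← mul_assoc, hβ']
      ring
    refine ⟨Units.mk0 _ hx, ?_⟩
    rw [hψ, div_eq_iff_eq_mul]
    apply Units.ext
    simp only [Units.val_mul, Units.val_mk0, T, Units.coe_map, MonoidHom.coe_coe]
    exact hγ.symm
  have hrange : ψ.range ≤ N.ker := by
    rintro _ ⟨u, rfl⟩
    rw [MonoidHom.mem_ker, hN, hψ, _root_.map_div, hT, div_mul_div_cancel, div_self']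
  have hker : N.ker = ψ.range := le_antisymm h90 hrange
  have hfin : Finite Kˣ := inferInstance
  -- fixed units
  have hNr : ∀ u ∈ N.range, T u = u := by
    rintro _ ⟨u, rfl⟩
    rw [hN, map_mul, hT, mul_comm]
  have hψk : ∀ u : Kˣ, u ∈ ψ.ker ↔ T u = u := by
    intro u
    rw [MonoidHom.mem_ker, hψ, div_eq_one, eq_comm]
  have hle : N.range ≤ ψ.ker := fun u hu => (hψk u).mpr (hNr u hu)
  have hcard : Nat.card ψ.ker ≤ Nat.card N.range := by
    have h1 := Subgroup.card_mul_index N.ker
    have h2 := Subgroup.card_mul_index ψ.ker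
    rw [Subgroup.index_ker] at h1 h2
    rw [hker] at h1
    have hpos : 0 < Nat.card ψ.range := Nat.card_pos
    have : Nat.card ψ.range * Nat.card N.range = Nat.card ψ.range * Nat.card ψ.ker := by
      rw [h1, mul_comm, h2]
    exact (Nat.eq_of_mul_eq_mul_left hpos this).ge
  have heq : N.range = ψ.ker := Subgroup.eq_of_le_of_card_ge hle hcard
  have hcm : Units.mk0 c hc0 ∈ N.range := by
    rw [heq, hψk]
    apply Units.ext
    simpa [T] using hc
  obtain ⟨β, hβ⟩ := hcm
  refine ⟨β, ?_⟩
  have := congrArg Units.val hβ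
  simpa [hN, T] using this

end Norm

section KForm

variable {F : Type*} [Field F] [Finite F]

/-- Invariant forms on a finite field with a nontrivial involution are unique up to an
equivariant isometry (multiplication by a unit). -/
lemma kform_unique {K : Type*} [Field K] [Algebra F K] [FiniteDimensional F K] {σ : F →+* F}
    {ε : F} (τ : K →+* K) (hτ : ∀ x, τ (τ x) = x) (hτne : ∃ x, τ x ≠ x)
    (b₁ b₂ : K → K → F) (h₁ : IsSForm σ ε b₁) (h₂ : IsSForm σ ε b₂) (hn₁ : Nondeg b₁)
    (hn₂ : Nondeg b₂) (ha₁ : ∀ k x y, b₁ (k * x) y = b₁ x (τ k * y))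
    (ha₂ : ∀ k x y, b₂ (k * x) y = b₂ x (τ k * y)) :
    ∃ β : K, β ≠ 0 ∧ ∀ x y, b₂ x y = b₁ (β * x) (β * y) := by
  have hfinK : Finite K := Module.finite_of_finite F
  have e₂ : ∀ x y, b₂ x y = b₂ (τ y * x) 1 := fun x y => by rw [ha₂, hτ, mul_one]
  obtain ⟨c, hc⟩ := exists_repr (F := F) (X := K) (Y := K) (fun z c => b₁ (c * z) 1)
    (fun z c c' => by simp only [add_mul]; exact h₁.add_left _ _ _)
    (fun c => ⟨fun z z' => by simp only [mul_add]; exact h₁.add_left _ _ _,
      fun a z => by simp only [mul_smul_comm]; exact h₁.smul_left _ _ _⟩)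
    (fun c hc => by
      by_contra hc0
      have : (1 : K) = 0 := h₁.nondeg_right hn₁ 1 (fun w => by
        have := hc (c⁻¹ * w)
        simpa [← mul_assoc, mul_inv_cancel₀ hc0] using this)
      exact one_ne_zero this)
    le_rfl (h₂.lin 1)
  simp only [IsSForm.lin_apply] at hc
  have hb₂ : ∀ x y, b₂ x y = b₁ x (τ c * y) := by
    intro x y
    rw [e₂, ← hc, ← mul_assoc, ha₁, mul_one, map_mul, hτ]
  have hτc : τ c = c := by
    by_contra hne
    have hsub : τ c - c ≠ 0 := sub_ne_zero.mpr hne
    have key : ∀ x y, b₁ y (τ c * x) = b₁ y (c * x) := by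
      intro x y
      have s1 := h₂.symm x y
      rw [hb₂ y x, hb₂ x y, ← h₁.symm x (τ c * y), ha₁, hτ] at s1
      exact s1
    have : (1 : K) = 0 := h₁.nondeg_right hn₁ 1 (fun y => by
      have h1 := key ((τ c - c)⁻¹) y
      have h2 : b₁ y ((τ c - c) * (τ c - c)⁻¹) = 0 := by
        rw [sub_mul, h₁.sub_right, h1, sub_self]
      rwa [mul_inv_cancel₀ hsub] at h2)
    exact one_ne_zero this
  have hc0 : c ≠ 0 := by
    rintro rfl
    have : (1 : K) = 0 := hn₂ 1 (fun y => by rw [hb₂, map_zero, zero_mul, h₁.zero_right])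
    exact one_ne_zero this
  obtain ⟨β, hβ⟩ := exists_norm_eq τ hτ hτne c hτc
  refine ⟨β, ?_, fun x y => ?_⟩
  · rintro rfl
    rw [zero_mul] at hβ
    exact hc0 hβ.symm
  · rw [ha₁, ← mul_assoc, mul_comm (τ β) β, hβ, hb₂, hτc]

end KForm

end Cfsg.Agent.Lib.Helper47
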