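import Cfsg.Agent.Lib.Helper47.FormTwo

/-!
# Semisimple isometries with equal characteristic polynomial are conjugate by an isometry

`exists_isometry_conj`: over a finite field, for nondegenerate alternating forms (`σ = id`,
`ε = -1`) or `ε`-hermitian forms for a nontrivial involution `σ`.
-/

set_option autoImplicit false

namespace Cfsg.Agent.Lib.Helper47

open Polynomial Module

section Main

universe u

variable {F : Type*} [Field F] [Finite F] {σ : F →+* F} {ε : F}

omit [Finite F] in
lemma alt_isotropic_of_finrank_le_one {V : Type*} [AddCommGroup V] [Module F V]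
    [FiniteDimensional F V] {B : V → V → F} (hB : IsSForm σ ε B) (halt : ∀ x, B x x = 0)
    (W : Submodule F V) (hW : finrank F W ≤ 1) : ∀ x ∈ W, ∀ y ∈ W, B x y = 0 := by
  obtain ⟨w, hw⟩ := finrank_le_one_iff.mp hW
  intro x hx y hy
  obtain ⟨a, ha⟩ := hw ⟨x, hx⟩
  obtain ⟨b, hb⟩ := hw ⟨y, hy⟩
  have hx' : x = a • (w : V) := by
    have := congrArg Subtype.val ha
    simpa using this.symm
  have hy' : y = b • (w : V) := by
    have := congrArg Subtype.val hb
    simpa using this.symm
  rw [hx', hy', hB.smul_left, hB.smul_right, halt, mul_zero, mul_zero]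

omit [Finite F] in
lemma not_dvd_sq_sub_one {f : F[X]} (hfi : Irreducible f) (hdeg : 1 < f.natDegree) :
    ¬ f ∣ (X ^ 2 - 1 : F[X]) := by
  intro h7
  have h8 : (X ^ 2 - 1 : F[X]) = (X - C 1) * (X + C 1) := by
    simp only [map_one]; ring
  rw [h8] at h7
  rcases hfi.prime.dvd_or_dvd h7 with h9 | h9
  · have := natDegree_le_of_dvd h9 (X_sub_C_ne_zero 1)
    rw [natDegree_X_sub_C] at this
    omega
  · have := natDegree_le_of_dvd h9 (X_add_C_ne_zero 1)
    rw [natDegree_X_add_C] at this
    omega

omit [Finite F] in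
lemma exists_inv_poly {V : Type*} [AddCommGroup V] [Module F V] (g : Module.End F V) (χ : F[X])
    (hχ : aeval g χ = 0) (h0 : χ.coeff 0 ≠ 0) :
    aeval g (C (-(χ.coeff 0)⁻¹) * divX χ) * g = 1 := by
  have h1 : aeval g (divX χ) * g = - algebraMap F _ (χ.coeff 0) := by
    have := congrArg (aeval g) (divX_mul_X_add χ)
    rw [map_add, map_mul, aeval_X, aeval_C, hχ] at this
    exact eq_neg_of_add_eq_zero_left this
  rw [map_mul, aeval_C, mul_assoc, h1, ← map_neg, ← map_mul, neg_mul_neg, inv_mul_cancel₀ h0,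
    map_one]

theorem exists_piece {V V' : Type u} [AddCommGroup V] [Module F V] [FiniteDimensional F V]
    [AddCommGroup V'] [Module F V'] [FiniteDimensional F V']
    {B : V → V → F} {B' : V' → V' → F} (hB : IsSForm σ ε B) (hB' : IsSForm σ ε B')
    (hσ : ∀ x, σ (σ x) = x) (hcase : (σ = RingHom.id F ∧ ε = -1) ∨ ∃ c, σ c ≠ c)
    (halt : σ = RingHom.id F → ∀ x, B x x = 0) (halt' : σ = RingHom.id F → ∀ x, B' x x = 0)
    (hnd : Nondeg B) (hnd' : Nondeg B') {g : Module.End F V} {g' : Module.End F V'}
    (hgs : g.IsSemisimple) (hgs' : g'.IsSemisimple)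
    (hgi : ∀ x y, B (g x) (g y) = B x y) (hgi' : ∀ x y, B' (g' x) (g' y) = B' x y)
    {r : F[X]} (hr : aeval g r * g = 1) (hr' : aeval g' r * g' = 1)
    {f : F[X]} (hfi : Irreducible f) {v : V} {v' : V'} (hv : v ≠ 0) (hfv : aeval g f v = 0)
    (hv' : v' ≠ 0) (hfv' : aeval g' f v' = 0) :
    ∃ (W : Submodule F V) (W' : Submodule F V') (hW : W ∈ Module.End.invtSubmodule g)
      (hW' : W' ∈ Module.End.invtSubmodule g'),
      W ≠ ⊥ ∧ Nondeg (resForm B W) ∧ Nondeg (resForm B' W') ∧
      ∃ φ : W ≃ₗ[F] W', (∀ x y, B' (φ x) (φ y) = B x y) ∧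
        ∀ x, φ (resInv g hW x) = resInv g' hW' (φ x) := by
  by_cases hI : ¬ f ∣ adjPoly σ r f ∨ (σ = RingHom.id F ∧ f.natDegree = 1)
  · have hC := cyc_invt g v
    have hC' := cyc_invt g' v'
    obtain ⟨D, hD, -, hi, hii⟩ := exists_dual_compl hB hgi hr hnd hgs hC
    obtain ⟨D', hD', -, hi', hii'⟩ := exists_dual_compl hB' hgi' hr' hnd' hgs' hC'
    have hker : ∀ x ∈ cyc g v, aeval g f x = 0 := by
      rintro _ ⟨p, rfl⟩
      rw [cycMap_apply, aeval_comm_apply, hfv, map_zero]
    have hker' : ∀ x ∈ cyc g' v', aeval g' f x = 0 := by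
      rintro _ ⟨p, rfl⟩
      rw [cycMap_apply, aeval_comm_apply, hfv', map_zero]
    have iso : (∀ x ∈ cyc g v, ∀ y ∈ cyc g v, B x y = 0) ∧ (∀ x ∈ D, ∀ y ∈ D, B x y = 0) ∧
        (∀ x ∈ cyc g' v', ∀ y ∈ cyc g' v', B' x y = 0) ∧ (∀ x ∈ D', ∀ y ∈ D', B' x y = 0) := by
      rcases hI with hnd1 | ⟨hσid, hdeg⟩
      · refine ⟨?_, ?_, ?_, ?_⟩
        · intro x hx y hy
          exact isotropic_ker_of_not_dvd hB hσ hgi hr hfi hnd1 x
            (LinearMap.mem_ker.mpr (hker x hx)) y (LinearMap.mem_ker.mpr (hker y hy))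
        · have hDs : ∀ d ∈ D, aeval g (adjPoly σ r f) d = 0 := by
            intro d hd
            apply hi _ (aeval_mem_of_invt hD _ hd)
            intro c hc
            rw [← adj_apply hB hσ hgi hr, hker c hc, hB.zero_left]
          intro x hx y hy
          exact isotropic_ker_adj_of_not_dvd hB hσ hgi hr hgs hfi hnd1 x
            (LinearMap.mem_ker.mpr (hDs x hx)) y (LinearMap.mem_ker.mpr (hDs y hy))
        · intro x hx y hy
          exact isotropic_ker_of_not_dvd hB' hσ hgi' hr' hfi hnd1 x
            (LinearMap.mem_ker.mpr (hker' x hx)) y (LinearMap.mem_ker.mpr (hker' y hy))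
        · have hDs : ∀ d ∈ D', aeval g' (adjPoly σ r f) d = 0 := by
            intro d hd
            apply hi' _ (aeval_mem_of_invt hD' _ hd)
            intro c hc
            rw [← adj_apply hB' hσ hgi' hr', hker' c hc, hB'.zero_left]
          intro x hx y hy
          exact isotropic_ker_adj_of_not_dvd hB' hσ hgi' hr' hgs' hfi hnd1 x
            (LinearMap.mem_ker.mpr (hDs x hx)) y (LinearMap.mem_ker.mpr (hDs y hy))
      · have ha := halt hσid
        have ha' := halt' hσid
        have hfC : finrank F (cyc g v) = 1 := by rw [finrank_cyc hfi hv hfv, hdeg]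
        have hfC' : finrank F (cyc g' v') = 1 := by rw [finrank_cyc hfi hv' hfv', hdeg]
        have hq : 1 < Nat.card F := Finite.one_lt_card
        have hfD : finrank F D ≤ 1 := by
          have c1 : Nat.card D ≤ Nat.card (cyc g v) :=
            card_le_of_pairing (F := F) (X := cyc g v) (Y := D) (fun c d => B c d)
              (fun x y y' => hB.add_right x y y')
              (fun y => ⟨fun x x' => hB.add_left x x' y, fun a x => hB.smul_left a x y⟩)
              (fun d h => Subtype.ext (hi d d.2 (fun c hc => h ⟨c, hc⟩)))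
          rw [Module.natCard_eq_pow_finrank (K := F) (V := D),
            Module.natCard_eq_pow_finrank (K := F) (V := cyc g v), hfC] at c1
          exact (Nat.pow_le_pow_iff_right hq).mp c1
        have hfD' : finrank F D' ≤ 1 := by
          have c1 : Nat.card D' ≤ Nat.card (cyc g' v') :=
            card_le_of_pairing (F := F) (X := cyc g' v') (Y := D') (fun c d => B' c d)
              (fun x y y' => hB'.add_right x y y')
              (fun y => ⟨fun x x' => hB'.add_left x x' y, fun a x => hB'.smul_left a x y⟩)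
              (fun d h => Subtype.ext (hi' d d.2 (fun c hc => h ⟨c, hc⟩)))
          rw [Module.natCard_eq_pow_finrank (K := F) (V := D'),
            Module.natCard_eq_pow_finrank (K := F) (V := cyc g' v'), hfC'] at c1
          exact (Nat.pow_le_pow_iff_right hq).mp c1
        exact ⟨alt_isotropic_of_finrank_le_one hB ha _ hfC.le,
          alt_isotropic_of_finrank_le_one hB ha _ hfD,
          alt_isotropic_of_finrank_le_one hB' ha' _ hfC'.le,
          alt_isotropic_of_finrank_le_one hB' ha' _ hfD'⟩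
    obtain ⟨hCC, hDD, hCC', hDD'⟩ := iso
    obtain ⟨φ₀, hφ₀⟩ : ∃ φ₀ : ↥(cyc g v) ≃ₗ[F] ↥(cyc g' v'), ∀ x,
        φ₀ (resInv g hC x) = resInv g' hC' (φ₀ x) := by
      refine ⟨(cycEquiv hfi hv hfv).symm.trans (cycEquiv hfi hv' hfv'), fun x => ?_⟩
      obtain ⟨y, rfl⟩ := (cycEquiv hfi hv hfv).surjective x
      have e1 : resInv g hC (cycEquiv hfi hv hfv y)
          = cycEquiv hfi hv hfv (AdjoinRoot.root f * y) := by
        apply Subtype.ext; rw [cycEquiv_root]; rfl
      rw [e1]
      simp only [LinearEquiv.trans_apply, LinearEquiv.symm_apply_apply]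
      apply Subtype.ext; rw [cycEquiv_root]; rfl
    obtain ⟨ψ, hψ⟩ := pair_isometry hB hB' hi hii hi' hii' φ₀
    have hψe := pair_equivariant hB hB' hgi hgi' hr hC hD hC' hD' hi' φ₀ ψ hψ hφ₀
    have hdisj := pair_disjoint hCC hi
    have hdisj' := pair_disjoint hCC' hi'
    obtain ⟨φ, hφi, hφf⟩ := pair_glue hB hB' hdisj hdisj' hCC hDD hCC' hDD' φ₀ ψ hψ
    refine ⟨pairSub (cyc g v) D, pairSub (cyc g' v') D', pairSub_invt hC hD,
      pairSub_invt hC' hD', ?_, pair_nondeg hB hCC hi hii, pair_nondeg hB' hCC' hi' hii', φ,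
      hφi, ?_⟩
    · intro hbot
      have : v ∈ pairSub (cyc g v) D :=
        mem_pairSub.mpr ⟨v, mem_cyc_self g v, 0, D.zero_mem, add_zero v⟩
      rw [hbot, Submodule.mem_bot] at this
      exact hv this
    · intro x
      obtain ⟨⟨c, d⟩, rfl⟩ := (pairEquiv _ _ hdisj).surjective x
      apply Subtype.ext
      have e1 : resInv g (pairSub_invt hC hD) (pairEquiv _ _ hdisj (c, d))
          = pairEquiv _ _ hdisj (resInv g hC c, resInv g hD d) := by
        apply Subtype.ext
        rw [resInv_apply, pairEquiv_apply, pairEquiv_apply, map_add]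
        rfl
      rw [e1, hφf, resInv_apply, hφf, map_add, hφ₀, hψe]
      rfl
  · push Not at hI
    obtain ⟨hdvd, hI2⟩ := hI
    have hII : (σ = RingHom.id F ∧ ε = -1 ∧ 1 < f.natDegree) ∨ (∃ c, σ c ≠ c) := by
      rcases hcase with ⟨hσid, hε⟩ | hc
      · left
        refine ⟨hσid, hε, ?_⟩
        have := hfi.natDegree_pos
        have := hI2 hσid
        omega
      · right; exact hc
    have hτ' : (∃ c, σ c ≠ c) ∨ ¬ f ∣ (X ^ 2 - 1 : F[X]) := by
      rcases hII with ⟨-, -, hdeg⟩ | hc
      · right; exact not_dvd_sq_sub_one hfi hdeg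
      · left; exact hc
    obtain ⟨v₁, hv₁, hfv₁, hne⟩ :=
      exists_nonisotropic_cyc hB hσ hgi hr hnd hgs hfi hdvd hv hfv hII
    obtain ⟨v₁', hv₁', hfv₁', hne'⟩ :=
      exists_nonisotropic_cyc hB' hσ hgi' hr' hnd' hgs' hfi hdvd hv' hfv' hII
    have hn := nondeg_cyc hB hσ hgi hr hfi hv₁ hfv₁ hne
    have hn' := nondeg_cyc hB' hσ hgi' hr' hfi hv₁' hfv₁' hne'
    obtain ⟨φ, hφi, hφe⟩ := cyc_isometry hB hB' hσ hgi hgi' hr hr' hfi hdvd hτ' hv₁ hfv₁ hv₁'
      hfv₁' hn hn'
    refine ⟨cyc g v₁, cyc g' v₁', cyc_invt g v₁, cyc_invt g' v₁', ?_, hn, hn', φ, hφi, hφe⟩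
    intro hbot
    have : v₁ ∈ cyc g v₁ := mem_cyc_self g v₁
    rw [hbot, Submodule.mem_bot] at this
    exact hv₁ this

/-- **Semisimple isometries with the same characteristic polynomial are conjugate by an
isometry** (alternating forms, or hermitian forms for a nontrivial involution `σ`, over a finite
field). -/
theorem exists_isometry_conj (hσ : ∀ x, σ (σ x) = x)
    (hcase : (σ = RingHom.id F ∧ ε = -1) ∨ ∃ c, σ c ≠ c) :
    ∀ (n : ℕ) (V V' : Type u) [AddCommGroup V] [Module F V] [FiniteDimensional F V]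
      [AddCommGroup V'] [Module F V'] [FiniteDimensional F V']
      (B : V → V → F) (B' : V' → V' → F) (g : Module.End F V) (g' : Module.End F V'),
      finrank F V = n → IsSForm σ ε B → IsSForm σ ε B' → Nondeg B → Nondeg B' →
      (σ = RingHom.id F → ∀ x, B x x = 0) → (σ = RingHom.id F → ∀ x, B' x x = 0) →
      g.IsSemisimple → g'.IsSemisimple → (∀ x y, B (g x) (g y) = B x y) →
      (∀ x y, B' (g' x) (g' y) = B' x y) → g.charpoly = g'.charpoly →
      ∃ φ : V ≃ₗ[F] V', (∀ x, φ (g x) = g' (φ x)) ∧ ∀ x y, B' (φ x) (φ y) = B x y := by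
  intro n
  induction n using Nat.strong_induction_on with
  | _ n ih =>
    intro V V' _ _ _ _ _ _ B B' g g' hn hB hB' hnd hnd' halt halt' hgs hgs' hgi hgi' hc
    have hn' : finrank F V' = n := by
      rw [← LinearMap.charpoly_natDegree g', ← hc, LinearMap.charpoly_natDegree, hn]
    rcases Nat.eq_zero_or_pos n with h0 | hpos
    · subst h0
      have : Subsingleton V := Module.finrank_zero_iff.mp hn
      have : Subsingleton V' := Module.finrank_zero_iff.mp hn'
      refine ⟨LinearEquiv.ofSubsingleton V V', fun x => Subsingleton.elim _ _, fun x y => ?_⟩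
      rw [Subsingleton.elim x 0, map_zero, hB.zero_left, hB'.zero_left]
    · have hnt : Nontrivial V := Module.finrank_pos_iff.mp (hn ▸ hpos)
      have hinj : Function.Injective g := by
        rw [← LinearMap.ker_eq_bot, LinearMap.ker_eq_bot']
        intro x hx
        apply hnd
        intro y
        rw [← hgi, hx, hB.zero_left]
      have h0 : g.charpoly.coeff 0 ≠ 0 := by
        intro h0
        have hdet : LinearMap.det g = 0 := by
          rw [LinearMap.det_eq_sign_charpoly_coeff, h0, mul_zero]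
        have := LinearMap.bot_lt_ker_of_det_eq_zero hdet
        rw [LinearMap.ker_eq_bot.mpr hinj] at this
        exact lt_irrefl _ this
      have hr := exists_inv_poly g g.charpoly (LinearMap.aeval_self_charpoly g) h0
      have hr' := exists_inv_poly g' g.charpoly
        (by rw [hc]; exact LinearMap.aeval_self_charpoly g') h0
      obtain ⟨f, hfm, hfi, hfd, v, hv, hfv⟩ := exists_irreducible_ker g
      have hfc : f ∣ g'.charpoly := hc ▸ hfd.trans (LinearMap.minpoly_dvd_charpoly g)
      obtain ⟨v', hv', hfv'⟩ := exists_ker_of_dvd_charpoly n V' g' hn' hgs' f hfm hfi hfc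
      obtain ⟨W, W', hW, hW', hWne, hWn, hWn', φW, hφWi, hφWe⟩ :=
        exists_piece hB hB' hσ hcase halt halt' hnd hnd' hgs hgs' hgi hgi' hr hr' hfi hv hfv
          hv' hfv'
      have hcW := isCompl_orth hB hWn
      have hcW' := isCompl_orth hB' hWn'
      have hO := orth_invt hB hgi hr hW
      have hO' := orth_invt hB' hgi' hr' hW'
      have hcp := charpoly_of_isCompl hW hO hcW
      have hcp' := charpoly_of_isCompl hW' hO' hcW'
      have hcpW : (resInv g hW).charpoly = (resInv g' hW').charpoly := by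
        rw [← LinearEquiv.charpoly_conj φW (resInv g hW)]
        congr 1
        apply LinearMap.ext
        intro x
        rw [LinearEquiv.conj_apply_apply, hφWe, LinearEquiv.apply_symm_apply]
      have hcO : (resInv g hO).charpoly = (resInv g' hO').charpoly := by
        apply mul_left_cancel₀ (LinearMap.charpoly_monic (resInv g hW)).ne_zero
        rw [← hcp, hcpW, ← hcp', hc]
      have hlt : finrank F (hB.orth W) < n := by
        have h1 := Submodule.finrank_add_eq_of_isCompl hcW
        have hWpos : 0 < finrank F W := by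
          by_contra h0
          exact hWne (Submodule.finrank_eq_zero.mp (by omega))
        omega
      obtain ⟨φO, hφOe, hφOi⟩ := ih _ hlt (hB.orth W) (hB'.orth W') (resForm B _)
        (resForm B' _) (resInv g hO) (resInv g' hO') rfl (hB.res _) (hB'.res _)
        (nondeg_orth hB hnd hcW) (nondeg_orth hB' hnd' hcW') (fun h x => halt h x)
        (fun h x => halt' h x) (isSemisimple_resInv hgs hO) (isSemisimple_resInv hgs' hO')
        (fun x y => hgi x y) (fun x y => hgi' x y) hcO
      refine ⟨(Submodule.prodEquivOfIsCompl _ _ hcW).symm.trans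
        ((φW.prodCongr φO).trans (Submodule.prodEquivOfIsCompl _ _ hcW')), fun x => ?_,
        fun x y => ?_⟩
      · obtain ⟨⟨a, b⟩, rfl⟩ := (Submodule.prodEquivOfIsCompl _ _ hcW).surjective x
        have e1 : g (Submodule.prodEquivOfIsCompl _ _ hcW (a, b))
            = Submodule.prodEquivOfIsCompl _ _ hcW (resInv g hW a, resInv g hO b) := by
          simp [resInv_apply]
        rw [e1]
        simp only [LinearEquiv.trans_apply, LinearEquiv.symm_apply_apply,
          LinearEquiv.prodCongr_apply, hφWe, hφOe]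
        simp [resInv_apply]
      · obtain ⟨⟨a, b⟩, rfl⟩ := (Submodule.prodEquivOfIsCompl _ _ hcW).surjective x
        obtain ⟨⟨a₂, b₂⟩, rfl⟩ := (Submodule.prodEquivOfIsCompl _ _ hcW).surjective y
        simp only [LinearEquiv.trans_apply, LinearEquiv.symm_apply_apply,
          LinearEquiv.prodCongr_apply]
        simp only [Submodule.coe_prodEquivOfIsCompl']
        have c1 : B a b₂ = 0 := b₂.2 a a.2
        have c2 : B b a₂ = 0 := hB.refl (b.2 a₂ a₂.2)
        have c1' : B' (φW a) (φO b₂) = 0 := (φO b₂).2 _ (φW a).2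
        have c2' : B' (φO b) (φW a₂) = 0 := hB'.refl ((φO b).2 _ (φW a₂).2)
        have c3 : B' (φW a) (φW a₂) = B a a₂ := hφWi a a₂
        have c4 : B' (φO b) (φO b₂) = B b b₂ := hφOi b b₂
        rw [hB'.add_left, hB'.add_right, hB'.add_right, hB.add_left, hB.add_right, hB.add_right,
          c1, c2, c1', c2', c3, c4]

end Main


end Cfsg.Agent.Lib.Helper47
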