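import Cfsg.Agent.Lib.Helper47.FormBase

/-!
# Isometries of sesquilinear forms: one-sided lemmas

Context: an `ε`-`σ`-hermitian form `B`, an isometry `g` whose inverse is the polynomial `r(g)`.
Adjoint of `p(g)` (`adj_apply`), orthogonal complements, isotropy of kernels, dual pairs.
-/

set_option autoImplicit false

namespace Cfsg.Agent.Lib.Helper47

open Polynomial Module

section OneSided

variable {F : Type*} [Field F] {V : Type*} [AddCommGroup V] [Module F V]

/-- The adjoint polynomial `p ↦ (p.map σ)(r)`. -/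
noncomputable def adjPoly (σ : F →+* F) (r : F[X]) (p : F[X]) : F[X] := (p.map σ).comp r

lemma aeval_mem_of_invt {g : Module.End F V} {W : Submodule F V}
    (hW : W ∈ Module.End.invtSubmodule g) (p : F[X]) {x : V} (hx : x ∈ W) : aeval g p x ∈ W := by
  have := aeval_resInv_apply hW p ⟨x, hx⟩
  rw [← this]
  exact Submodule.coe_mem _

lemma aeval_comm_apply (g : Module.End F V) (a b : F[X]) (x : V) :
    aeval g a (aeval g b x) = aeval g b (aeval g a x) := by
  rw [← Module.End.mul_apply, ← Module.End.mul_apply, ← map_mul, ← map_mul, mul_comm]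

lemma aeval_comm_apply' (g : Module.End F V) (a : F[X]) (x : V) :
    aeval g a (g x) = g (aeval g a x) := by
  have := aeval_comm_apply g a X x
  simpa using this

lemma ker_aeval_invt (g : Module.End F V) (a : F[X]) :
    LinearMap.ker (aeval g a) ∈ Module.End.invtSubmodule g := by
  rw [Module.End.mem_invtSubmodule_iff_forall_mem_of_mem]
  intro x hx
  rw [LinearMap.mem_ker] at hx ⊢
  rw [aeval_comm_apply', hx, map_zero]

lemma exists_preimage_of_injOn [FiniteDimensional F V] (T : Module.End F V) (W : Submodule F V)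
    (hW : ∀ x ∈ W, T x ∈ W) (hinj : ∀ x ∈ W, T x = 0 → x = 0) :
    ∀ x ∈ W, ∃ z ∈ W, T z = x := by
  have hi : Function.Injective (T.restrict hW) := by
    rw [← LinearMap.ker_eq_bot, LinearMap.ker_eq_bot']
    intro x hx
    have := congrArg Subtype.val hx
    exact Subtype.ext (hinj x x.2 (by simpa using this))
  have hs := LinearMap.surjective_of_injective hi
  intro x hx
  obtain ⟨z, hz⟩ := hs ⟨x, hx⟩
  exact ⟨z, z.2, by have := congrArg Subtype.val hz; simpa using this⟩

lemma inv_right' {g : Module.End F V} {r : F[X]} (hr : aeval g r * g = 1) (x : V) :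
    g (aeval g r x) = x := by
  rw [← aeval_comm_apply', ← Module.End.mul_apply, hr]; rfl

lemma inv_left' {g : Module.End F V} {r : F[X]} (hr : aeval g r * g = 1) (x : V) :
    aeval g r (g x) = x := by
  rw [← Module.End.mul_apply, hr]; rfl

variable {σ : F →+* F} {ε : F} {B : V → V → F} (hB : IsSForm σ ε B) (hσ : ∀ x, σ (σ x) = x)
  {g : Module.End F V} (hgi : ∀ x y, B (g x) (g y) = B x y) {r : F[X]} (hr : aeval g r * g = 1)

include hB hσ hgi hr in
/-- The adjoint of `p(g)` is `(adjPoly σ r p)(g)`. -/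
lemma adj_apply (p : F[X]) (x y : V) :
    B (aeval g p x) y = B x (aeval g (adjPoly σ r p) y) := by
  have hpow : ∀ (n : ℕ) (x y : V), B ((g ^ n) x) y = B x ((aeval g r ^ n) y) := by
    intro n
    induction n with
    | zero => intro x y; simp
    | succ n ih =>
      intro x y
      rw [pow_succ, Module.End.mul_apply, ih, pow_succ', Module.End.mul_apply]
      conv_lhs => rw [← inv_right' hr ((aeval g r ^ n) y)]
      rw [hgi]
  induction p using Polynomial.induction_on' with
  | add a b ha hb =>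
    simp only [adjPoly, Polynomial.map_add, add_comp, map_add, LinearMap.add_apply] at *
    rw [hB.add_left, hB.add_right, ha, hb]
  | monomial n a =>
    simp only [adjPoly, Polynomial.map_monomial, monomial_comp, aeval_monomial, map_mul, map_pow,
      aeval_C, Module.End.mul_apply, Module.algebraMap_end_apply]
    rw [hB.smul_left, hB.smul_right, hσ, hpow]

include hB hgi hr in
lemma orth_invt {W : Submodule F V} (hW : W ∈ Module.End.invtSubmodule g) :
    hB.orth W ∈ Module.End.invtSubmodule g := by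
  rw [Module.End.mem_invtSubmodule_iff_forall_mem_of_mem]
  intro y hy x hx
  have h1 : x = g (aeval g r x) := (inv_right' hr x).symm
  rw [h1, hgi]
  exact hy _ (aeval_mem_of_invt hW r hx)

include hB in
lemma isCompl_orth [Finite F] [FiniteDimensional F V] {W : Submodule F V}
    (hW : Nondeg (resForm B W)) : IsCompl W (hB.orth W) := by
  constructor
  · rw [Submodule.disjoint_def]
    intro x hx hx'
    have := hW ⟨x, hx⟩ (fun y => hB.refl (hx' y y.2))
    exact congrArg Subtype.val this
  · rw [codisjoint_iff, eq_top_iff]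
    intro v _
    obtain ⟨w, hw⟩ := exists_repr (F := F) (X := W) (Y := W) (fun x y => B x y)
      (fun x y y' => hB.add_right x y y')
      (fun y => ⟨fun x x' => hB.add_left x x' y, fun c x => hB.smul_left c x y⟩)
      (fun y hy => (hB.res W).nondeg_right hW y hy) le_rfl ((hB.lin v).comp W.subtype)
    have hv : v = (w : V) + (v - w) := by abel
    rw [hv]
    refine Submodule.add_mem_sup w.2 (fun x hx => ?_)
    have := hw ⟨x, hx⟩
    simp only [LinearMap.comp_apply, Submodule.subtype_apply, IsSForm.lin_apply] at this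
    rw [hB.sub_right, this, sub_self]

include hB in
lemma nondeg_orth (hnd : Nondeg B) {W : Submodule F V} (hc : IsCompl W (hB.orth W)) :
    Nondeg (resForm B (hB.orth W)) := by
  rintro ⟨y, hy⟩ h
  apply Subtype.ext
  apply hnd
  intro z
  have hz : z ∈ W ⊔ hB.orth W := by rw [hc.sup_eq_top]; exact Submodule.mem_top
  obtain ⟨w, hw, u, hu, rfl⟩ := Submodule.mem_sup.mp hz
  rw [hB.add_right, hB.refl (hy w hw), zero_add]
  exact h ⟨u, hu⟩

lemma exists_compl_ker [FiniteDimensional F V] (hgs : g.IsSemisimple) (a : F[X]) :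
    ∃ K' : Submodule F V, K' ∈ Module.End.invtSubmodule g ∧
      IsCompl (LinearMap.ker (aeval g a)) K' ∧ ∀ x ∈ K', ∃ z ∈ K', aeval g a z = x := by
  obtain ⟨K', hK', hc⟩ := Module.End.isSemisimple_iff.mp hgs _ (ker_aeval_invt g a)
  refine ⟨K', hK', hc, ?_⟩
  apply exists_preimage_of_injOn (aeval g a) K' (fun x hx => aeval_mem_of_invt hK' a hx)
  intro x hx h0
  exact Submodule.disjoint_def.mp hc.disjoint x (LinearMap.mem_ker.mpr h0) hx

include hB hσ hgi hr in
lemma isotropic_ker_of_not_dvd [FiniteDimensional F V] {f : F[X]} (hfi : Irreducible f)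
    (hnd : ¬ f ∣ adjPoly σ r f) :
    ∀ x ∈ LinearMap.ker (aeval g f), ∀ y ∈ LinearMap.ker (aeval g f), B x y = 0 := by
  intro x hx y hy
  have hsur := exists_preimage_of_injOn (aeval g (adjPoly σ r f)) (LinearMap.ker (aeval g f))
    (fun z hz => by
      rw [LinearMap.mem_ker] at hz ⊢
      rw [aeval_comm_apply, hz, map_zero])
    (fun z hz h0 => by
      by_contra hz0
      exact hnd ((cycMap_eq_zero_iff hfi hz0 (LinearMap.mem_ker.mp hz) _).mp h0))
  obtain ⟨y', -, rfl⟩ := hsur y hy
  rw [← adj_apply hB hσ hgi hr, LinearMap.mem_ker.mp hx, hB.zero_left]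

include hB hσ hgi hr in
lemma isotropic_ker_adj_of_not_dvd [FiniteDimensional F V] (hgs : g.IsSemisimple) {f : F[X]}
    (hfi : Irreducible f) (hnd : ¬ f ∣ adjPoly σ r f) :
    ∀ x ∈ LinearMap.ker (aeval g (adjPoly σ r f)),
      ∀ y ∈ LinearMap.ker (aeval g (adjPoly σ r f)), B x y = 0 := by
  obtain ⟨K', hK', hc, hsur⟩ := exists_compl_ker hgs f
  intro x hx y hy
  have hxs : x ∈ LinearMap.ker (aeval g f) ⊔ K' := by rw [hc.sup_eq_top]; exact Submodule.mem_top
  obtain ⟨x₁, hx₁, x₂, hx₂, rfl⟩ := Submodule.mem_sup.mp hxs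
  rw [LinearMap.mem_ker, map_add] at hx
  have h1 : aeval g (adjPoly σ r f) x₁ ∈ LinearMap.ker (aeval g f) := by
    rw [LinearMap.mem_ker] at hx₁ ⊢
    rw [aeval_comm_apply, hx₁, map_zero]
  have h2 : aeval g (adjPoly σ r f) x₁ ∈ K' := by
    have : aeval g (adjPoly σ r f) x₁ = -aeval g (adjPoly σ r f) x₂ := eq_neg_of_add_eq_zero_left hx
    rw [this]
    exact K'.neg_mem (aeval_mem_of_invt hK' _ hx₂)
  have h3 : aeval g (adjPoly σ r f) x₁ = 0 := Submodule.disjoint_def.mp hc.disjoint _ h1 h2
  have hx₁0 : x₁ = 0 := by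
    by_contra hne
    exact hnd ((cycMap_eq_zero_iff hfi hne (LinearMap.mem_ker.mp hx₁) _).mp h3)
  subst hx₁0
  rw [zero_add]
  obtain ⟨z, -, rfl⟩ := hsur x₂ hx₂
  rw [adj_apply hB hσ hgi hr, LinearMap.mem_ker.mp hy, hB.zero_right]

include hB hσ hgi hr in
lemma nondeg_ker_of_dvd [FiniteDimensional F V] (hnd : Nondeg B) (hgs : g.IsSemisimple)
    {f : F[X]} (hdvd : f ∣ adjPoly σ r f) :
    ∀ x ∈ LinearMap.ker (aeval g f), x ≠ 0 → ∃ y ∈ LinearMap.ker (aeval g f), B x y ≠ 0 := by
  obtain ⟨K', hK', hc, hsur⟩ := exists_compl_ker hgs f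
  intro x hx hx0
  by_contra hcon
  push Not at hcon
  apply hx0
  apply hnd
  intro z
  have hzs : z ∈ LinearMap.ker (aeval g f) ⊔ K' := by rw [hc.sup_eq_top]; exact Submodule.mem_top
  obtain ⟨y, hy, k, hk, rfl⟩ := Submodule.mem_sup.mp hzs
  rw [hB.add_right, hcon y hy, zero_add]
  obtain ⟨k', -, rfl⟩ := hsur k hk
  apply hB.refl
  rw [adj_apply hB hσ hgi hr]
  obtain ⟨h, hh⟩ := hdvd
  rw [hh, mul_comm, map_mul, Module.End.mul_apply, LinearMap.mem_ker.mp hx, map_zero,
    hB.zero_right]

end OneSided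

end Cfsg.Agent.Lib.Helper47
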