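import Cfsg.Agent.Lib.Helper47.FormOne

/-!
# Dual pairs and nondegenerate cyclic pieces (one-sided lemmas)
-/

set_option autoImplicit false

namespace Cfsg.Agent.Lib.Helper47

open Polynomial Module

section Pair

variable {F : Type*} [Field F] {V : Type*} [AddCommGroup V] [Module F V]

/-- The sum of two submodules, as the range of the coproduct map. -/
noncomputable def pairSub (C D : Submodule F V) : Submodule F V :=
  LinearMap.range (C.subtype.coprod D.subtype)

lemma mem_pairSub {C D : Submodule F V} {x : V} :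
    x ∈ pairSub C D ↔ ∃ c ∈ C, ∃ d ∈ D, c + d = x := by
  constructor
  · rintro ⟨⟨c, d⟩, rfl⟩
    exact ⟨c, c.2, d, d.2, by simp⟩
  · rintro ⟨c, hc, d, hd, rfl⟩
    exact ⟨(⟨c, hc⟩, ⟨d, hd⟩), by simp⟩

/-- `C × D ≃ pairSub C D` for disjoint `C`, `D`. -/
noncomputable def pairEquiv (C D : Submodule F V) (h : Disjoint C D) :
    (C × D) ≃ₗ[F] pairSub C D :=
  LinearEquiv.ofInjective (C.subtype.coprod D.subtype) (by
    rw [← LinearMap.ker_eq_bot, LinearMap.ker_eq_bot']
    rintro ⟨c, d⟩ hcd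
    simp only [LinearMap.coprod_apply, Submodule.subtype_apply] at hcd
    have hc : (c : V) = -d := eq_neg_of_add_eq_zero_left hcd
    have hcD : (c : V) ∈ D := by rw [hc]; exact D.neg_mem d.2
    have hc0 : (c : V) = 0 := Submodule.disjoint_def.mp h _ c.2 hcD
    have hd0 : (d : V) = 0 := by rw [hc0, zero_add] at hcd; exact hcd
    exact Prod.ext (Subtype.ext hc0) (Subtype.ext hd0))

lemma pairEquiv_apply (C D : Submodule F V) (h : Disjoint C D) (c : C) (d : D) :
    (pairEquiv C D h (c, d) : V) = c + d := by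
  rfl

lemma pairSub_invt {g : Module.End F V} {C D : Submodule F V}
    (hC : C ∈ Module.End.invtSubmodule g) (hD : D ∈ Module.End.invtSubmodule g) :
    pairSub C D ∈ Module.End.invtSubmodule g := by
  rw [Module.End.mem_invtSubmodule_iff_forall_mem_of_mem] at hC hD ⊢
  intro x hx
  obtain ⟨c, hc, d, hd, rfl⟩ := mem_pairSub.mp hx
  rw [map_add]
  exact mem_pairSub.mpr ⟨g c, hC c hc, g d, hD d hd, rfl⟩

lemma card_le_of_pairing [Finite F] {X Y : Type*} [AddCommGroup X] [Module F X]
    [AddCommGroup Y] [Module F Y] [FiniteDimensional F X] [FiniteDimensional F Y]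
    (P : X → Y → F) (hadd : ∀ x y y', P x (y + y') = P x y + P x y')
    (hlin : ∀ y, IsLinearMap F (fun x => P x y))
    (hker : ∀ y, (∀ x, P x y = 0) → y = 0) : Nat.card Y ≤ Nat.card X := by
  have hfinX : Finite X := Module.finite_of_finite F
  have hfinD : Finite (X →ₗ[F] F) := Module.finite_of_finite F
  have hinj : Function.Injective (fun y : Y => (hlin y).mk' _) := by
    intro y y' h
    have h1 : ∀ x, P x y = P x y' := fun x => by
      have := congrArg (fun (l : X →ₗ[F] F) => l x) h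
      simpa using this
    have h2 : y - y' = 0 := by
      apply hker
      intro x
      have := hadd x (y - y') y'
      rw [sub_add_cancel, h1 x] at this
      exact (add_eq_right.mp this.symm)
    exact sub_eq_zero.mp h2
  have h1 : Nat.card (X →ₗ[F] F) = Nat.card X := by
    rw [Module.natCard_eq_pow_finrank (K := F) (V := X →ₗ[F] F),
      Module.natCard_eq_pow_finrank (K := F) (V := X)]
    congr 1
    exact Subspace.dual_finrank_eq
  rw [← h1]
  exact Nat.card_le_card_of_injective _ hinj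

variable {σ : F →+* F} {ε : F} {B : V → V → F} (hB : IsSForm σ ε B) (hσ : ∀ x, σ (σ x) = x)
  {g : Module.End F V} (hgi : ∀ x y, B (g x) (g y) = B x y) {r : F[X]} (hr : aeval g r * g = 1)

lemma pair_disjoint {C D : Submodule F V} (hCC : ∀ x ∈ C, ∀ y ∈ C, B x y = 0)
    (hi : ∀ d ∈ D, (∀ c ∈ C, B c d = 0) → d = 0) : Disjoint C D := by
  rw [Submodule.disjoint_def]
  intro x hxC hxD
  exact hi x hxD (fun c hc => hCC c hc x hxC)

include hB in
lemma pair_nondeg {C D : Submodule F V} (hCC : ∀ x ∈ C, ∀ y ∈ C, B x y = 0)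
    (hi : ∀ d ∈ D, (∀ c ∈ C, B c d = 0) → d = 0)
    (hii : ∀ c ∈ C, (∀ d ∈ D, B c d = 0) → c = 0) : Nondeg (resForm B (pairSub C D)) := by
  rintro ⟨x, hx⟩ h
  obtain ⟨c, hc, d, hd, rfl⟩ := mem_pairSub.mp hx
  have hd0 : d = 0 := hi d hd (fun c' hc' => by
    have := h ⟨c', mem_pairSub.mpr ⟨c', hc', 0, D.zero_mem, add_zero _⟩⟩
    simp only [resForm_apply] at this
    rw [hB.add_left, hCC c hc c' hc', zero_add] at this
    exact hB.refl this)
  subst hd0
  have hc0 : c = 0 := hii c hc (fun d' hd' => by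
    have := h ⟨d', mem_pairSub.mpr ⟨0, C.zero_mem, d', hd', zero_add _⟩⟩
    simp only [resForm_apply, add_zero] at this
    exact this)
  subst hc0
  apply Subtype.ext
  simp

include hB hgi hr in
lemma exists_dual_compl [FiniteDimensional F V] (hnd : Nondeg B) (hgs : g.IsSemisimple)
    {C : Submodule F V} (hC : C ∈ Module.End.invtSubmodule g) :
    ∃ D : Submodule F V, D ∈ Module.End.invtSubmodule g ∧ IsCompl (hB.orth C) D ∧
      (∀ d ∈ D, (∀ c ∈ C, B c d = 0) → d = 0) ∧ (∀ c ∈ C, (∀ d ∈ D, B c d = 0) → c = 0) := by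
  obtain ⟨D, hD, hc⟩ := Module.End.isSemisimple_iff.mp hgs _ (orth_invt hB hgi hr hC)
  refine ⟨D, hD, hc, ?_, ?_⟩
  · intro d hd h
    exact Submodule.disjoint_def.mp hc.disjoint d h hd
  · intro c hcC h
    apply hnd
    intro z
    have hz : z ∈ hB.orth C ⊔ D := by rw [hc.sup_eq_top]; exact Submodule.mem_top
    obtain ⟨u, hu, d, hd, rfl⟩ := Submodule.mem_sup.mp hz
    rw [hB.add_right, hu c hcC, h d hd, add_zero]

include hB hσ hgi hr in
lemma nondeg_cyc {f : F[X]} (hfi : Irreducible f) {v : V} (hv : v ≠ 0)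
    (hfv : aeval g f v = 0) (hne : ∃ x ∈ cyc g v, ∃ y ∈ cyc g v, B x y ≠ 0) :
    Nondeg (resForm B (cyc g v)) := by
  rintro ⟨x₀, hx₀⟩ h
  by_contra hx0
  have hx0' : x₀ ≠ 0 := fun h0 => hx0 (Subtype.ext h0)
  obtain ⟨p, rfl⟩ := hx₀
  have hnd : ¬ f ∣ p := fun hd => hx0' ((cycMap_eq_zero_iff hfi hv hfv p).mpr hd)
  obtain ⟨a, b, hab⟩ := (hfi.coprime_iff_not_dvd).mpr hnd
  have hv' : v = aeval g b (cycMap g v p) := by
    have h1 : aeval g (a * f + b * p) v = v := by rw [hab]; simp
    rw [map_add, LinearMap.add_apply, map_mul, Module.End.mul_apply, hfv, map_zero, zero_add,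
      map_mul, Module.End.mul_apply] at h1
    rw [cycMap_apply]
    exact h1.symm
  have hvR : ∀ y ∈ cyc g v, B v y = 0 := by
    intro y hy
    rw [hv', adj_apply hB hσ hgi hr]
    exact h ⟨_, aeval_mem_of_invt (cyc_invt g v) _ hy⟩
  obtain ⟨x, hx, y, hy, hxy⟩ := hne
  obtain ⟨q, rfl⟩ := hx
  apply hxy
  rw [cycMap_apply, adj_apply hB hσ hgi hr]
  exact hvR _ (aeval_mem_of_invt (cyc_invt g v) _ hy)

include hB hσ hgi hr in
lemma exists_nonisotropic_cyc [FiniteDimensional F V] (hnd : Nondeg B) (hgs : g.IsSemisimple)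
    {f : F[X]} (hfi : Irreducible f) (hdvd : f ∣ adjPoly σ r f) {v₀ : V} (hv₀ : v₀ ≠ 0)
    (hfv₀ : aeval g f v₀ = 0)
    (hII : (σ = RingHom.id F ∧ ε = -1 ∧ 1 < f.natDegree) ∨ (∃ c, σ c ≠ c)) :
    ∃ v, v ≠ 0 ∧ aeval g f v = 0 ∧ ∃ x ∈ cyc g v, ∃ y ∈ cyc g v, B x y ≠ 0 := by
  by_contra hcon
  push Not at hcon
  have hU := nondeg_ker_of_dvd hB hσ hgi hr hnd hgs hdvd
  have hKinv := ker_aeval_invt g f
  rw [Module.End.mem_invtSubmodule_iff_forall_mem_of_mem] at hKinv
  rcases hII with ⟨hσid, hε, hdeg⟩ | ⟨c, hc⟩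
  · have h1 : ∀ v ∈ LinearMap.ker (aeval g f), B (g v) v = 0 := by
      intro v hv
      rcases eq_or_ne v 0 with rfl | hv0
      · exact hB.zero_right _
      · have hgv : g v ∈ cyc g v := by
          have := cyc_invt g v
          rw [Module.End.mem_invtSubmodule_iff_forall_mem_of_mem] at this
          exact this v (mem_cyc_self g v)
        exact hcon v hv0 (LinearMap.mem_ker.mp hv) (g v) hgv v (mem_cyc_self g v)
    have h2 : ∀ v ∈ LinearMap.ker (aeval g f), ∀ w ∈ LinearMap.ker (aeval g f),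
        B (g v) w = B (aeval g r v) w := by
      intro v hv w hw
      have hvw := h1 (v + w) (add_mem hv hw)
      rw [map_add, hB.add_left, hB.add_right, hB.add_right, h1 v hv, h1 w hw] at hvw
      have h3 : B (g w) v = - B v (g w) := by
        rw [hB.symm v (g w), hε, hσid]; simp
      have h4 : B v (g w) = B (aeval g r v) w := by
        conv_lhs => rw [← inv_right' hr v]
        rw [hgi]
      linear_combination hvw - h3 + h4
    have h5 : ∀ v ∈ LinearMap.ker (aeval g f), g v = aeval g r v := by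
      intro v hv
      by_contra hne
      have hmem : g v - aeval g r v ∈ LinearMap.ker (aeval g f) :=
        sub_mem (hKinv v hv) (aeval_mem_of_invt (ker_aeval_invt g f) r hv)
      obtain ⟨y, hy, hy'⟩ := hU _ hmem (sub_ne_zero.mpr hne)
      apply hy'
      rw [hB.sub_left, h2 v hv y hy, sub_self]
    have h6 : aeval g (X ^ 2 - 1 : F[X]) v₀ = 0 := by
      have := h5 v₀ (LinearMap.mem_ker.mpr hfv₀)
      rw [map_sub, map_pow, aeval_X, map_one, LinearMap.sub_apply, pow_two,
        Module.End.mul_apply, Module.End.one_apply, this, inv_right' hr, sub_self]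
    have h7 : f ∣ (X ^ 2 - 1 : F[X]) := (cycMap_eq_zero_iff hfi hv₀ hfv₀ _).mp h6
    have h8 : (X ^ 2 - 1 : F[X]) = (X - C 1) * (X + C 1) := by
      simp only [map_one]; ring
    rw [h8] at h7
    rcases hfi.prime.dvd_or_dvd h7 with h9 | h9
    · have := natDegree_le_of_dvd h9 (X_sub_C_ne_zero 1)
      rw [natDegree_X_sub_C] at this
      omega
    · have := natDegree_le_of_dvd h9 (X_add_C_ne_zero 1)
      rw [natDegree_X_add_C] at this
      omega
  · have h1 : ∀ v ∈ LinearMap.ker (aeval g f), B v v = 0 := by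
      intro v hv
      rcases eq_or_ne v 0 with rfl | hv0
      · exact hB.zero_right _
      · exact hcon v hv0 (LinearMap.mem_ker.mp hv) v (mem_cyc_self g v) v (mem_cyc_self g v)
    have h2 : ∀ v ∈ LinearMap.ker (aeval g f), ∀ w ∈ LinearMap.ker (aeval g f), B v w = 0 := by
      intro v hv w hw
      have e1 := h1 (v + w) (add_mem hv hw)
      rw [hB.add_left, hB.add_right, hB.add_right, h1 v hv, h1 w hw] at e1
      have hcv : c • v ∈ LinearMap.ker (aeval g f) := Submodule.smul_mem _ c hv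
      have e2 := h1 (c • v + w) (add_mem hcv hw)
      rw [hB.add_left, hB.add_right, hB.add_right, h1 _ hcv, h1 w hw, hB.smul_left,
        hB.smul_right] at e2
      have : (c - σ c) * B v w = 0 := by linear_combination e2 - σ c * e1
      rcases mul_eq_zero.mp this with h | h
      · exact absurd (sub_eq_zero.mp h).symm hc
      · exact h
    obtain ⟨y, hy, hy'⟩ := hU v₀ (LinearMap.mem_ker.mpr hfv₀) hv₀
    exact hy' (h2 v₀ (LinearMap.mem_ker.mpr hfv₀) y hy)

end Pair

end Cfsg.Agent.Lib.Helper47
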