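import Cfsg.Agent.Lib.Helper47.FormPair

/-!
# Isometries of sesquilinear forms: two-sided lemmas

`pair_isometry`, `pair_glue`, `pair_equivariant` (dual pairs) and `cyc_isometry` (nondegenerate
cyclic pieces for a self-dual irreducible polynomial).
-/

set_option autoImplicit false

namespace Cfsg.Agent.Lib.Helper47

open Polynomial Module


section TwoSided

variable {F : Type*} [Field F] [Finite F]
  {V V' : Type*} [AddCommGroup V] [Module F V] [FiniteDimensional F V]
  [AddCommGroup V'] [Module F V'] [FiniteDimensional F V']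
  {σ : F →+* F} {ε : F} {B : V → V → F} {B' : V' → V' → F}
  (hB : IsSForm σ ε B) (hB' : IsSForm σ ε B')

include hB hB' in
/-- Dual pairs: an isomorphism of the first halves extends uniquely to the dual halves. -/
lemma pair_isometry {C D : Submodule F V} {C' D' : Submodule F V'}
    (hi : ∀ d ∈ D, (∀ c ∈ C, B c d = 0) → d = 0)
    (hii : ∀ c ∈ C, (∀ d ∈ D, B c d = 0) → c = 0)
    (hi' : ∀ d ∈ D', (∀ c ∈ C', B' c d = 0) → d = 0)
    (hii' : ∀ c ∈ C', (∀ d ∈ D', B' c d = 0) → c = 0)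
    (φ₀ : C ≃ₗ[F] C') :
    ∃ ψ : D ≃ₗ[F] D', ∀ (c : C) (d : D), B' (φ₀ c) (ψ d) = B c d := by
  have hfinD' : Finite D' := Module.finite_of_finite F
  -- cardinalities
  have c1 : Nat.card D ≤ Nat.card C :=
    card_le_of_pairing (F := F) (X := C) (Y := D) (fun c d => B c d)
      (fun x y y' => hB.add_right x y y')
      (fun y => ⟨fun x x' => hB.add_left x x' y, fun a x => hB.smul_left a x y⟩)
      (fun d h => Subtype.ext (hi d d.2 (fun c hc => h ⟨c, hc⟩)))
  have c2 : Nat.card C ≤ Nat.card D :=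
    card_le_of_pairing (F := F) (X := D) (Y := C) (fun d c => B d c)
      (fun x y y' => hB.add_right x y y')
      (fun y => ⟨fun x x' => hB.add_left x x' y, fun a x => hB.smul_left a x y⟩)
      (fun c h => Subtype.ext (hii c c.2 (fun d hd => hB.refl (h ⟨d, hd⟩))))
  have c1' : Nat.card D' ≤ Nat.card C' :=
    card_le_of_pairing (F := F) (X := C') (Y := D') (fun c d => B' c d)
      (fun x y y' => hB'.add_right x y y')
      (fun y => ⟨fun x x' => hB'.add_left x x' y, fun a x => hB'.smul_left a x y⟩)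
      (fun d h => Subtype.ext (hi' d d.2 (fun c hc => h ⟨c, hc⟩)))
  have c2' : Nat.card C' ≤ Nat.card D' :=
    card_le_of_pairing (F := F) (X := D') (Y := C') (fun d c => B' d c)
      (fun x y y' => hB'.add_right x y y')
      (fun y => ⟨fun x x' => hB'.add_left x x' y, fun a x => hB'.smul_left a x y⟩)
      (fun c h => Subtype.ext (hii' c c.2 (fun d hd => hB'.refl (h ⟨d, hd⟩))))
  have c3 : Nat.card C = Nat.card C' := Nat.card_congr φ₀.toEquiv
  -- representing elements
  have hex : ∀ d : D, ∃ d' : D', ∀ c' : C', B' c' d' = B (φ₀.symm c') d := fun d =>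
    exists_repr (F := F) (X := C') (Y := D') (fun c d => B' c d)
      (fun x y y' => hB'.add_right x y y')
      (fun y => ⟨fun x x' => hB'.add_left x x' y, fun a x => hB'.smul_left a x y⟩)
      (fun d h => Subtype.ext (hi' d d.2 (fun c hc => h ⟨c, hc⟩))) c2'
      ((hB.lin d).comp (C.subtype.comp φ₀.symm.toLinearMap))
  choose ψ₀ hψ₀ using hex
  have huniq : ∀ d₁ d₂ : D', (∀ c' : C', B' c' d₁ = B' c' d₂) → d₁ = d₂ := by
    intro d₁ d₂ h
    have : d₁ - d₂ = 0 := Subtype.ext (hi' _ (d₁ - d₂).2 (fun c hc => by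
      have := h ⟨c, hc⟩
      simp only [Submodule.coe_sub]
      rw [hB'.sub_right, this, sub_self]))
    exact sub_eq_zero.mp this
  let ψl : D →ₗ[F] D' :=
    { toFun := ψ₀
      map_add' := fun d₁ d₂ => huniq _ _ (fun c' => by
        rw [hψ₀]
        simp only [Submodule.coe_add]
        rw [hB.add_right, hB'.add_right, hψ₀, hψ₀])
      map_smul' := fun a d => huniq _ _ (fun c' => by
        rw [hψ₀]
        simp only [Submodule.coe_smul, RingHom.id_apply]
        rw [hB.smul_right, hB'.smul_right, hψ₀]) }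
  have hinj : Function.Injective ψl := by
    rw [← LinearMap.ker_eq_bot, LinearMap.ker_eq_bot']
    intro d hd
    apply Subtype.ext
    apply hi d d.2
    intro c hc
    have h1 := hψ₀ d (φ₀ ⟨c, hc⟩)
    have h2 : ψ₀ d = 0 := hd
    rw [h2, LinearEquiv.symm_apply_apply] at h1
    simp only [ZeroMemClass.coe_zero] at h1
    rw [hB'.zero_right] at h1
    exact h1.symm
  have hbij : Function.Bijective ψl := hinj.bijective_of_nat_card_le (by omega)
  refine ⟨LinearEquiv.ofBijective ψl hbij, fun c d => ?_⟩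
  have h1 := hψ₀ d (φ₀ c)
  rw [LinearEquiv.symm_apply_apply] at h1
  exact h1

include hB hB' in
lemma pair_glue {C D : Submodule F V} {C' D' : Submodule F V'} (hdisj : Disjoint C D)
    (hdisj' : Disjoint C' D')
    (hCC : ∀ x ∈ C, ∀ y ∈ C, B x y = 0) (hDD : ∀ x ∈ D, ∀ y ∈ D, B x y = 0)
    (hCC' : ∀ x ∈ C', ∀ y ∈ C', B' x y = 0) (hDD' : ∀ x ∈ D', ∀ y ∈ D', B' x y = 0)
    (φ₀ : C ≃ₗ[F] C') (ψ : D ≃ₗ[F] D') (hψ : ∀ (c : C) (d : D), B' (φ₀ c) (ψ d) = B c d) :
    ∃ φ : pairSub C D ≃ₗ[F] pairSub C' D', (∀ x y, B' (φ x) (φ y) = B x y) ∧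
      ∀ (c : C) (d : D), (φ (pairEquiv C D hdisj (c, d)) : V') = φ₀ c + ψ d := by
  refine ⟨(pairEquiv C D hdisj).symm.trans ((φ₀.prodCongr ψ).trans (pairEquiv C' D' hdisj')),
    ?_, ?_⟩
  · intro x y
    obtain ⟨⟨c, d⟩, rfl⟩ := (pairEquiv C D hdisj).surjective x
    obtain ⟨⟨c₂, d₂⟩, rfl⟩ := (pairEquiv C D hdisj).surjective y
    simp only [LinearEquiv.trans_apply, LinearEquiv.symm_apply_apply, LinearEquiv.prodCongr_apply,
      pairEquiv_apply]
    rw [hB'.add_left, hB'.add_right, hB'.add_right, hB.add_left, hB.add_right, hB.add_right,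
      hCC' _ (φ₀ c).2 _ (φ₀ c₂).2, hDD' _ (ψ d).2 _ (ψ d₂).2, hCC _ c.2 _ c₂.2, hDD _ d.2 _ d₂.2,
      hψ, hB'.symm (φ₀ c₂ : V') (ψ d : V'), hψ, ← hB.symm]
  · intro c d
    simp only [LinearEquiv.trans_apply, LinearEquiv.symm_apply_apply, LinearEquiv.prodCongr_apply,
      pairEquiv_apply]

include hB hB' in
lemma pair_equivariant {C D : Submodule F V} {C' D' : Submodule F V'}
    {g : Module.End F V} {g' : Module.End F V'}
    (hgi : ∀ x y, B (g x) (g y) = B x y) (hgi' : ∀ x y, B' (g' x) (g' y) = B' x y)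
    {r : F[X]} (hr : aeval g r * g = 1)
    (hC : C ∈ Module.End.invtSubmodule g) (hD : D ∈ Module.End.invtSubmodule g)
    (hC' : C' ∈ Module.End.invtSubmodule g') (hD' : D' ∈ Module.End.invtSubmodule g')
    (hi' : ∀ d ∈ D', (∀ c ∈ C', B' c d = 0) → d = 0)
    (φ₀ : C ≃ₗ[F] C') (ψ : D ≃ₗ[F] D') (hψ : ∀ (c : C) (d : D), B' (φ₀ c) (ψ d) = B c d)
    (hφ₀ : ∀ c, φ₀ (resInv g hC c) = resInv g' hC' (φ₀ c)) :
    ∀ d, ψ (resInv g hD d) = resInv g' hD' (ψ d) := by
  intro d
  have : ψ (resInv g hD d) - resInv g' hD' (ψ d) = 0 := by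
    apply Subtype.ext
    apply hi' _ (ψ (resInv g hD d) - resInv g' hD' (ψ d)).2
    intro c' hc'
    obtain ⟨c, hc⟩ := φ₀.surjective ⟨c', hc'⟩
    have hc1 : (resInv g hC ⟨aeval g r c, aeval_mem_of_invt hC r c.2⟩ : C) = c :=
      Subtype.ext (by rw [resInv_apply]; exact inv_right' hr _)
    have e1 : c' = ((φ₀ c : C') : V') := by rw [hc]
    simp only [Submodule.coe_sub]
    rw [hB'.sub_right, e1]
    have e2 : B' (φ₀ c) (ψ (resInv g hD d)) = B (aeval g r c) d := by
      rw [hψ]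
      conv_lhs => rw [← hc1]
      rw [resInv_apply, resInv_apply, hgi]
    have e3 : B' (φ₀ c) (resInv g' hD' (ψ d)) = B (aeval g r c) d := by
      conv_lhs => rw [← hc1]
      rw [hφ₀, resInv_apply, resInv_apply, hgi', hψ]
    rw [e2, e3, sub_self]
  exact sub_eq_zero.mp this

end TwoSided



section CycIso

variable {F : Type*} [Field F] [Finite F]
  {V V' : Type*} [AddCommGroup V] [Module F V] [FiniteDimensional F V]
  [AddCommGroup V'] [Module F V'] [FiniteDimensional F V']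
  {σ : F →+* F} {ε : F} {B : V → V → F} {B' : V' → V' → F}
  (hB : IsSForm σ ε B) (hB' : IsSForm σ ε B')

lemma mk_adjPoly (σ : F →+* F) (r f p : F[X]) :
    AdjoinRoot.mk f (adjPoly σ r p)
      = p.eval₂ ((AdjoinRoot.of f).comp σ) (AdjoinRoot.mk f r) := by
  rw [adjPoly, comp, hom_eval₂, eval₂_map]
  rfl

include hB hB' in
/-- Two nondegenerate cyclic pieces for a self-dual irreducible polynomial are equivariantly
isometric. -/
lemma cyc_isometry (hσ : ∀ x, σ (σ x) = x) {g : Module.End F V} {g' : Module.End F V'}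
    (hgi : ∀ x y, B (g x) (g y) = B x y) (hgi' : ∀ x y, B' (g' x) (g' y) = B' x y)
    {r : F[X]} (hr : aeval g r * g = 1) (hr' : aeval g' r * g' = 1)
    {f : F[X]} (hfi : Irreducible f) (hdvd : f ∣ adjPoly σ r f)
    (hτ' : (∃ c, σ c ≠ c) ∨ ¬ f ∣ (X ^ 2 - 1 : F[X]))
    {v : V} {v' : V'} (hv : v ≠ 0) (hfv : aeval g f v = 0) (hv' : v' ≠ 0)
    (hfv' : aeval g' f v' = 0) (hn : Nondeg (resForm B (cyc g v)))
    (hn' : Nondeg (resForm B' (cyc g' v'))) :
    ∃ φ : cyc g v ≃ₗ[F] cyc g' v', (∀ x y, B' (φ x) (φ y) = B x y) ∧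
      ∀ x, φ (resInv g (cyc_invt g v) x) = resInv g' (cyc_invt g' v') (φ x) := by
  have hfact : Fact (Irreducible f) := ⟨hfi⟩
  have hfd : Module.Finite F (AdjoinRoot f) := (AdjoinRoot.powerBasis hfi.ne_zero).finite
  have hτ0 : f.eval₂ ((AdjoinRoot.of f).comp σ) (AdjoinRoot.mk f r) = 0 := by
    rw [← mk_adjPoly, AdjoinRoot.mk_eq_zero]; exact hdvd
  obtain ⟨τ, hτdef⟩ : ∃ τ : AdjoinRoot f →+* AdjoinRoot f,
      τ = AdjoinRoot.lift ((AdjoinRoot.of f).comp σ) (AdjoinRoot.mk f r) hτ0 := ⟨_, rfl⟩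
  have hτmk : ∀ p : F[X], τ (AdjoinRoot.mk f p) = AdjoinRoot.mk f (adjPoly σ r p) := by
    intro p
    rw [hτdef, AdjoinRoot.lift_mk, mk_adjPoly]
  -- transported forms
  have hb : IsSForm σ ε (fun x y : AdjoinRoot f =>
      B (cycEquiv hfi hv hfv x : V) (cycEquiv hfi hv hfv y : V)) :=
    ⟨fun x y z => by simp only [map_add, Submodule.coe_add]; exact hB.add_left _ _ _,
     fun c x y => by simp only [map_smul, Submodule.coe_smul]; exact hB.smul_left _ _ _,
     fun x y => hB.symm _ _⟩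
  have hb' : IsSForm σ ε (fun x y : AdjoinRoot f =>
      B' (cycEquiv hfi hv' hfv' x : V') (cycEquiv hfi hv' hfv' y : V')) :=
    ⟨fun x y z => by simp only [map_add, Submodule.coe_add]; exact hB'.add_left _ _ _,
     fun c x y => by simp only [map_smul, Submodule.coe_smul]; exact hB'.smul_left _ _ _,
     fun x y => hB'.symm _ _⟩
  have hbn : Nondeg (fun x y : AdjoinRoot f =>
      B (cycEquiv hfi hv hfv x : V) (cycEquiv hfi hv hfv y : V)) := by
    intro x hx
    have := hn (cycEquiv hfi hv hfv x) (fun y => by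
      obtain ⟨y', rfl⟩ := (cycEquiv hfi hv hfv).surjective y
      exact hx y')
    exact (LinearEquiv.map_eq_zero_iff _).mp this
  have hbn' : Nondeg (fun x y : AdjoinRoot f =>
      B' (cycEquiv hfi hv' hfv' x : V') (cycEquiv hfi hv' hfv' y : V')) := by
    intro x hx
    have := hn' (cycEquiv hfi hv' hfv' x) (fun y => by
      obtain ⟨y', rfl⟩ := (cycEquiv hfi hv' hfv').surjective y
      exact hx y')
    exact (LinearEquiv.map_eq_zero_iff _).mp this
  have hadj : ∀ k x y : AdjoinRoot f,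
      B (cycEquiv hfi hv hfv (k * x) : V) (cycEquiv hfi hv hfv y : V)
        = B (cycEquiv hfi hv hfv x : V) (cycEquiv hfi hv hfv (τ k * y) : V) := by
    intro k x y
    obtain ⟨p, rfl⟩ := AdjoinRoot.mk_surjective k
    rw [cycEquiv_mul, hτmk, cycEquiv_mul, adj_apply hB hσ hgi hr]
  have hadj' : ∀ k x y : AdjoinRoot f,
      B' (cycEquiv hfi hv' hfv' (k * x) : V') (cycEquiv hfi hv' hfv' y : V')
        = B' (cycEquiv hfi hv' hfv' x : V') (cycEquiv hfi hv' hfv' (τ k * y) : V') := by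
    intro k x y
    obtain ⟨p, rfl⟩ := AdjoinRoot.mk_surjective k
    rw [cycEquiv_mul, hτmk, cycEquiv_mul, adj_apply hB' hσ hgi' hr']
  -- τ is an involution
  have hττ : ∀ k : AdjoinRoot f, τ (τ k) = k := by
    intro k
    have h1 : ∀ y : AdjoinRoot f,
        B (cycEquiv hfi hv hfv (k - τ (τ k)) : V) (cycEquiv hfi hv hfv y : V) = 0 := by
      intro y
      have e1 := hadj k 1 y
      have e2 := hadj (τ k) y 1
      rw [mul_one] at e1 e2
      have e3 : B (cycEquiv hfi hv hfv (τ (τ k)) : V) (cycEquiv hfi hv hfv y : V)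
          = B (cycEquiv hfi hv hfv k : V) (cycEquiv hfi hv hfv y : V) := by
        rw [hB.symm (cycEquiv hfi hv hfv y : V) (cycEquiv hfi hv hfv (τ (τ k)) : V), ← e2,
          ← hB.symm, e1]
      simp only [map_sub, Submodule.coe_sub]
      rw [hB.sub_left, e3, sub_self]
    have h2 := hbn (k - τ (τ k)) h1
    exact (sub_eq_zero.mp h2).symm
  have hroot : AdjoinRoot.root f * AdjoinRoot.mk f r = 1 := by
    have h1 : aeval g (X * r - 1 : F[X]) v = 0 := by
      rw [map_sub, map_mul, aeval_X, map_one, LinearMap.sub_apply, Module.End.mul_apply,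
        Module.End.one_apply, inv_right' hr, sub_self]
    have h2 : f ∣ (X * r - 1 : F[X]) := (cycMap_eq_zero_iff hfi hv hfv _).mp h1
    have h3 := AdjoinRoot.mk_eq_zero.mpr h2
    rw [map_sub, map_mul, AdjoinRoot.mk_X, map_one] at h3
    exact sub_eq_zero.mp h3
  have hτne : ∃ x, τ x ≠ x := by
    rcases hτ' with ⟨c, hc⟩ | hnd
    · refine ⟨AdjoinRoot.of f c, fun h => hc ?_⟩
      rw [hτdef, AdjoinRoot.lift_of, RingHom.comp_apply] at h
      exact AdjoinRoot.coe_injective' h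
    · refine ⟨AdjoinRoot.root f, fun h => hnd ?_⟩
      rw [← AdjoinRoot.mk_eq_zero, map_sub, map_pow, AdjoinRoot.mk_X, map_one, pow_two]
      have h1 : τ (AdjoinRoot.root f) = AdjoinRoot.mk f r := by
        rw [← AdjoinRoot.mk_X, hτmk, adjPoly, Polynomial.map_X, X_comp]
      rw [h1] at h
      nth_rewrite 2 [← h]
      rw [hroot, sub_self]
  obtain ⟨β, hβ, hβb⟩ := kform_unique (F := F) (K := AdjoinRoot f) τ hττ hτne _ _ hb' hb hbn' hbn
    hadj' hadj
  refine ⟨(cycEquiv hfi hv hfv).symm.trans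
    (((LinearEquiv.smulOfNeZero (AdjoinRoot f) (AdjoinRoot f) β hβ).restrictScalars F).trans
      (cycEquiv hfi hv' hfv')), ?_, ?_⟩
  · intro x y
    obtain ⟨a, rfl⟩ := (cycEquiv hfi hv hfv).surjective x
    obtain ⟨b, rfl⟩ := (cycEquiv hfi hv hfv).surjective y
    simp only [LinearEquiv.trans_apply, LinearEquiv.symm_apply_apply,
      LinearEquiv.restrictScalars_apply, LinearEquiv.smulOfNeZero_apply, smul_eq_mul]
    exact (hβb a b).symm
  · intro x
    obtain ⟨a, rfl⟩ := (cycEquiv hfi hv hfv).surjective x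
    have e1 : resInv g (cyc_invt g v) (cycEquiv hfi hv hfv a)
        = cycEquiv hfi hv hfv (AdjoinRoot.root f * a) := by
      apply Subtype.ext; rw [cycEquiv_root]; rfl
    rw [e1]
    simp only [LinearEquiv.trans_apply, LinearEquiv.symm_apply_apply,
      LinearEquiv.restrictScalars_apply, LinearEquiv.smulOfNeZero_apply, smul_eq_mul]
    apply Subtype.ext
    rw [resInv_apply, ← cycEquiv_root, mul_left_comm]

end CycIso

end Cfsg.Agent.Lib.Helper47
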