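import Cfsg.Agent.Lib.Helper47.DualPoly

/-!
# Classes of elements of odd prime order in `GU_n(q)`

The classes of elements of order `r` in `GU_n(q)` are parametrised by the self-dual products of
cyclotomic factors over the field with `q²` elements.
-/

set_option autoImplicit false
set_option linter.unusedSectionVars false

namespace Cfsg.Agent.Lib.Helper47

open Polynomial UniqueFactorizationMonoid

section InvMultiset

variable {α : Type*}

lemma map_val_pmap_mk {A : α → Prop} (s : Multiset α) (h : ∀ a ∈ s, A a) :
    (s.pmap (fun a ha => (⟨a, ha⟩ : {a // A a})) h).map Subtype.val = s := by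
  rw [Multiset.map_pmap]
  exact (Multiset.pmap_eq_map _ _ _ _).trans (Multiset.map_id _)

/-- The number of nonempty multisets invariant under a fixed-point-free involution. -/
theorem card_invariant_multisets [Finite α] (δ : α → α) (hδ : ∀ a, δ (δ a) = a)
    (hfix : ∀ a, δ a ≠ a) (b n : ℕ) (hb : 0 < b) :
    Nat.card {s : Multiset α // 0 < Multiset.card s ∧ b * Multiset.card s ≤ n ∧ s.map δ = s}
      = (n / (2 * b) + Nat.card α / 2).choose (Nat.card α / 2) - 1 := by
  classical
  obtain ⟨m, ⟨e⟩⟩ := Finite.exists_equiv_fin α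
  obtain ⟨A, hAdef⟩ : ∃ A : α → Prop, A = fun a => e a < e (δ a) := ⟨_, rfl⟩
  have hA : ∀ a, A (δ a) ↔ ¬ A a := by
    intro a
    rw [hAdef]
    show e (δ a) < e (δ (δ a)) ↔ ¬ e a < e (δ a)
    rw [hδ]
    have hne : e a ≠ e (δ a) := fun h => hfix a (e.injective h).symm
    constructor
    · intro h h'
      exact lt_asymm h h'
    · intro h
      exact lt_of_le_of_ne (not_lt.mp h) (Ne.symm hne)
  have hβ : Nat.card α = 2 * Nat.card {a : α // A a} := by
    have e2 : α ≃ {a : α // A a} ⊕ {a : α // A a} :=
      { toFun := fun a => if h : A a then Sum.inl ⟨a, h⟩ else Sum.inr ⟨δ a, (hA a).mpr h⟩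
        invFun := Sum.elim (fun x => x.1) (fun x => δ x.1)
        left_inv := fun a => by
          by_cases h : A a
          · dsimp only
            rw [dif_pos h]
            rfl
          · dsimp only
            rw [dif_neg h]
            exact hδ a
        right_inv := fun x => by
          rcases x with x | x
          · dsimp only [Sum.elim_inl]
            rw [dif_pos x.2]
          · have h : ¬ A (δ x.1) := by rw [hA]; exact not_not.mpr x.2
            dsimp only [Sum.elim_inr]
            rw [dif_neg h]
            congr 1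
            apply Subtype.ext
            exact hδ x.1 }
    rw [Nat.card_congr e2, Nat.card_sum]
    ring
  have hβ' : Nat.card {a : α // A a} = Nat.card α / 2 := by omega
  rw [← hβ', ← card_multiset_pos_le {a : α // A a} (2 * b) n (by omega)]
  have hK1 : ∀ s : Multiset α, s.map δ = s →
      s.filter (fun a => ¬ A a) = (s.filter A).map δ := by
    intro s hs
    conv_lhs => rw [← hs]
    rw [Multiset.filter_map]
    congr 1
    apply Multiset.filter_congr
    intro a _
    simp only [Function.comp_apply]
    rw [hA, not_not]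
  have hK2 : ∀ s : Multiset α, s.map δ = s →
      Multiset.card s = 2 * Multiset.card (s.filter A) := by
    intro s hs
    conv_lhs => rw [← Multiset.filter_add_not A s]
    rw [Multiset.card_add, hK1 s hs, Multiset.card_map]
    ring
  symm
  apply Nat.card_congr
  exact
    { toFun := fun t => ⟨t.1.map Subtype.val + (t.1.map Subtype.val).map δ, by
          rw [Multiset.card_add, Multiset.card_map, Multiset.card_map]
          have := t.2.1
          omega, by
          simp only [Multiset.card_add, Multiset.card_map]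
          have := t.2.2
          calc b * (Multiset.card t.1 + Multiset.card t.1) = 2 * b * Multiset.card t.1 := by ring
            _ ≤ n := this, by
          rw [Multiset.map_add, Multiset.map_map, Multiset.map_map]
          have h1 : t.1.map (δ ∘ δ ∘ Subtype.val) = t.1.map Subtype.val :=
            Multiset.map_congr rfl (fun a _ => hδ a.1)
          rw [h1, add_comm]⟩
      invFun := fun s => ⟨(s.1.filter A).pmap (fun a h => (⟨a, h⟩ : {a // A a}))
          (fun a ha => (Multiset.mem_filter.mp ha).2), by
          rw [Multiset.card_pmap]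
          have h1 := hK2 s.1 s.2.2.2
          have h2 := s.2.1
          omega, by
          rw [Multiset.card_pmap]
          have h1 := hK2 s.1 s.2.2.2
          have h2 := s.2.2.1
          calc 2 * b * Multiset.card (s.1.filter A)
              = b * (2 * Multiset.card (s.1.filter A)) := by ring
            _ = b * Multiset.card s.1 := by rw [← h1]
            _ ≤ n := h2⟩
      left_inv := fun t => by
        apply Subtype.ext
        apply Multiset.map_injective Subtype.val_injective
        dsimp only
        rw [map_val_pmap_mk, Multiset.filter_add]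
        have h1 : (t.1.map Subtype.val).filter A = t.1.map Subtype.val := by
          rw [Multiset.filter_eq_self]
          intro a ha
          obtain ⟨x, -, rfl⟩ := Multiset.mem_map.mp ha
          exact x.2
        have h2 : ((t.1.map Subtype.val).map δ).filter A = 0 := by
          rw [Multiset.filter_eq_nil]
          intro a ha
          obtain ⟨y, hy, rfl⟩ := Multiset.mem_map.mp ha
          obtain ⟨x, -, rfl⟩ := Multiset.mem_map.mp hy
          rw [hA, not_not]
          exact x.2
        rw [h1, h2, add_zero]
      right_inv := fun s => by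
        apply Subtype.ext
        dsimp only
        rw [map_val_pmap_mk, ← hK1 s.1 s.2.2.2, Multiset.filter_add_not] }

end InvMultiset

section GUPrimeMain

/-- The number of classes of elements of odd prime order `r ∤ q` in `GU_n(q)`. -/
theorem gu_card_prime_order_classes {K : Type*} [Field K] [Fintype K] {p q n r i b s : ℕ}
    [Fact p.Prime] [CharP K p] (hK : Fintype.card K = q ^ 2) (hr : r.Prime) (hr2 : r ≠ 2)
    (hrp : r ≠ p) (hi : i = orderOf (q : ZMod r)) (hb : b = if Odd i then i else i / 2)
    (hs : s * b = r - 1) :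
    Nat.card {C : ConjClasses ↥(Cfsg.GU n K q) //
      ∃ g : ↥(Cfsg.GU n K q), ConjClasses.mk g = C ∧ orderOf g = r}
      = if i % 4 = 2 then Nat.choose (2 * n / i + s) s - 1
        else Nat.choose (n / (2 * b) + s / 2) (s / 2) - 1 := by
  classical
  obtain ⟨σ, hσq, hσ, -, -, x₀, -, -, -, hx₀⟩ := exists_unitary_data K q hK
  have hcopr : r.Coprime p := (Nat.coprime_primes hr Fact.out).mpr hrp
  have hfact : Fact r.Prime := ⟨hr⟩
  have hrF : (r : K) ≠ 0 := natCast_ne_zero_of_coprime p hcopr
  have hform : ∀ u v : Fin n → K, Cfsg.hermForm n K q u v = uForm σ u v :=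
    fun u v => hermForm_eq q σ hσq n u v
  have hbo : b = orderOf (((q ^ 2 : ℕ) : ZMod r)) := by
    rw [Nat.cast_pow, orderOf_pow' _ (by norm_num : (2 : ℕ) ≠ 0), ← hi, hb]
    split_ifs with hodd
    · have h1 : Nat.gcd i 2 = 1 := Nat.coprime_two_right.mpr hodd
      rw [h1, Nat.div_one]
    · have h1 : Nat.gcd i 2 = 2 :=
        Nat.gcd_eq_right (even_iff_two_dvd.mp (Nat.not_odd_iff_even.mp hodd))
      rw [h1]
  have hbpos : 0 < b := by
    rcases Nat.eq_zero_or_pos b with h0 | h
    · rw [h0, mul_zero] at hs
      have := hr.two_le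
      omega
    · exact h
  obtain ⟨hfinα, hcardα⟩ := card_isCycFactor hK hr hrp
  rw [← hbo] at hcardα
  have hcardα' : Nat.card {f : K[X] // IsCycFactor r f} = s := by
    rw [hcardα, ← hs, Nat.mul_div_cancel _ hbpos]
  have hdegα : ∀ f : K[X], IsCycFactor r f → f.Monic ∧ f.natDegree = b :=
    fun f hf => ⟨hf.1, by rw [hbo]; exact hf.natDegree_eq hK hr hrp⟩
  obtain ⟨δ, hδdef⟩ : ∃ δ : {f : K[X] // IsCycFactor r f} → {f : K[X] // IsCycFactor r f},
      ∀ a, (δ a).1 = dualP σ a.1 :=
    ⟨fun f => ⟨dualP σ f.1, dualP_isCycFactor p hσ hr hrp f.2⟩, fun _ => rfl⟩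
  have hδδ : ∀ a, δ (δ a) = a := by
    intro a
    apply Subtype.ext
    rw [hδdef, hδdef]
    exact (dualP_props p hσ a.1 a.2.1 (a.2.coeff_zero_ne hr.pos)).2.2.2
  have hδfix : ∀ a, δ a = a ↔ i % 4 = 2 := by
    intro a
    rw [hi, ← dualP_eq_self_iff hK hσq hr hr2 hrp a.2, Subtype.ext_iff, hδdef]
  rw [card_classes_eq (fun g : ↥(Cfsg.GU n K q) => orderOf g = r)
    (fun g => ((g : GL (Fin n) K) : Matrix (Fin n) (Fin n) K).charpoly)
    (fun g h hc => by
      obtain ⟨c, hc⟩ := isConj_iff.mp hc
      have h1 : IsConj (g : GL (Fin n) K) (h : GL (Fin n) K) :=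
        isConj_iff.mpr ⟨(c : GL (Fin n) K), by rw [← hc]; rfl⟩
      exact charpoly_eq_of_coeffVec_eq (gl_coeffVec_eq_of_isConj _ _ h1))
    (fun g h hg hh hc => (gu_isConj_iff hK g h).mpr
      (gl_isConj_of_coeffVec_eq p (g : GL (Fin n) K) (h : GL (Fin n) K)
        (by rw [Subgroup.orderOf_coe, hg]; exact hcopr)
        (by rw [Subgroup.orderOf_coe, hh]; exact hcopr) (coeffVec_eq_of_charpoly_eq hc)))
    (fun f => ∃ g : ↥(Cfsg.GU n K q), orderOf g = r ∧
      ((g : GL (Fin n) K) : Matrix (Fin n) (Fin n) K).charpoly = f)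
    (fun f => Iff.rfl)]
  have hval : ∀ t : Multiset {f : K[X] // IsCycFactor r f}, ∀ f ∈ t.map Subtype.val,
      IsCycFactor r f := by
    intro t f hf
    obtain ⟨a, -, rfl⟩ := Multiset.mem_map.mp hf
    exact a.2
  have hdualmap : ∀ t : Multiset {f : K[X] // IsCycFactor r f},
      (t.map Subtype.val).map (dualP σ) = (t.map δ).map Subtype.val := by
    intro t
    rw [Multiset.map_map, Multiset.map_map]
    exact Multiset.map_congr rfl (fun a _ => (hδdef a).symm)
  have hdualpoly : ∀ (c : ℕ) (t : Multiset {f : K[X] // IsCycFactor r f}),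
      dualP σ ((X - 1) ^ c * (t.map Subtype.val).prod)
        = (X - 1) ^ c * ((t.map δ).map Subtype.val).prod := by
    intro c t
    rw [dualP_mul, dualP_pow, dualP_X_sub_one, dualP_multiset_prod, hdualmap]
  have hD : Nat.card {f : K[X] // ∃ g : ↥(Cfsg.GU n K q), orderOf g = r ∧
        ((g : GL (Fin n) K) : Matrix (Fin n) (Fin n) K).charpoly = f}
      = Nat.card {t : Multiset {f : K[X] // IsCycFactor r f} //
          0 < Multiset.card t ∧ b * Multiset.card t ≤ n ∧ t.map δ = t} := by
    symm
    have hex : ∀ t : {t : Multiset {f : K[X] // IsCycFactor r f} //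
          0 < Multiset.card t ∧ b * Multiset.card t ≤ n ∧ t.map δ = t},
        ∃ g : ↥(Cfsg.GU n K q), orderOf g = r ∧
          ((g : GL (Fin n) K) : Matrix (Fin n) (Fin n) K).charpoly
            = (X - 1) ^ (n - b * Multiset.card t.1) * (t.1.map Subtype.val).prod := by
      rintro ⟨t, ht0, htn, htδ⟩
      have hdeg : ((X - 1 : K[X]) ^ (n - b * Multiset.card t)
          * (t.map Subtype.val).prod).natDegree = n := by
        rw [natDegree_cyc_prod _ _ (fun f hf => hdegα f (hval t f hf)), Multiset.card_map]
        omega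
      obtain ⟨M, hMc, hMr⟩ := exists_matrix_of_factors p hr _ _ (hval t) hdeg
      have hM1 : M ≠ 1 := by
        rintro rfl
        rw [Matrix.charpoly_one, Fintype.card_fin] at hMc
        have h1 := normalizedFactors_cyc_prod p hr hrp n (0 : Multiset K[X]) (by simp)
        have h2 := normalizedFactors_cyc_prod p hr hrp (n - b * Multiset.card t)
          (t.map Subtype.val) (hval t)
        rw [← hMc] at h2
        rw [Multiset.prod_zero, mul_one] at h1
        rw [h1] at h2
        have h3 : Multiset.card t = 0 := by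
          rw [← Multiset.card_map Subtype.val, ← h2]; rfl
        omega
      have hMdet : IsUnit M.det := by
        have h1 : M.det ^ r = 1 := by rw [← Matrix.det_pow, hMr, Matrix.det_one]
        exact IsUnit.of_pow_eq_one h1 hr.ne_zero
      obtain ⟨N, hN⟩ : ∃ N : Matrix (Fin n) (Fin n) K, N = (sT σ M)⁻¹ := ⟨_, rfl⟩
      have hsdet : IsUnit (sT σ M).det := by rw [det_sT]; exact hMdet.map σ
      have hNc : N.charpoly = M.charpoly := by
        rw [hN, charpoly_sT_inv M hMdet, hMc, hdualpoly, htδ]
      have hNr : N ^ r = 1 := by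
        rw [hN, Matrix.inv_pow', ← sT_pow, hMr, sT_one, inv_one]
      have hMs := isSemisimple_toLin'_of_pow_eq_one M r hrF hMr
      have hNs := isSemisimple_toLin'_of_pow_eq_one N r hrF hNr
      obtain ⟨P₀, hPdet, hPM⟩ := exists_conj_matrix M N hMs hNs hNc.symm
      have hkey : sT σ M * P₀ * M = P₀ := by
        rw [mul_assoc, hPM, ← mul_assoc, hN, Matrix.mul_nonsing_inv _ hsdet, one_mul]
      obtain ⟨y, B, hyU, hyMB, hBB⟩ := exists_unitary_similar p hσ ⟨x₀, hx₀⟩ M P₀
        ((Matrix.isUnit_iff_isUnit_det M).mpr hMdet)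
        ((Matrix.isUnit_iff_isUnit_det P₀).mpr hPdet) hkey
      have hydet : IsUnit y.det := (Matrix.isUnit_iff_isUnit_det y).mp hyU
      have hBr : B ^ r = 1 := by
        have h1 : B ^ r * y = y * M ^ r := pow_intertwine hyMB.symm r
        rw [hMr, mul_one] at h1
        calc B ^ r = B ^ r * (y * y⁻¹) := by rw [Matrix.mul_nonsing_inv y hydet, mul_one]
          _ = y * y⁻¹ := by rw [← mul_assoc, h1]
          _ = 1 := Matrix.mul_nonsing_inv y hydet
      have hBc : B.charpoly = M.charpoly := (charpoly_eq_of_mul_eq y M B hydet hyMB).symm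
      have hB1 : B ≠ 1 := by
        rintro rfl
        apply hM1
        have h1 : y * M = y := by rw [hyMB, one_mul]
        calc M = y⁻¹ * (y * M) := by rw [← mul_assoc, Matrix.nonsing_inv_mul y hydet, one_mul]
          _ = 1 := by rw [h1, Matrix.nonsing_inv_mul y hydet]
      obtain ⟨Bu, hBu⟩ : ∃ Bu : GL (Fin n) K, (Bu : Matrix (Fin n) (Fin n) K) = B :=
        ⟨Units.ofPowEqOne B r hBr hr.ne_zero, rfl⟩
      have hBm : Bu ∈ Cfsg.GU n K q := by
        intro u v
        rw [hform, hform]
        have h1 : (Units.coeHom (Matrix (Fin n) (Fin n) K)) Bu = B := hBu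
        rw [h1]
        exact unitary_of_sT_mul_self hσ hBB u v
      have hBur : Bu ^ r = 1 := by
        apply Units.ext
        rw [Units.val_pow_eq_pow_val, hBu, hBr]
        rfl
      have hBu1 : Bu ≠ 1 := by
        rintro rfl
        apply hB1
        rw [← hBu]
        rfl
      refine ⟨⟨Bu, hBm⟩, ?_, ?_⟩
      · apply orderOf_eq_prime
        · apply Subtype.ext
          rw [SubmonoidClass.coe_pow]
          exact hBur
        · intro h
          apply hBu1
          exact congrArg Subtype.val h
      · show (Bu : Matrix (Fin n) (Fin n) K).charpoly = _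
        rw [hBu, hBc, hMc]
    apply Nat.card_congr
    apply Equiv.ofBijective (fun t => (⟨_, hex t⟩ : {f : K[X] // ∃ g : ↥(Cfsg.GU n K q),
      orderOf g = r ∧ ((g : GL (Fin n) K) : Matrix (Fin n) (Fin n) K).charpoly = f}))
    constructor
    · rintro ⟨t, ht0, htn, htδ⟩ ⟨t', ht0', htn', htδ'⟩ h
      have h1 : (X - 1 : K[X]) ^ (n - b * Multiset.card t) * (t.map Subtype.val).prod
          = (X - 1) ^ (n - b * Multiset.card t') * (t'.map Subtype.val).prod :=
        congrArg Subtype.val h
      have h2 := normalizedFactors_cyc_prod p hr hrp (n - b * Multiset.card t) _ (hval t)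
      have h3 := normalizedFactors_cyc_prod p hr hrp (n - b * Multiset.card t') _ (hval t')
      rw [h1, h3] at h2
      apply Subtype.ext
      exact (Multiset.map_injective Subtype.val_injective h2).symm
    · rintro ⟨f, g, hg, rfl⟩
      obtain ⟨G, hG⟩ : ∃ G : Matrix (Fin n) (Fin n) K,
        G = ((g : GL (Fin n) K) : Matrix (Fin n) (Fin n) K) := ⟨_, rfl⟩
      have hGr : G ^ r = 1 := by
        have h1 : (g : GL (Fin n) K) ^ r = 1 := by
          rw [← SubmonoidClass.coe_pow, ← hg, pow_orderOf_eq_one]; rfl
        rw [hG, ← Units.val_pow_eq_pow_val, h1]; rfl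
      have hGu : sT σ G * G = 1 := by
        apply sT_mul_self_of_unitary hσ
        intro u v
        rw [← hform, ← hform, hG]
        exact g.2 u v
      have hGdet : IsUnit G.det := by
        have h1 : G.det ^ r = 1 := by rw [← Matrix.det_pow, hGr, Matrix.det_one]
        exact IsUnit.of_pow_eq_one h1 hr.ne_zero
      obtain ⟨c, s₀, hs₀, hc⟩ := charpoly_factors_of_pow_eq_one p hr hrp G hGr
      obtain ⟨t, ht⟩ : ∃ t : Multiset {f : K[X] // IsCycFactor r f}, t.map Subtype.val = s₀ :=
        ⟨s₀.pmap (fun f hf => ⟨f, hf⟩) hs₀, map_val_pmap_mk s₀ hs₀⟩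
      have hdeg : n = c + b * Multiset.card t := by
        have h1 := natDegree_cyc_prod c s₀ (fun f hf => hdegα f (hs₀ f hf))
        rw [← hc, Matrix.charpoly_natDegree_eq_dim, Fintype.card_fin, ← ht,
          Multiset.card_map] at h1
        exact h1
      have ht0 : 0 < Multiset.card t := by
        rw [Multiset.card_pos]
        rintro rfl
        rw [Multiset.map_zero] at ht
        subst ht
        rw [Multiset.prod_zero, mul_one] at hc
        have h1 := eq_one_of_charpoly_eq p hr hrp _ hGr c hc
        have h2 : g = 1 := by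
          apply Subtype.ext
          apply Units.ext
          rw [← hG, h1]
          rfl
        rw [h2, orderOf_one] at hg
        exact hr.one_lt.ne hg
      have htδ : t.map δ = t := by
        have h1 : (sT σ G)⁻¹ = G := Matrix.inv_eq_right_inv hGu
        have h2 : dualP σ G.charpoly = G.charpoly := by
          rw [← charpoly_sT_inv G hGdet, h1]
        rw [hc, ← ht, hdualpoly] at h2
        have h3 := normalizedFactors_cyc_prod p hr hrp c _ (hval (t.map δ))
        have h4 := normalizedFactors_cyc_prod p hr hrp c _ (hval t)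
        rw [h2, h4] at h3
        exact (Multiset.map_injective Subtype.val_injective h3).symm
      refine ⟨⟨t, ht0, by omega, htδ⟩, ?_⟩
      apply Subtype.ext
      simp only
      rw [← hG, ht, hc]
      congr 2
      omega
  rw [hD]
  split_ifs with h4
  · have hid : ∀ a, δ a = a := fun a => (hδfix a).mpr h4
    have e1 : {t : Multiset {f : K[X] // IsCycFactor r f} //
          0 < Multiset.card t ∧ b * Multiset.card t ≤ n ∧ t.map δ = t}
        ≃ {t : Multiset {f : K[X] // IsCycFactor r f} //
          0 < Multiset.card t ∧ b * Multiset.card t ≤ n} :=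
      Equiv.subtypeEquivRight (fun t => ⟨fun h => ⟨h.1, h.2.1⟩, fun h => ⟨h.1, h.2, by
        rw [Multiset.map_congr rfl (fun a _ => hid a), Multiset.map_id']⟩⟩)
    rw [Nat.card_congr e1, card_multiset_pos_le _ b n hbpos, hcardα']
    have hib : i = 2 * b := by
      have hnodd : ¬ Odd i := by
        rw [Nat.odd_iff]; omega
      rw [hb, if_neg hnodd]
      omega
    rw [hib, Nat.mul_div_mul_left n b (by norm_num : 0 < 2)]
  · have hne : ∀ a, δ a ≠ a := fun a h => h4 ((hδfix a).mp h)
    rw [card_invariant_multisets δ hδδ hne b n hbpos, hcardα']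

end GUPrimeMain

end Cfsg.Agent.Lib.Helper47
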