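import Cfsg.Agent.Lib.Helper47.GUConj

/-!
# Matrices similar to a unitary matrix

`A` is similar to a unitary matrix as soon as `A* x A = x` for some invertible `x` (where
`M* = (M^σ)ᵀ`): the invariant sesquilinear form `x` can be replaced by an invariant hermitian
form `H = x Q(z)`, `z = x⁻¹ x*`, and then the norm lemma writes `H = y* y`.
-/

set_option autoImplicit false
set_option linter.unusedSectionVars false

namespace Cfsg.Agent.Lib.Helper47

open Polynomial Matrix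

section Star

variable {F : Type*} [Field F] {ι : Type*} [Fintype ι] [DecidableEq ι]

/-- The conjugate transpose with respect to `σ`. -/
def sT (σ : F →+* F) (M : Matrix ι ι F) : Matrix ι ι F := (M.map σ)ᵀ

variable {σ : F →+* F}

lemma sT_mul (M N : Matrix ι ι F) : sT σ (M * N) = sT σ N * sT σ M := by
  unfold sT
  rw [Matrix.map_mul, Matrix.transpose_mul]

lemma sT_add (M N : Matrix ι ι F) : sT σ (M + N) = sT σ M + sT σ N := by
  ext i j
  simp [sT]

lemma sT_one : sT σ (1 : Matrix ι ι F) = 1 := by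
  unfold sT
  rw [Matrix.map_one σ (map_zero σ) (map_one σ), Matrix.transpose_one]

lemma sT_zero : sT σ (0 : Matrix ι ι F) = 0 := by
  ext i j
  simp [sT]

lemma sT_sT (hσ : ∀ x, σ (σ x) = x) (M : Matrix ι ι F) : sT σ (sT σ M) = M := by
  ext i j
  simp [sT, hσ]

lemma sT_pow (M : Matrix ι ι F) (k : ℕ) : sT σ (M ^ k) = sT σ M ^ k := by
  induction k with
  | zero => rw [pow_zero, pow_zero, sT_one]
  | succ k ih => rw [pow_succ, sT_mul, ih, ← pow_succ']

lemma sT_algebraMap (c : F) :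
    sT σ (algebraMap F (Matrix ι ι F) c) = algebraMap F (Matrix ι ι F) (σ c) := by
  ext i j
  simp only [sT, Matrix.transpose_apply, Matrix.map_apply, Matrix.algebraMap_matrix_apply]
  by_cases h : i = j
  · subst h; simp
  · rw [if_neg h, if_neg (Ne.symm h), map_zero]

lemma sT_aeval (M : Matrix ι ι F) (P : F[X]) :
    sT σ (aeval M P) = aeval (sT σ M) (P.map σ) := by
  induction P using Polynomial.induction_on' with
  | add p q hp hq => rw [map_add, sT_add, hp, hq, Polynomial.map_add, map_add]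
  | monomial n c =>
    rw [aeval_monomial, Polynomial.map_monomial, aeval_monomial, sT_mul, sT_pow, sT_algebraMap]
    exact (Algebra.commute_algebraMap_right (σ c) _).eq

lemma det_sT (M : Matrix ι ι F) : (sT σ M).det = σ M.det := by
  unfold sT
  rw [Matrix.det_transpose, RingHom.map_det]
  rfl

lemma uForm_sT (hσ : ∀ x, σ (σ x) = x) (x : Matrix ι ι F) (u v : ι → F) :
    uForm σ (x *ᵥ u) v = uForm σ u (sT σ x *ᵥ v) := uForm_star hσ x u v

lemma sT_mul_self_of_unitary (hσ : ∀ x, σ (σ x) = x) {B : Matrix ι ι F}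
    (hB : ∀ u v, uForm σ (B *ᵥ u) (B *ᵥ v) = uForm σ u v) : sT σ B * B = 1 := by
  have hF := uForm_isSForm (ι := ι) σ hσ
  have h0 : sT σ B * B - 1 = 0 := by
    apply matrix_eq_zero_of_uForm (σ := σ)
    intro u v
    rw [hF.symm, Matrix.sub_mulVec, hF.sub_right, ← Matrix.mulVec_mulVec, ← uForm_sT hσ, hB,
      Matrix.one_mulVec, sub_self, map_zero, mul_zero]
  exact sub_eq_zero.mp h0

lemma unitary_of_sT_mul_self (hσ : ∀ x, σ (σ x) = x) {B : Matrix ι ι F}
    (hB : sT σ B * B = 1) (u v : ι → F) : uForm σ (B *ᵥ u) (B *ᵥ v) = uForm σ u v := by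
  rw [uForm_sT hσ, Matrix.mulVec_mulVec, hB, Matrix.one_mulVec]

lemma pow_intertwine {R : Type*} [Monoid R] {a b c : R} (h : a * c = c * b) (k : ℕ) :
    a ^ k * c = c * b ^ k := by
  induction k with
  | zero => simp
  | succ k ih => rw [pow_succ, mul_assoc, h, ← mul_assoc, ih, mul_assoc, ← pow_succ]

lemma aeval_intertwine {a b c : Matrix ι ι F} (h : a * c = c * b) (P : F[X]) :
    aeval a P * c = c * aeval b P := by
  induction P using Polynomial.induction_on' with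
  | add p q hp hq => rw [map_add, add_mul, hp, hq, map_add, mul_add]
  | monomial k r =>
    rw [aeval_monomial, aeval_monomial, mul_assoc, pow_intertwine h, ← mul_assoc, ← mul_assoc]
    congr 1
    exact (Algebra.commute_algebraMap_left r c).eq

end Star

/-- Polynomial lemma: if `ρ` inverts `X` modulo `m` and `m ∣ m^σ ∘ ρ`, some `P + X (P^σ ∘ ρ)` is
coprime to `m`. -/
theorem exists_poly_coprime {F : Type*} [Field F] {σ : F →+* F} (t₂ : F) (ht : σ t₂ ≠ t₂)
    (m ρ : F[X]) (hm0 : m ≠ 0) (h1 : m ∣ X * ρ - 1) (h2 : m ∣ (m.map σ).comp ρ) :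
    ∃ P : F[X], IsCoprime (P + X * (P.map σ).comp ρ) m := by
  classical
  obtain ⟨m', hm', hnd⟩ := Polynomial.exists_eq_pow_rootMultiplicity_mul_and_not_dvd m hm0 (-1)
  obtain ⟨k, hk⟩ : ∃ k, k = m.rootMultiplicity (-1) := ⟨_, rfl⟩
  rw [← hk] at hm'
  obtain ⟨l, hl⟩ : ∃ l : F[X], l = X - C (-1) := ⟨_, rfl⟩
  rw [← hl] at hm' hnd
  have hlirr : Irreducible l := hl ▸ irreducible_X_sub_C (-1)
  have hcop0 : IsCoprime l m' := (hlirr.coprime_iff_not_dvd).mpr hnd
  have hcop : IsCoprime (l ^ k) m' := hcop0.pow_left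
  obtain ⟨u, v, huv⟩ := hcop
  have hm'm : m' ∣ m := ⟨l ^ k, by rw [hm']; ring⟩
  obtain ⟨c, hc⟩ := hm'm.trans h1
  have hcopρ : IsCoprime m' ρ := ⟨-c, X, by linear_combination hc⟩
  have hlσ : l.map σ = l := by
    rw [hl, Polynomial.map_sub, Polynomial.map_X, Polynomial.map_C, map_neg, map_one]
  have hlX : l = X + 1 := by
    rw [hl, map_neg, map_one]; ring
  have hlρ : l.comp ρ = ρ * l - (X * ρ - 1) := by
    rw [hlX, add_comp, X_comp, one_comp]; ring
  have hcopl : IsCoprime m' (l.comp ρ) := by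
    have : IsCoprime m' (ρ * l + m' * (-c)) :=
      (hcopρ.mul_right hcop0.symm).add_mul_left_right (-c)
    convert this using 1
    rw [hlρ, hc]; ring
  have hm'dvd : m' ∣ (m'.map σ).comp ρ := by
    have h3 : m' ∣ (m'.map σ).comp ρ * (l.comp ρ) ^ k := by
      have : (m.map σ).comp ρ = (m'.map σ).comp ρ * (l.comp ρ) ^ k := by
        rw [hm', Polynomial.map_mul, Polynomial.map_pow, hlσ, mul_comp, pow_comp]; ring
      rw [← this]
      exact hm'm.trans h2
    exact (hcopl.pow_right).dvd_of_dvd_mul_right h3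
  obtain ⟨w, hw⟩ := hm'dvd
  obtain ⟨e, he⟩ : ∃ e : F[X], e = v * m' := ⟨_, rfl⟩
  obtain ⟨P, hP⟩ : ∃ P : F[X], P = 1 + (C t₂ - 1) * e := ⟨_, rfl⟩
  refine ⟨P, ?_⟩
  have hPσ : (P.map σ).comp ρ = 1 + (C (σ t₂) - 1) * (v.map σ).comp ρ * (m' * w) := by
    rw [hP, he]
    simp only [Polynomial.map_add, Polynomial.map_mul, Polynomial.map_sub, Polynomial.map_one,
      Polynomial.map_C, add_comp, mul_comp, sub_comp, one_comp, C_comp]
    rw [hw]; ring
  rw [hm']
  apply IsCoprime.mul_right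
  · rcases Nat.eq_zero_or_pos k with hk0 | hkpos
    · rw [hk0, pow_zero]; exact isCoprime_one_right
    apply IsCoprime.pow_right
    apply IsCoprime.symm
    rw [hlirr.coprime_iff_not_dvd, hl, Polynomial.dvd_iff_isRoot]
    have hldvdm : l ∣ m := by
      refine ⟨l ^ (k - 1) * m', ?_⟩
      rw [hm', ← mul_assoc, ← pow_succ', Nat.sub_add_cancel hkpos]
    have hρ1 : ρ.eval (-1) = -1 := by
      have h4 : l ∣ X * ρ - 1 := hldvdm.trans h1
      rw [hl, Polynomial.dvd_iff_isRoot] at h4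
      have h5 : (X * ρ - 1 : F[X]).eval (-1) = 0 := h4
      simp only [eval_sub, eval_mul, eval_X, eval_one] at h5
      linear_combination -h5
    have he1 : e.eval (-1) = 1 := by
      have h6 : e = 1 - u * l ^ k := by rw [he]; linear_combination huv
      rw [h6, hlX]
      simp [hkpos.ne']
    have hP1 : P.eval (-1) = t₂ := by
      rw [hP]; simp [he1]
    have hPσ1 : (P.map σ).eval (-1) = σ t₂ := by
      have : (-1 : F) = σ (-1) := by simp
      rw [this, Polynomial.eval_map, Polynomial.eval₂_at_apply, hP1]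
    intro hroot
    have h7 : (P + X * (P.map σ).comp ρ).eval (-1) = 0 := hroot
    rw [eval_add, eval_mul, eval_X, eval_comp, hρ1, hPσ1, hP1] at h7
    apply ht
    linear_combination -h7
  · have h8 : IsCoprime (1 + X : F[X]) m' := by
      have : (1 + X : F[X]) = l := by rw [hlX]; ring
      rw [this]; exact hcop0
    have h9 := h8.add_mul_left_left
      ((C t₂ - 1) * v + X * ((C (σ t₂) - 1) * (v.map σ).comp ρ * w))
    have e3 : P + X * (P.map σ).comp ρ = 1 + X + m' *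
        ((C t₂ - 1) * v + X * ((C (σ t₂) - 1) * (v.map σ).comp ρ * w)) := by
      rw [hPσ, hP, he]; ring
    rw [e3]; exact h9

/-- If `A* x A = x` with `x` invertible, then `A` is similar to a unitary matrix. -/
theorem exists_unitary_similar {F : Type*} [Field F] [Finite F] {σ : F →+* F} (p : ℕ)
    [Fact p.Prime] [CharP F p] (hσ : ∀ x, σ (σ x) = x) (hne : ∃ c, σ c ≠ c) {n : ℕ}
    (A x : Matrix (Fin n) (Fin n) F) (hA : IsUnit A) (hx : IsUnit x)
    (hxA : sT σ A * x * A = x) :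
    ∃ y B : Matrix (Fin n) (Fin n) F, IsUnit y ∧ y * A = B * y ∧ sT σ B * B = 1 := by
  classical
  obtain ⟨t₂, ht⟩ := hne
  obtain ⟨xu, hxu⟩ := hx
  obtain ⟨xi, hxi⟩ : ∃ xi : Matrix (Fin n) (Fin n) F,
      xi = ((xu⁻¹ : (Matrix (Fin n) (Fin n) F)ˣ) : Matrix (Fin n) (Fin n) F) := ⟨_, rfl⟩
  have hx1 : x * xi = 1 := by rw [← hxu, hxi]; exact Units.mul_inv xu
  have hx2 : xi * x = 1 := by rw [← hxu, hxi]; exact Units.inv_mul xu
  obtain ⟨Au, hAu⟩ := hA
  obtain ⟨Ai, hAi⟩ : ∃ Ai : Matrix (Fin n) (Fin n) F,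
      Ai = ((Au⁻¹ : (Matrix (Fin n) (Fin n) F)ˣ) : Matrix (Fin n) (Fin n) F) := ⟨_, rfl⟩
  have hA1 : A * Ai = 1 := by rw [← hAu, hAi]; exact Units.mul_inv Au
  have hA2 : Ai * A = 1 := by rw [← hAu, hAi]; exact Units.inv_mul Au
  obtain ⟨xs, hxs⟩ : ∃ xs : Matrix (Fin n) (Fin n) F, xs = sT σ x := ⟨_, rfl⟩
  obtain ⟨xsi, hxsi⟩ : ∃ xsi : Matrix (Fin n) (Fin n) F, xsi = sT σ xi := ⟨_, rfl⟩
  obtain ⟨As, hAs⟩ : ∃ As : Matrix (Fin n) (Fin n) F, As = sT σ A := ⟨_, rfl⟩
  obtain ⟨Asi, hAsi⟩ : ∃ Asi : Matrix (Fin n) (Fin n) F, Asi = sT σ Ai := ⟨_, rfl⟩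
  have hxs1 : xs * xsi = 1 := by rw [hxs, hxsi, ← sT_mul, hx2, sT_one]
  have hxs2 : xsi * xs = 1 := by rw [hxs, hxsi, ← sT_mul, hx1, sT_one]
  have hAs1 : As * Asi = 1 := by rw [hAs, hAsi, ← sT_mul, hA2, sT_one]
  have hAs2 : Asi * As = 1 := by rw [hAs, hAsi, ← sT_mul, hA1, sT_one]
  rw [← hAs] at hxA
  have hxsA : As * xs * A = xs := by
    have := congrArg (sT σ) hxA
    rw [sT_mul, sT_mul, ← hxs, hAs, sT_sT hσ, ← hAs, ← mul_assoc] at this
    exact this
  have hxA' : x * A = Asi * x := by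
    calc x * A = Asi * (As * x * A) := by rw [← mul_assoc, ← mul_assoc, hAs2, one_mul]
      _ = Asi * x := by rw [hxA]
  have hxsA' : xs * A = Asi * xs := by
    calc xs * A = Asi * (As * xs * A) := by rw [← mul_assoc, ← mul_assoc, hAs2, one_mul]
      _ = Asi * xs := by rw [hxsA]
  have hAxi : A * xi = xi * Asi := by
    calc A * xi = xi * (x * A) * xi := by rw [← mul_assoc, hx2, one_mul]
      _ = xi * (Asi * x) * xi := by rw [hxA']
      _ = xi * Asi := by rw [mul_assoc, mul_assoc, hx1, mul_one]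
  obtain ⟨z, hz⟩ : ∃ z : Matrix (Fin n) (Fin n) F, z = xi * xs := ⟨_, rfl⟩
  obtain ⟨zi, hzi⟩ : ∃ zi : Matrix (Fin n) (Fin n) F, zi = xsi * x := ⟨_, rfl⟩
  obtain ⟨zs, hzs⟩ : ∃ zs : Matrix (Fin n) (Fin n) F, zs = x * xsi := ⟨_, rfl⟩
  have hz1 : z * zi = 1 := by
    rw [hz, hzi, mul_assoc, ← mul_assoc xs, hxs1, one_mul, hx2]
  have hz2 : zi * z = 1 := by
    rw [hz, hzi, mul_assoc, ← mul_assoc x, hx1, one_mul, hxs2]
  have hzsT : sT σ z = zs := by
    rw [hz, sT_mul, hxs, sT_sT hσ, ← hxsi, hzs]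
  have hxz : x * z = xs := by rw [hz, ← mul_assoc, hx1, one_mul]
  have hint : zs * xs = xs * zi := by
    rw [hzs, hzi, mul_assoc, hxs2, mul_one, ← mul_assoc, hxs1, one_mul]
  have hAz : A * z = z * A := by
    rw [hz, ← mul_assoc, hAxi, mul_assoc, mul_assoc, hxsA']
  -- the inverse of `z` is a power of `z`
  obtain ⟨zu, hzu'⟩ : IsUnit z := ⟨⟨z, zi, hz1, hz2⟩, rfl⟩
  obtain ⟨k, hk⟩ : ∃ k, k = orderOf zu := ⟨_, rfl⟩
  have hkpos : 0 < k := hk ▸ orderOf_pos zu
  have hzk : z ^ k = 1 := by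
    have := congrArg (fun w : (Matrix (Fin n) (Fin n) F)ˣ => (w : Matrix (Fin n) (Fin n) F))
      (pow_orderOf_eq_one zu)
    simp only [Units.val_pow_eq_pow_val, hzu', Units.val_one] at this
    rw [hk]; exact this
  obtain ⟨ρ, hρ⟩ : ∃ ρ : F[X], ρ = X ^ (k - 1) := ⟨_, rfl⟩
  have hρz : aeval z ρ = zi := by
    rw [hρ, map_pow, aeval_X]
    calc z ^ (k - 1) = z ^ (k - 1) * (z * zi) := by rw [hz1, mul_one]
      _ = z ^ k * zi := by rw [← mul_assoc, ← pow_succ, Nat.sub_add_cancel hkpos]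
      _ = zi := by rw [hzk, one_mul]
  have hintz : IsIntegral F z := IsIntegral.of_finite F z
  obtain ⟨m, hm⟩ : ∃ m : F[X], m = minpoly F z := ⟨_, rfl⟩
  have hmm : m.Monic := hm ▸ minpoly.monic hintz
  have hmz : aeval z m = 0 := hm ▸ minpoly.aeval F z
  have h1 : m ∣ X * ρ - 1 := by
    rw [hm]; apply minpoly.dvd
    rw [map_sub, map_mul, aeval_X, hρz, hz1, map_one, sub_self]
  have h2 : m ∣ (m.map σ).comp ρ := by
    rw [hm]; apply minpoly.dvd
    rw [← hm, aeval_comp, hρz]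
    have h3 : aeval zs (m.map σ) = 0 := by rw [← hzsT, ← sT_aeval, hmz, sT_zero]
    have h4 : xs * aeval zi (m.map σ) = 0 := by rw [← aeval_intertwine hint, h3, zero_mul]
    calc aeval zi (m.map σ) = xsi * (xs * aeval zi (m.map σ)) := by
          rw [← mul_assoc, hxs2, one_mul]
      _ = 0 := by rw [h4, mul_zero]
  obtain ⟨P, hPcop⟩ := exists_poly_coprime t₂ ht m ρ hmm.ne_zero h1 h2
  obtain ⟨Q, hQ⟩ : ∃ Q : F[X], Q = P + X * (P.map σ).comp ρ := ⟨_, rfl⟩
  rw [← hQ] at hPcop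
  obtain ⟨a, b, hab⟩ := hPcop
  have hQinv : aeval z a * aeval z Q = 1 := by
    have := congrArg (aeval z) hab
    rw [map_add, map_mul, map_mul, hmz, mul_zero, add_zero, map_one] at this
    exact this
  obtain ⟨H, hH⟩ : ∃ H : Matrix (Fin n) (Fin n) F, H = x * aeval z Q := ⟨_, rfl⟩
  have hHsT : sT σ H = H := by
    have e1 : H = x * aeval z P + sT σ (x * aeval z P) := by
      rw [sT_mul, sT_aeval, hzsT, ← hxs, aeval_intertwine hint, ← hxz, hH, hQ, map_add, mul_add,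
        map_mul, aeval_X, aeval_comp, hρz, mul_assoc]
    rw [e1, sT_add, sT_sT hσ, add_comm]
  have hAQ : A * aeval z Q = aeval z Q * A := commute_aeval hAz Q
  have hHA : As * H * A = H := by
    calc As * H * A = As * x * (aeval z Q * A) := by rw [hH]; simp only [mul_assoc]
      _ = As * x * A * aeval z Q := by rw [← hAQ]; simp only [mul_assoc]
      _ = H := by rw [hxA, hH]
  have hHerm : HermM σ H := by
    intro u v
    rw [uForm_sT hσ, hHsT]
  have hxdet : IsUnit x.det := (Matrix.isUnit_iff_isUnit_det x).mp ⟨xu, hxu⟩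
  have hHU : IsUnit H := by
    rw [Matrix.isUnit_iff_isUnit_det, hH, Matrix.det_mul]
    refine hxdet.mul ?_
    have h5 : (aeval z a).det * (aeval z Q).det = 1 := by
      rw [← Matrix.det_mul, hQinv, Matrix.det_one]
    exact isUnit_of_mul_isUnit_right (by rw [h5]; exact isUnit_one)
  obtain ⟨P₂, hP₂⟩ := exists_poly_norm_matrix p hσ ⟨t₂, ht⟩ H hHerm hHU
  obtain ⟨y, hy⟩ : ∃ y : Matrix (Fin n) (Fin n) F, y = aeval H P₂ := ⟨_, rfl⟩
  have hys : sT σ y = aeval H (P₂.map σ) := by rw [hy, sT_aeval, hHsT]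
  rw [← hys, ← hy] at hP₂
  have hydet : IsUnit y.det := by
    have h5 : IsUnit ((sT σ y).det * y.det) := by
      rw [← Matrix.det_mul, hP₂]; exact (Matrix.isUnit_iff_isUnit_det H).mp hHU
    exact isUnit_of_mul_isUnit_right h5
  have hy1 : y * y⁻¹ = 1 := Matrix.mul_nonsing_inv y hydet
  have hy2 : y⁻¹ * y = 1 := Matrix.nonsing_inv_mul y hydet
  refine ⟨y, y * A * y⁻¹, (Matrix.isUnit_iff_isUnit_det y).mpr hydet, ?_, ?_⟩
  · rw [mul_assoc, hy2, mul_one]
  · have e2 : sT σ (y * A * y⁻¹) = sT σ y⁻¹ * As * sT σ y := by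
      rw [sT_mul, sT_mul, ← hAs, mul_assoc]
    calc sT σ (y * A * y⁻¹) * (y * A * y⁻¹)
        = sT σ y⁻¹ * (As * (sT σ y * y) * A) * y⁻¹ := by
          rw [e2]; simp only [mul_assoc]
      _ = sT σ y⁻¹ * (sT σ y * y) * y⁻¹ := by rw [hP₂, hHA]
      _ = sT σ (y * y⁻¹) * (y * y⁻¹) := by rw [sT_mul]; simp only [mul_assoc]
      _ = 1 := by rw [hy1, sT_one, one_mul]

end Cfsg.Agent.Lib.Helper47
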