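import Cfsg.Agent.Lib.Helper47.FormBase

/-!
# Polynomial norm lemmas for an involution `σ` of a field

* `exists_poly_norm_unip`: for every `k` there is `r` with `X^k ∣ r * r^σ - (1 + X)`.
* `exists_poly_norm_sf`: for `m` squarefree and `σ`-invariant (finite field, `σ` a nontrivial
  involution) there is `r` with `m ∣ r * r^σ - X`.
-/

set_option autoImplicit false

namespace Cfsg.Agent.Lib.Helper47

open Polynomial

section NormPoly

variable {F : Type*} [Field F] (σ : F →+* F)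

lemma map_map_invol (hσ : ∀ x, σ (σ x) = x) (p : F[X]) : (p.map σ).map σ = p := by
  rw [Polynomial.map_map]
  have : σ.comp σ = RingHom.id F := RingHom.ext hσ
  rw [this, Polynomial.map_id]

/-- Hensel-type lifting: `r * r^σ ≡ 1 + X` modulo any power of `X`. -/
lemma exists_poly_norm_unip (hσ : ∀ x, σ (σ x) = x) (hne : ∃ c, σ c ≠ c) (k : ℕ) :
    ∃ r : F[X], X ^ k ∣ r * r.map σ - (1 + X) := by
  induction k with
  | zero => exact ⟨0, by simp⟩
  | succ k ih =>
    rcases Nat.eq_zero_or_pos k with rfl | hk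
    · refine ⟨1, ?_⟩
      simp
    obtain ⟨r, d, hd⟩ := ih
    obtain ⟨c₀, hc₀⟩ := hne
    obtain ⟨θ, hθ⟩ : ∃ θ : F, θ + σ θ = 1 := by
      have h0 : c₀ - σ c₀ ≠ 0 := sub_ne_zero.mpr (Ne.symm hc₀)
      refine ⟨c₀ / (c₀ - σ c₀), ?_⟩
      rw [_root_.map_div₀, map_sub, hσ]
      have h1 : σ c₀ - c₀ ≠ 0 := sub_ne_zero.mpr hc₀
      field_simp
      ring
    -- `d` is `σ`-invariant
    have hdσ : d.map σ = d := by
      have h1 := congrArg (Polynomial.map σ) hd
      rw [Polynomial.map_sub, Polynomial.map_mul, map_map_invol σ hσ, Polynomial.map_add,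
        Polynomial.map_one, Polynomial.map_X, Polynomial.map_mul, Polynomial.map_pow,
        Polynomial.map_X, mul_comm (r.map σ) r, hd] at h1
      exact (mul_left_cancel₀ (pow_ne_zero k X_ne_zero) h1).symm
    have hd0 : σ (d.coeff 0) = d.coeff 0 := by
      have := congrArg (fun p : F[X] => p.coeff 0) hdσ
      simpa using this
    have hρ : r.coeff 0 * σ (r.coeff 0) = 1 := by
      have h1 := congrArg (fun p : F[X] => p.coeff 0) hd
      simp only [coeff_sub, mul_coeff_zero, coeff_map, coeff_add, coeff_one_zero, coeff_X_zero,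
        add_zero] at h1
      rw [coeff_X_pow, if_neg (by omega), zero_mul] at h1
      exact sub_eq_zero.mp h1
    obtain ⟨c, hc⟩ : ∃ c : F, c = θ * d.coeff 0 * r.coeff 0 := ⟨_, rfl⟩
    refine ⟨r - C c * X ^ k, ?_⟩
    have e1 : (r - C c * X ^ k) * (r - C c * X ^ k).map σ - (1 + X)
        = X ^ k * (d - C c * r.map σ - C (σ c) * r + C c * C (σ c) * X ^ k) := by
      rw [Polynomial.map_sub, Polynomial.map_mul, Polynomial.map_C, Polynomial.map_pow,
        Polynomial.map_X]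
      have : r * r.map σ = X ^ k * d + (1 + X) := by rw [← hd]; ring
      calc (r - C c * X ^ k) * (r.map σ - C (σ c) * X ^ k) - (1 + X)
          = r * r.map σ - (1 + X) - X ^ k * (C c * r.map σ) - X ^ k * (C (σ c) * r)
            + X ^ k * (C c * C (σ c) * X ^ k) := by ring
        _ = X ^ k * (d - C c * r.map σ - C (σ c) * r + C c * C (σ c) * X ^ k) := by
          rw [this]; ring
    rw [e1, pow_succ]
    apply mul_dvd_mul_left
    rw [X_dvd_iff]
    simp only [coeff_add, coeff_sub, coeff_C_mul, coeff_map, mul_coeff_zero, coeff_C_zero,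
      coeff_X_pow]
    rw [if_neg (by omega), hc]
    simp only [map_mul, hd0, mul_zero, add_zero]
    have h2 : θ * d.coeff 0 * r.coeff 0 * σ (r.coeff 0) = θ * d.coeff 0 := by
      rw [mul_assoc, hρ, mul_one]
    have h3 : σ θ * d.coeff 0 * σ (r.coeff 0) * r.coeff 0 = σ θ * d.coeff 0 := by
      rw [mul_assoc, mul_comm (σ (r.coeff 0)), hρ, mul_one]
    rw [h2, h3]
    have : d.coeff 0 - θ * d.coeff 0 - σ θ * d.coeff 0 = d.coeff 0 * (1 - (θ + σ θ)) := by ring
    rw [this, hθ, sub_self, mul_zero]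

variable {σ}

lemma norm_congr (hσ : ∀ x, σ (σ x) = x) {m r r' : F[X]} (hm : m.map σ = m) (h : m ∣ r' - r)
    (hr : m ∣ r * r.map σ - X) : m ∣ r' * r'.map σ - X := by
  obtain ⟨w, hw⟩ := h
  have e : r' = r + m * w := by rw [← hw]; ring
  rw [e, Polynomial.map_add, Polynomial.map_mul, hm]
  have : (r + m * w) * (r.map σ + m * w.map σ) - X
      = (r * r.map σ - X) + m * (w * r.map σ + r * w.map σ + m * w * w.map σ) := by ring
  rw [this]
  exact dvd_add hr (dvd_mul_right _ _)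

lemma norm_combine (hσ : ∀ x, σ (σ x) = x) {m₁ m₂ r₁ r₂ : F[X]} (h₁ : m₁.map σ = m₁)
    (h₂ : m₂.map σ = m₂) (hc : IsCoprime m₁ m₂) (hr₁ : m₁ ∣ r₁ * r₁.map σ - X)
    (hr₂ : m₂ ∣ r₂ * r₂.map σ - X) : ∃ r : F[X], m₁ * m₂ ∣ r * r.map σ - X := by
  obtain ⟨u, v, huv⟩ := hc
  refine ⟨r₁ * (v * m₂) + r₂ * (u * m₁), ?_⟩
  apply IsCoprime.mul_dvd ⟨u, v, huv⟩
  · apply norm_congr hσ h₁ _ hr₁
    refine ⟨u * (r₂ - r₁), ?_⟩
    have : v * m₂ = 1 - u * m₁ := by rw [← huv]; ring
    rw [this]; ring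
  · apply norm_congr hσ h₂ _ hr₂
    refine ⟨v * (r₁ - r₂), ?_⟩
    have : u * m₁ = 1 - v * m₂ := by rw [← huv]; ring
    rw [this]; ring

/-- Irreducible `σ`-invariant `f`: norm surjectivity in the finite field `F[X]/(f)`. -/
lemma norm_irr_self [Finite F] (hσ : ∀ x, σ (σ x) = x) (hne : ∃ c, σ c ≠ c) {f : F[X]}
    (hfi : Irreducible f) (hf : f.map σ = f) : ∃ r : F[X], f ∣ r * r.map σ - X := by
  have : Fact (Irreducible f) := ⟨hfi⟩
  have : Module.Finite F (AdjoinRoot f) := (AdjoinRoot.powerBasis hfi.ne_zero).finite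
  have : Finite (AdjoinRoot f) := Module.finite_of_finite F
  have h0 : f.eval₂ ((AdjoinRoot.of f).comp σ) (AdjoinRoot.root f) = 0 := by
    rw [← Polynomial.eval₂_map, hf, AdjoinRoot.eval₂_root]
  obtain ⟨τ, hτdef⟩ : ∃ τ : AdjoinRoot f →+* AdjoinRoot f,
      τ = AdjoinRoot.lift ((AdjoinRoot.of f).comp σ) (AdjoinRoot.root f) h0 := ⟨_, rfl⟩
  have hτmk : ∀ p : F[X], τ (AdjoinRoot.mk f p) = AdjoinRoot.mk f (p.map σ) := by
    intro p
    rw [hτdef, AdjoinRoot.lift_mk, ← Polynomial.eval₂_map, ← AdjoinRoot.aeval_eq,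
      Polynomial.aeval_def, AdjoinRoot.algebraMap_eq]
  have hτ : ∀ x, τ (τ x) = x := by
    intro x
    obtain ⟨p, rfl⟩ := AdjoinRoot.mk_surjective x
    rw [hτmk, hτmk, map_map_invol σ hσ]
  have hτne : ∃ x, τ x ≠ x := by
    obtain ⟨c, hc⟩ := hne
    refine ⟨AdjoinRoot.mk f (C c), ?_⟩
    rw [hτmk, Polynomial.map_C]
    intro h
    rw [AdjoinRoot.mk_C, AdjoinRoot.mk_C] at h
    exact hc ((AdjoinRoot.of f).injective h)
  have hroot : τ (AdjoinRoot.root f) = AdjoinRoot.root f := by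
    have : AdjoinRoot.root f = AdjoinRoot.mk f X := rfl
    rw [this, hτmk, Polynomial.map_X]
  obtain ⟨β, hβ⟩ := exists_norm_eq τ hτ hτne (AdjoinRoot.root f) hroot
  obtain ⟨r, rfl⟩ := AdjoinRoot.mk_surjective β
  refine ⟨r, ?_⟩
  rw [← AdjoinRoot.mk_eq_mk, map_mul, ← hτmk, hβ]
  rfl

/-- Irreducible `f` with `f^σ ≠ f`. -/
lemma norm_irr_pair (hσ : ∀ x, σ (σ x) = x) {f : F[X]} (hfi : Irreducible f) (hfm : f.Monic)
    (hf : f.map σ ≠ f) : IsCoprime f (f.map σ) ∧ ∃ r : F[X], f * f.map σ ∣ r * r.map σ - X := by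
  have hcop : IsCoprime f (f.map σ) := by
    rw [hfi.coprime_iff_not_dvd]
    intro hdvd
    apply hf
    exact Polynomial.eq_of_monic_of_dvd_of_natDegree_le hfm (hfm.map σ) hdvd
      (by rw [Polynomial.natDegree_map])
  refine ⟨hcop, ?_⟩
  obtain ⟨u, v, huv⟩ := hcop
  have huvσ : u.map σ * f.map σ + v.map σ * f = 1 := by
    have := congrArg (Polynomial.map σ) huv
    rw [Polynomial.map_add, Polynomial.map_mul, Polynomial.map_mul, map_map_invol σ hσ,
      Polynomial.map_one] at this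
    exact this
  refine ⟨X * (v * f.map σ) + u * f, ?_⟩
  have key : f ∣ (X * (v * f.map σ) + u * f) * (X * (v * f.map σ) + u * f).map σ - X := by
    rw [Polynomial.map_add, Polynomial.map_mul, Polynomial.map_mul, Polynomial.map_mul,
      Polynomial.map_X, map_map_invol σ hσ]
    have e1 : v * f.map σ = 1 - u * f := by rw [← huv]; ring
    have e2 : u.map σ * f.map σ = 1 - v.map σ * f := by rw [← huvσ]; ring
    rw [e1, e2]
    refine ⟨(u - X * u) * (X * (v.map σ * f) + 1 - v.map σ * f) + X * (X * v.map σ - v.map σ),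
      ?_⟩
    ring
  apply IsCoprime.mul_dvd ⟨u, v, huv⟩ key
  have := Polynomial.map_dvd σ key
  rw [Polynomial.map_sub, Polynomial.map_mul, map_map_invol σ hσ, Polynomial.map_X] at this
  rw [mul_comm]
  exact this

/-- **Norm lemma, squarefree case.** -/
theorem exists_poly_norm_sf [Finite F] (hσ : ∀ x, σ (σ x) = x) (hne : ∃ c, σ c ≠ c) :
    ∀ (n : ℕ) (m : F[X]), m.natDegree = n → m.map σ = m → Squarefree m →
      ∃ r : F[X], m ∣ r * r.map σ - X := by
  intro n
  induction n using Nat.strong_induction_on with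
  | _ n ih =>
    intro m hn hm hsq
    have hm0 : m ≠ 0 := hsq.ne_zero
    by_cases hu : IsUnit m
    · exact ⟨0, hu.dvd⟩
    obtain ⟨f, hfm, hfi, m₁, rfl⟩ := Polynomial.exists_monic_irreducible_factor m hu
    have hf0 : f ≠ 0 := hfi.ne_zero
    have hm₁0 : m₁ ≠ 0 := right_ne_zero_of_mul hm0
    have hfdeg : 0 < f.natDegree := hfi.natDegree_pos
    obtain ⟨hrel, -, hsq₁⟩ := squarefree_mul_iff.mp hsq
    by_cases hfσ : f.map σ = f
    · have hm₁σ : m₁.map σ = m₁ := by
        rw [Polynomial.map_mul, hfσ] at hm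
        exact mul_left_cancel₀ hf0 hm
      have hlt : m₁.natDegree < n := by
        rw [← hn, Polynomial.natDegree_mul hf0 hm₁0]
        omega
      obtain ⟨r₁, hr₁⟩ := norm_irr_self hσ hne hfi hfσ
      obtain ⟨r₂, hr₂⟩ := ih _ hlt m₁ rfl hm₁σ hsq₁
      exact norm_combine hσ hfσ hm₁σ hrel.isCoprime hr₁ hr₂
    · obtain ⟨hcop, r₁, hr₁⟩ := norm_irr_pair hσ hfi hfm hfσ
      have hfσdvd : f.map σ ∣ f * m₁ := by
        have := Polynomial.map_dvd σ (Dvd.intro m₁ rfl : f ∣ f * m₁)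
        rwa [hm] at this
      have hdvd₁ : f.map σ ∣ m₁ := hcop.symm.dvd_of_dvd_mul_left hfσdvd
      obtain ⟨m₂, rfl⟩ := hdvd₁
      have hfσ0 : f.map σ ≠ 0 := left_ne_zero_of_mul hm₁0
      have hm₂0 : m₂ ≠ 0 := right_ne_zero_of_mul hm₁0
      have hff : (f * f.map σ).map σ = f * f.map σ := by
        rw [Polynomial.map_mul, map_map_invol σ hσ, mul_comm]
      have hsq' : Squarefree (f * f.map σ * m₂) := by rw [mul_assoc]; exact hsq
      obtain ⟨hrel₂, -, hsq₂⟩ := squarefree_mul_iff.mp hsq'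
      have hm₂σ : m₂.map σ = m₂ := by
        have hm' : (f * f.map σ * m₂).map σ = f * f.map σ * m₂ := by rw [mul_assoc]; exact hm
        rw [Polynomial.map_mul, hff] at hm'
        exact mul_left_cancel₀ (mul_ne_zero hf0 hfσ0) hm'
      have hlt : m₂.natDegree < n := by
        rw [← hn, Polynomial.natDegree_mul hf0 hm₁0, Polynomial.natDegree_mul hfσ0 hm₂0]
        omega
      obtain ⟨r₂, hr₂⟩ := ih _ hlt m₂ rfl hm₂σ hsq₂
      obtain ⟨r, hr⟩ := norm_combine hσ hff hm₂σ hrel₂.isCoprime hr₁ hr₂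
      exact ⟨r, by rw [← mul_assoc]; exact hr⟩

end NormPoly

end Cfsg.Agent.Lib.Helper47
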