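import Cfsg.Agent.Lib.Helper47.SemiCount

/-!
# Elements of prime order `r ≠ p` in `GL_n(q)`

The characteristic polynomial of a matrix `M` with `M ^ r = 1` is `(X - 1)^c` times a product of
monic irreducible factors of the `r`-th cyclotomic polynomial; conversely each such product is
the characteristic polynomial of some `M` with `M ^ r = 1`.  Counting multisets gives the number
of classes of elements of order `r`.
-/

set_option autoImplicit false
set_option linter.unusedSectionVars false

namespace Cfsg.Agent.Lib.Helper47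

open Polynomial UniqueFactorizationMonoid

section Count

lemma card_multiset_le_aux (α : Type*) [Fintype α] [DecidableEq α] (N : ℕ) :
    Finite {s : Multiset α // Multiset.card s ≤ N} ∧
      Nat.card {s : Multiset α // Multiset.card s ≤ N} = (Fintype.card α + N).choose N := by
  induction N with
  | zero =>
    have e : {s : Multiset α // Multiset.card s ≤ 0} ≃ Unit :=
      { toFun := fun _ => ()
        invFun := fun _ => ⟨0, by simp⟩
        left_inv := fun s => by
          apply Subtype.ext
          have := s.2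
          simp only [nonpos_iff_eq_zero, Multiset.card_eq_zero] at this
          exact this.symm
        right_inv := fun _ => rfl }
    exact ⟨Finite.of_equiv _ e.symm, by rw [Nat.card_congr e]; simp⟩
  | succ N ih =>
    obtain ⟨hfin, hcard⟩ := ih
    have e : {s : Multiset α // Multiset.card s ≤ N + 1} ≃
        {s : Multiset α // Multiset.card s ≤ N} ⊕ Sym α (N + 1) :=
      { toFun := fun s => if h : Multiset.card s.1 ≤ N then Sum.inl ⟨s.1, h⟩
          else Sum.inr ⟨s.1, by have := s.2; omega⟩
        invFun := Sum.elim (fun s => ⟨s.1, by have := s.2; omega⟩) (fun s => ⟨s.1, by rw [s.2]⟩)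
        left_inv := fun s => by
          by_cases h : Multiset.card s.1 ≤ N
          · dsimp only
            rw [dif_pos h]
            rfl
          · dsimp only
            rw [dif_neg h]
            rfl
        right_inv := fun s => by
          rcases s with s | s
          · dsimp only [Sum.elim_inl]
            rw [dif_pos s.2]
          · have : ¬ Multiset.card s.1 ≤ N := by rw [s.2]; omega
            dsimp only [Sum.elim_inr]
            rw [dif_neg this]
            rfl }
    refine ⟨Finite.of_equiv _ e.symm, ?_⟩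
    rw [Nat.card_congr e, Nat.card_sum, hcard, Nat.card_eq_fintype_card, Sym.card_sym_eq_choose]
    have : Fintype.card α + (N + 1) - 1 = Fintype.card α + N := by omega
    rw [this, ← add_assoc, Nat.choose_succ_succ]

/-- The number of nonempty multisets of size at most `n / i` over a type with `t` elements. -/
lemma card_multiset_pos_le (α : Type*) [Finite α] (i n : ℕ) (hi : 0 < i) :
    Nat.card {s : Multiset α // 0 < Multiset.card s ∧ i * Multiset.card s ≤ n}
      = (n / i + Nat.card α).choose (Nat.card α) - 1 := by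
  classical
  have := Fintype.ofFinite α
  obtain ⟨hfin, hcard⟩ := card_multiset_le_aux α (n / i)
  have e : Option {s : Multiset α // 0 < Multiset.card s ∧ i * Multiset.card s ≤ n} ≃
      {s : Multiset α // Multiset.card s ≤ n / i} :=
    { toFun := fun o => o.elim ⟨0, by simp⟩ (fun s => ⟨s.1, by
        rw [Nat.le_div_iff_mul_le hi, mul_comm]; exact s.2.2⟩)
      invFun := fun s => if h : s.1 = 0 then none else some ⟨s.1, Multiset.card_pos.mpr h, by
        have := s.2
        rw [Nat.le_div_iff_mul_le hi, mul_comm] at this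
        exact this⟩
      left_inv := fun o => by
        rcases o with _ | s
        · simp
        · have : s.1 ≠ 0 := Multiset.card_pos.mp s.2.1
          simp [this]
      right_inv := fun s => by
        by_cases h : s.1 = 0
        · simp only [h, dite_true, Option.elim]
          apply Subtype.ext
          exact h.symm
        · simp [h] }
  have hfin' : Finite {s : Multiset α // 0 < Multiset.card s ∧ i * Multiset.card s ≤ n} :=
    Finite.of_injective (fun s => (e (some s)))
      (fun a b h => Option.some_injective _ (e.injective h))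
  have h1 := Finite.card_option
    (α := {s : Multiset α // 0 < Multiset.card s ∧ i * Multiset.card s ≤ n})
  rw [Nat.card_congr e, hcard] at h1
  rw [Nat.card_eq_fintype_card (α := α), ← Nat.choose_symm_add, add_comm, h1]
  omega

end Count

section Factors

variable {F : Type*} [Field F]

/-- Monic irreducible factors of the `r`-th cyclotomic polynomial. -/
def IsCycFactor (r : ℕ) (f : F[X]) : Prop := f.Monic ∧ Irreducible f ∧ f ∣ cyclotomic r F

variable {r : ℕ}

lemma IsCycFactor.dvd_X_pow_sub_one {f : F[X]} (hf : IsCycFactor r f) : f ∣ X ^ r - 1 :=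
  hf.2.2.trans (cyclotomic.dvd_X_pow_sub_one r F)

lemma IsCycFactor.ne_X_sub_one (p : ℕ) [Fact p.Prime] [CharP F p] (hr : r.Prime) (hrp : r ≠ p)
    {f : F[X]} (hf : IsCycFactor r f) : f ≠ X - 1 := by
  rintro rfl
  have h1 : (cyclotomic r F).eval 1 = 0 := by
    have h2 := hf.2.2
    rw [show (X - 1 : F[X]) = X - C 1 by simp, dvd_iff_isRoot] at h2
    exact h2
  have : Fact r.Prime := ⟨hr⟩
  rw [eval_one_cyclotomic_prime] at h1
  exact natCast_ne_zero_of_coprime p ((Nat.coprime_primes hr Fact.out).mpr hrp) h1

lemma irreducible_X_sub_one : Irreducible (X - 1 : F[X]) := by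
  have := irreducible_X_sub_C (1 : F)
  simpa using this

lemma monic_X_sub_one : (X - 1 : F[X]).Monic := by
  have := monic_X_sub_C (1 : F)
  simpa using this

/-- Unique factorisation: the cyclotomic part of `(X - 1)^c * s.prod` is `s`. -/
lemma normalizedFactors_cyc_prod (p : ℕ) [Fact p.Prime] [CharP F p] (hr : r.Prime) (hrp : r ≠ p)
    [DecidableEq F] (c : ℕ) (s : Multiset F[X]) (hs : ∀ f ∈ s, IsCycFactor r f) :
    (normalizedFactors ((X - 1 : F[X]) ^ c * s.prod)).filter (fun f => ¬ f = X - 1) = s := by
  have h1 : (X - 1 : F[X]) ^ c ≠ 0 := pow_ne_zero _ monic_X_sub_one.ne_zero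
  have h2 : s.prod ≠ 0 := Multiset.prod_ne_zero (fun h0 => (hs 0 h0).2.1.ne_zero rfl)
  rw [normalizedFactors_mul h1 h2, normalizedFactors_pow,
    normalizedFactors_irreducible irreducible_X_sub_one, monic_X_sub_one.normalize_eq_self,
    normalizedFactors_prod_eq s (fun f hf => (hs f hf).2.1), Multiset.filter_add]
  have h3 : (c • ({X - 1} : Multiset F[X])).filter (fun f => ¬ f = X - 1) = 0 := by
    rw [Multiset.filter_eq_nil]
    intro a ha
    rw [Multiset.nsmul_singleton] at ha
    simp only [not_not]
    exact Multiset.eq_of_mem_replicate ha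
  have h4 : (s.map normalize).filter (fun f => ¬ f = X - 1) = s := by
    have h5 : s.map normalize = s := by
      conv_rhs => rw [← Multiset.map_id s]
      exact Multiset.map_congr rfl (fun f hf => (hs f hf).1.normalize_eq_self)
    rw [h5, Multiset.filter_eq_self]
    intro f hf
    exact (hs f hf).ne_X_sub_one p hr hrp
  rw [h3, h4, zero_add]

lemma natDegree_cyc_prod {i : ℕ} (c : ℕ) (s : Multiset F[X])
    (hs : ∀ f ∈ s, f.Monic ∧ f.natDegree = i) :
    ((X - 1 : F[X]) ^ c * s.prod).natDegree = c + i * Multiset.card s := by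
  have hsm : s.prod.Monic := by
    have := monic_multiset_prod_of_monic s id (fun f hf => (hs f hf).1)
    simpa using this
  rw [(monic_X_sub_one.pow c).natDegree_mul hsm, monic_X_sub_one.natDegree_pow,
    natDegree_multiset_prod_of_monic s (fun f hf => (hs f hf).1)]
  have h1 : (X - 1 : F[X]).natDegree = 1 := by
    have := natDegree_X_sub_C (1 : F)
    simpa using this
  have h2 : s.map natDegree = s.map (fun _ => i) :=
    Multiset.map_congr rfl (fun f hf => (hs f hf).2)
  rw [h1, h2, Multiset.map_const', Multiset.sum_replicate, smul_eq_mul, mul_one, mul_comm]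

/-- The characteristic polynomial of a matrix with `M ^ r = 1`. -/
theorem charpoly_factors_of_pow_eq_one (p : ℕ) [Fact p.Prime] [CharP F p] {n : ℕ}
    (hr : r.Prime) (hrp : r ≠ p) (M : Matrix (Fin n) (Fin n) F) (hM : M ^ r = 1) :
    ∃ (c : ℕ) (s : Multiset F[X]), (∀ f ∈ s, IsCycFactor r f) ∧
      M.charpoly = (X - 1) ^ c * s.prod := by
  classical
  have hχ0 : M.charpoly ≠ 0 := (Matrix.charpoly_monic M).ne_zero
  obtain ⟨m, hm⟩ : ∃ m, m = normalizedFactors M.charpoly := ⟨_, rfl⟩
  have hmonic : ∀ f ∈ m, f.Monic := by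
    intro f hf
    rw [hm] at hf
    have h1 := normalize_normalized_factor f hf
    rw [← h1]
    exact monic_normalize (irreducible_of_normalized_factor f hf).ne_zero
  have hprod : m.prod = M.charpoly := by
    have h1 : Associated m.prod M.charpoly := hm ▸ prod_normalizedFactors hχ0
    have h2 : m.prod.Monic := by
      have := monic_multiset_prod_of_monic m id hmonic
      simpa using this
    exact eq_of_monic_of_associated h2 (Matrix.charpoly_monic M) h1
  have hrF : (r : F) ≠ 0 :=
    natCast_ne_zero_of_coprime p ((Nat.coprime_primes hr Fact.out).mpr hrp)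
  refine ⟨m.count (X - 1), m.filter (fun f => ¬ f = X - 1), ?_, ?_⟩
  · intro f hf
    rw [Multiset.mem_filter] at hf
    obtain ⟨hfm, hfne⟩ := hf
    have hfirr : Irreducible f := irreducible_of_normalized_factor f (hm ▸ hfm)
    have hfmonic : f.Monic := hmonic f hfm
    have hfdvd : f ∣ M.charpoly := dvd_of_mem_normalizedFactors (hm ▸ hfm)
    have hdvd : f ∣ X ^ r - 1 := by
      have hs : Module.End.IsSemisimple (Matrix.toLin' M) :=
        isSemisimple_toLin'_of_pow_eq_one M r hrF hM
      obtain ⟨w, hw, hfw⟩ := exists_ker_of_dvd_charpoly n (Fin n → F) (Matrix.toLin' M)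
        (by simp) hs f hfmonic hfirr (by rw [Matrix.charpoly_toLin']; exact hfdvd)
      by_contra hnd
      have hcop : IsCoprime f (X ^ r - 1) := (hfirr.coprime_iff_not_dvd).mpr hnd
      obtain ⟨a, b, hab⟩ := hcop
      have h2 := congrArg (fun P => aeval (Matrix.toLin' M) P w) hab
      simp only [map_add, map_mul, map_sub, map_pow, aeval_X, map_one, LinearMap.add_apply,
        Module.End.mul_apply] at h2
      rw [hfw, map_zero, ← Matrix.toLin'_pow, hM, Matrix.toLin'_one] at h2
      simp at h2
      exact hw h2.symm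
    have : Fact r.Prime := ⟨hr⟩
    rw [← cyclotomic_prime_mul_X_sub_one F r] at hdvd
    rcases hfirr.prime.dvd_or_dvd hdvd with h | h
    · exact ⟨hfmonic, hfirr, h⟩
    · exfalso
      apply hfne
      exact eq_of_monic_of_associated hfmonic monic_X_sub_one
        (hfirr.associated_of_dvd irreducible_X_sub_one h)
  · rw [← hprod]
    conv_lhs => rw [← Multiset.filter_add_not (fun f => f = X - 1) m]
    rw [Multiset.prod_add, Multiset.filter_eq', Multiset.prod_replicate]

/-- Products of cyclotomic factors are characteristic polynomials of matrices with `M^r = 1`. -/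
theorem exists_matrix_of_factors [Finite F] (p : ℕ) [Fact p.Prime] [CharP F p] (hr : r.Prime)
    {n : ℕ} (c : ℕ) (s : Multiset F[X]) (hs : ∀ f ∈ s, IsCycFactor r f)
    (hdeg : ((X - 1 : F[X]) ^ c * s.prod).natDegree = n) :
    ∃ M : Matrix (Fin n) (Fin n) F, M.charpoly = (X - 1) ^ c * s.prod ∧ M ^ r = 1 := by
  classical
  obtain ⟨P, hP⟩ : ∃ P : F[X], P = (X - 1) ^ c * s.prod := ⟨_, rfl⟩
  have hsm : s.prod.Monic := by
    have := monic_multiset_prod_of_monic s id (fun f hf => (hs f hf).1)
    simpa using this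
  have hPm : P.Monic := by rw [hP]; exact (monic_X_sub_one.pow c).mul hsm
  have h1dvd : (X - 1 : F[X]) ∣ X ^ r - 1 := by
    have : Fact r.Prime := ⟨hr⟩
    exact Dvd.intro_left _ (cyclotomic_prime_mul_X_sub_one F r)
  have hPdvd : P ∣ (X ^ r - 1) ^ (c + Multiset.card s) := by
    rw [hP, pow_add]
    apply mul_dvd_mul (pow_dvd_pow_of_dvd h1dvd c)
    have := Multiset.prod_dvd_prod_of_dvd (S := s) id (fun _ => (X ^ r - 1 : F[X]))
      (fun f hf => (hs f hf).dvd_X_pow_sub_one)
    simpa using this
  have hP0 : P.coeff 0 ≠ 0 := by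
    intro h0
    have hX : (X : F[X]) ∣ P := X_dvd_iff.mpr h0
    have h3 := hX.trans hPdvd
    rw [X_dvd_iff, coeff_zero_eq_eval_zero] at h3
    simp [hr.ne_zero] at h3
  obtain ⟨M, hM, k, hk, hkp, hMk⟩ := exists_matrix_coeffVec p (fun j : Fin n => P.coeff j)
    (fun _ => hP0)
  have hMc : M.charpoly = P := by
    apply eq_of_monic_of_coeff_eq (n := n) (Matrix.charpoly_monic M) hPm (by simp)
      (by rw [hP]; exact hdeg)
    intro j hj
    exact congrFun hM ⟨j, hj⟩
  refine ⟨M, by rw [hMc, hP], ?_⟩
  have hkF : (k : F) ≠ 0 := natCast_ne_zero_of_coprime p hkp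
  have hμdvd : minpoly F M ∣ X ^ k - C (1 : F) := by
    apply minpoly.dvd
    rw [map_sub, map_pow, aeval_X, aeval_C, hMk, map_one, sub_self]
  have hsq : Squarefree (minpoly F M) :=
    (separable_X_pow_sub_C 1 hkF one_ne_zero).squarefree.squarefree_of_dvd hμdvd
  have hμ2 : minpoly F M ∣ (X ^ r - 1) ^ (c + Multiset.card s) :=
    (Matrix.minpoly_dvd_charpoly M).trans (hMc ▸ hPdvd)
  have hμ3 : minpoly F M ∣ X ^ r - 1 := by
    rcases Nat.eq_zero_or_pos (c + Multiset.card s) with h0 | hpos
    · rw [h0, pow_zero] at hμ2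
      exact hμ2.trans (one_dvd _)
    · exact (hsq.dvd_pow_iff_dvd hpos.ne').mp hμ2
  obtain ⟨w, hw⟩ := hμ3
  have h4 := congrArg (aeval M) hw
  rw [map_mul, minpoly.aeval, zero_mul, map_sub, map_pow, aeval_X, map_one, sub_eq_zero] at h4
  exact h4

end Factors

section GLPrime

variable {F : Type*} [Field F]

lemma eq_one_of_charpoly_eq (p : ℕ) [Fact p.Prime] [CharP F p] {r : ℕ} (hr : r.Prime)
    (hrp : r ≠ p) {n : ℕ} (M : Matrix (Fin n) (Fin n) F) (hM : M ^ r = 1) (c : ℕ)
    (hc : M.charpoly = (X - 1) ^ c) : M = 1 := by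
  have : Fact r.Prime := ⟨hr⟩
  have h0 : aeval M ((X - 1 : F[X]) ^ c) = 0 := hc ▸ Matrix.aeval_self_charpoly M
  have hnd : ¬ (X - 1 : F[X]) ∣ cyclotomic r F := by
    intro h2
    rw [show (X - 1 : F[X]) = X - C 1 by simp, dvd_iff_isRoot] at h2
    have h1 : (cyclotomic r F).eval 1 = 0 := h2
    rw [eval_one_cyclotomic_prime] at h1
    exact natCast_ne_zero_of_coprime p ((Nat.coprime_primes hr Fact.out).mpr hrp) h1
  have hcop : IsCoprime (cyclotomic r F) ((X - 1 : F[X]) ^ c) :=
    IsCoprime.pow_right (IsCoprime.symm ((irreducible_X_sub_one.coprime_iff_not_dvd).mpr hnd))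
  obtain ⟨a, b, hab⟩ := hcop
  have h1 : a * (X ^ r - 1) + b * (X - 1) ^ c * (X - 1) = (X - 1 : F[X]) := by
    rw [← cyclotomic_prime_mul_X_sub_one F r]
    linear_combination (X - 1) * hab
  have h0' : (M - 1) ^ c = 0 := by simpa using h0
  have h2 := congrArg (aeval M) h1
  simp only [map_add, map_mul, map_sub, map_pow, aeval_X, map_one] at h2
  rw [h0', hM, sub_self, mul_zero, mul_zero, zero_mul, add_zero] at h2
  exact sub_eq_zero.mp h2.symm

variable [Fintype F]

lemma IsCycFactor.natDegree_eq {p q : ℕ} [Fact p.Prime] [CharP F p] (hF : Fintype.card F = q)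
    {r : ℕ} (hr : r.Prime) (hrp : r ≠ p) {f : F[X]} (hf : IsCycFactor r f) :
    f.natDegree = orderOf (q : ZMod r) := by
  obtain ⟨k, -, hk⟩ := FiniteField.card F p
  have hcop : p.Coprime r := (Nat.coprime_primes Fact.out hr).mpr (Ne.symm hrp)
  rw [natDegree_of_dvd_cyclotomic_of_irreducible hk hcop hf.2.2 hf.2.1, ← orderOf_units,
    ZMod.coe_unitOfCoprime, ← hk, hF]

lemma card_isCycFactor {p q : ℕ} [Fact p.Prime] [CharP F p] (hF : Fintype.card F = q)
    {r : ℕ} (hr : r.Prime) (hrp : r ≠ p) :
    Finite {f : F[X] // IsCycFactor r f} ∧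
      Nat.card {f : F[X] // IsCycFactor r f} = (r - 1) / orderOf (q : ZMod r) := by
  classical
  obtain ⟨k, -, hk⟩ := FiniteField.card F p
  have hcop : p.Coprime r := (Nat.coprime_primes Fact.out hr).mpr (Ne.symm hrp)
  have e : {f : F[X] // IsCycFactor r f} ≃ ↥(normalizedFactors (cyclotomic r F)).toFinset :=
    Equiv.subtypeEquivRight (fun f => by
      rw [Multiset.mem_toFinset, mem_normalizedFactors_iff' (cyclotomic_ne_zero r F)]
      constructor
      · rintro ⟨h1, h2, h3⟩
        exact ⟨h2, h1.normalize_eq_self, h3⟩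
      · rintro ⟨h1, h2, h3⟩
        exact ⟨h2 ▸ monic_normalize h1.ne_zero, h1, h3⟩)
  refine ⟨Finite.of_equiv _ e.symm, ?_⟩
  rw [Nat.card_congr e, Nat.card_eq_fintype_card, Fintype.card_coe,
    normalizedFactors_cyclotomic_card hk hcop, Nat.totient_prime hr, ← orderOf_units,
    ZMod.coe_unitOfCoprime, ← hk, hF]

/-- The number of classes of elements of prime order `r ≠ p` in `GL_n(q)`. -/
theorem gl_card_prime_order_classes {p q : ℕ} [Fact p.Prime] [CharP F p]
    (hF : Fintype.card F = q) (n r i t : ℕ) (hr : r.Prime) (hrp : r ≠ p)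
    (hi : i = orderOf (q : ZMod r)) (ht : t * i = r - 1) :
    Nat.card {C : ConjClasses (GL (Fin n) F) //
      ∃ g : GL (Fin n) F, ConjClasses.mk g = C ∧ orderOf g = r} = Nat.choose (n / i + t) t - 1 := by
  classical
  have hcopr : r.Coprime p := (Nat.coprime_primes hr Fact.out).mpr hrp
  have hfact : Fact r.Prime := ⟨hr⟩
  have hipos : 0 < i := by
    rcases Nat.eq_zero_or_pos i with h0 | h
    · rw [h0, mul_zero] at ht
      have := hr.two_le
      omega
    · exact h
  obtain ⟨hfinα, hcardα⟩ := card_isCycFactor hF hr hrp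
  rw [← hi] at hcardα
  have hcardα' : Nat.card {f : F[X] // IsCycFactor r f} = t := by
    rw [hcardα, ← ht, Nat.mul_div_cancel _ hipos]
  have hdegα : ∀ f : F[X], IsCycFactor r f → f.Monic ∧ f.natDegree = i :=
    fun f hf => ⟨hf.1, by rw [hi]; exact hf.natDegree_eq hF hr hrp⟩
  rw [card_classes_eq (fun g : GL (Fin n) F => orderOf g = r)
    (fun g => (g : Matrix (Fin n) (Fin n) F).charpoly)
    (fun g h hc => charpoly_eq_of_coeffVec_eq (gl_coeffVec_eq_of_isConj g h hc))
    (fun g h hg hh hc => gl_isConj_of_coeffVec_eq p g h (hg ▸ hcopr) (hh ▸ hcopr)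
      (coeffVec_eq_of_charpoly_eq hc))
    (fun f => ∃ g : GL (Fin n) F, orderOf g = r ∧ (g : Matrix (Fin n) (Fin n) F).charpoly = f)
    (fun f => Iff.rfl)]
  rw [← hcardα', ← card_multiset_pos_le {f : F[X] // IsCycFactor r f} i n hipos]
  symm
  have hval : ∀ s : Multiset {f : F[X] // IsCycFactor r f}, ∀ f ∈ s.map Subtype.val,
      IsCycFactor r f := by
    intro s f hf
    obtain ⟨a, -, rfl⟩ := Multiset.mem_map.mp hf
    exact a.2
  have hex : ∀ s : {s : Multiset {f : F[X] // IsCycFactor r f} //
        0 < Multiset.card s ∧ i * Multiset.card s ≤ n},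
      ∃ g : GL (Fin n) F, orderOf g = r ∧ (g : Matrix (Fin n) (Fin n) F).charpoly
        = (X - 1) ^ (n - i * Multiset.card s.1) * (s.1.map Subtype.val).prod := by
    rintro ⟨s, hs0, hsn⟩
    have hdeg : ((X - 1 : F[X]) ^ (n - i * Multiset.card s)
        * (s.map Subtype.val).prod).natDegree = n := by
      rw [natDegree_cyc_prod _ _ (fun f hf => hdegα f (hval s f hf)), Multiset.card_map]
      omega
    obtain ⟨M, hMc, hMr⟩ := exists_matrix_of_factors p hr _ _ (hval s) hdeg
    have hM1 : M ≠ 1 := by
      rintro rfl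
      rw [Matrix.charpoly_one, Fintype.card_fin] at hMc
      have h1 := normalizedFactors_cyc_prod p hr hrp n (0 : Multiset F[X]) (by simp)
      have h2 := normalizedFactors_cyc_prod p hr hrp (n - i * Multiset.card s)
        (s.map Subtype.val) (hval s)
      rw [← hMc] at h2
      rw [Multiset.prod_zero, mul_one] at h1
      rw [h1] at h2
      have h3 : Multiset.card s = 0 := by
        rw [← Multiset.card_map Subtype.val, ← h2]; rfl
      omega
    refine ⟨Units.ofPowEqOne M r hMr hr.ne_zero, ?_, hMc⟩
    apply orderOf_eq_prime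
    · exact Units.pow_ofPowEqOne hMr hr.ne_zero
    · intro h
      apply hM1
      have := congrArg Units.val h
      simpa using this
  apply Nat.card_congr
  apply Equiv.ofBijective (fun s => (⟨_, hex s⟩ : {f : F[X] // ∃ g : GL (Fin n) F,
    orderOf g = r ∧ (g : Matrix (Fin n) (Fin n) F).charpoly = f}))
  constructor
  · rintro ⟨s, hs0, hsn⟩ ⟨s', hs0', hsn'⟩ h
    have h1 : (X - 1 : F[X]) ^ (n - i * Multiset.card s) * (s.map Subtype.val).prod
        = (X - 1) ^ (n - i * Multiset.card s') * (s'.map Subtype.val).prod :=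
      congrArg Subtype.val h
    have h2 := normalizedFactors_cyc_prod p hr hrp (n - i * Multiset.card s) _ (hval s)
    have h3 := normalizedFactors_cyc_prod p hr hrp (n - i * Multiset.card s') _ (hval s')
    rw [h1, h3] at h2
    apply Subtype.ext
    exact (Multiset.map_injective Subtype.val_injective h2).symm
  · rintro ⟨f, g, hg, rfl⟩
    have hgr : (g : Matrix (Fin n) (Fin n) F) ^ r = 1 := by
      rw [← Units.val_pow_eq_pow_val, ← hg, pow_orderOf_eq_one]; rfl
    obtain ⟨c, s₀, hs₀, hc⟩ := charpoly_factors_of_pow_eq_one p hr hrp _ hgr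
    obtain ⟨s, hs⟩ : ∃ s : Multiset {f : F[X] // IsCycFactor r f}, s.map Subtype.val = s₀ :=
      ⟨s₀.pmap (fun f hf => ⟨f, hf⟩) hs₀, by
        rw [Multiset.map_pmap]
        exact (Multiset.pmap_eq_map _ _ _ _).trans (Multiset.map_id _)⟩
    have hdeg : n = c + i * Multiset.card s := by
      have h1 := natDegree_cyc_prod c s₀ (fun f hf => hdegα f (hs₀ f hf))
      rw [← hc, Matrix.charpoly_natDegree_eq_dim, Fintype.card_fin, ← hs, Multiset.card_map] at h1
      exact h1
    have hs0 : 0 < Multiset.card s := by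
      rw [Multiset.card_pos]
      rintro rfl
      rw [Multiset.map_zero] at hs
      subst hs
      rw [Multiset.prod_zero, mul_one] at hc
      have h1 := eq_one_of_charpoly_eq p hr hrp _ hgr c hc
      have h2 : g = 1 := Units.ext h1
      rw [h2, orderOf_one] at hg
      exact hr.one_lt.ne hg
    refine ⟨⟨s, hs0, by omega⟩, ?_⟩
    apply Subtype.ext
    simp only
    rw [hs, hc]
    congr 2
    omega

end GLPrime

end Cfsg.Agent.Lib.Helper47
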