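import Mathlib
import Cfsg.Agent.Lib.Helper48.QADefs

/-! Project QA (helper48, S2787): piece `QA-BNC` (backup copy `QABNCb`, by helper47):
in a finite subgroup of `SL₂(F)` (odd characteristic `p`) without elements of order 4, the
normaliser of a Sylow `r`-subgroup (`r ≠ p`) centralises it. -/

set_option autoImplicit false

namespace Cfsg.Agent.Lib.Helper48.QA

open Matrix Polynomial

local notation "SL2" F => Matrix.SpecialLinearGroup (Fin 2) F
local notation "M2" F => Matrix (Fin 2) (Fin 2) F

/-- a 2-element none of whose powers has order 4 squares to 1 -/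
theorem BNCb_two_elt {G : Type*} [Group G] (t : G) (k : ℕ) (ht : t ^ (2 ^ k) = 1)
    (h4 : ∀ j : ℕ, orderOf (t ^ j) ≠ 4) : t * t = 1 := by
  have hdvd : orderOf t ∣ 2 ^ k := orderOf_dvd_of_pow_eq_one ht
  obtain ⟨j, -, hj⟩ := (Nat.dvd_prime_pow Nat.prime_two).mp hdvd
  by_cases hj1 : j ≤ 1
  · have h2 : orderOf t ∣ 2 := by
      rw [hj]
      calc 2 ^ j ∣ 2 ^ 1 := pow_dvd_pow 2 hj1
        _ = 2 := by norm_num
    rw [← pow_two]; exact orderOf_dvd_iff_pow_eq_one.mp h2
  · exfalso
    push_neg at hj1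
    have h2 : 2 ^ (j - 2) ∣ orderOf t := by rw [hj]; exact pow_dvd_pow 2 (by omega)
    have h3 := orderOf_pow_of_dvd (x := t) (n := 2 ^ (j - 2)) (by positivity) h2
    apply h4 (2 ^ (j - 2))
    rw [h3, hj]
    have h5 : 2 ^ j = 2 ^ (j - 2) * 4 := by
      have h6 : j = (j - 2) + 2 := by omega
      conv_lhs => rw [h6, pow_add]
      norm_num
    rw [h5]; exact Nat.mul_div_cancel_left 4 (by positivity)

/-- polynomials of degree ≤ 1 in the same matrix commute -/
theorem BNCb_lin_comm {F : Type*} [Field F] (C : M2 F) (a b a' b' : F) :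
    (a • (1 : M2 F) + b • C) * (a' • (1 : M2 F) + b' • C)
      = (a' • (1 : M2 F) + b' • C) * (a • (1 : M2 F) + b • C) := by
  have h : Commute (a • (1 : M2 F) + b • C) (a' • (1 : M2 F) + b' • C) :=
    ((((Commute.one_left (1 : M2 F)).smul_right a').add_right
        ((Commute.one_left C).smul_right b')).smul_left a).add_left
      ((((Commute.one_right C).smul_right a').add_right
        ((Commute.refl C).smul_right b')).smul_left b)
  exact h.eq

/-- QA-BNC -/
theorem normalizer_le_centralizer {F : Type*} [Field F] {p : ℕ} [Fact p.Prime] [CharP F p]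
    (hp2 : p ≠ 2) (S : Subgroup (SL2 F)) [Finite S] (h4 : ∀ s ∈ S, orderOf s ≠ 4)
    (hinv : ∀ g : SL2 F, g * g = 1 → (g : M2 F) = 1 ∨ (g : M2 F) = -1)
    (hcent : ∀ c g : SL2 F, (¬ ∃ a : F, (c : M2 F) = a • (1 : M2 F)) → g * c = c * g →
      ∃ a b : F, (g : M2 F) = a • (1 : M2 F) + b • (c : M2 F))
    (htr : ∀ (c d : SL2 F) (a b : F), (d : M2 F) = a • (1 : M2 F) + b • (c : M2 F) →
      Matrix.trace (d : M2 F) = Matrix.trace (c : M2 F) → Matrix.trace (c : M2 F) ^ 2 ≠ 4 →
      d = c ∨ d = c⁻¹)
    (hord : ∀ c : SL2 F, c ≠ 1 → IsOfFinOrder c → Nat.Coprime (orderOf c) (2 * p) →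
      Matrix.trace (c : M2 F) ^ 2 ≠ 4)
    (r : ℕ) [Fact r.Prime] (hr : r ≠ p) (R : Sylow r S) :
    Subgroup.normalizer (R : Set S) ≤ Subgroup.centralizer (R : Set S) := by
  classical
  -- (a) 2-elements of `S` are central in `SL₂`
  have hA : ∀ t : SL2 F, t ∈ S → ∀ k : ℕ, t ^ (2 ^ k) = 1 → ∀ y : SL2 F, t * y = y * t := by
    intro t htS k htk y
    have htt : t * t = 1 := BNCb_two_elt t k htk (fun j => h4 _ (S.pow_mem htS j))
    apply Subtype.ext
    rw [Matrix.SpecialLinearGroup.coe_mul, Matrix.SpecialLinearGroup.coe_mul]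
    rcases hinv t htt with h | h
    · rw [h, Matrix.one_mul, Matrix.mul_one]
    · rw [h, Matrix.neg_mul, Matrix.mul_neg, Matrix.one_mul, Matrix.mul_one]
  intro g hg
  rw [Subgroup.mem_centralizer_iff]
  intro x hx
  have hxR : x ∈ (R : Subgroup S) := hx
  by_cases hr2 : r = 2
  · subst hr2
    obtain ⟨k, hk⟩ := R.isPGroup' ⟨x, hxR⟩
    have hxk : (x : SL2 F) ^ (2 ^ k) = 1 := by
      have h1 := congrArg (fun z : (R : Subgroup S) => ((z : S) : SL2 F)) hk
      simpa using h1
    have h2 := hA (x : SL2 F) x.2 k hxk (g : SL2 F)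
    exact Subtype.ext h2
  · by_cases hbot : (R : Subgroup S) = ⊥
    · have hx1 : x = 1 := by rw [hbot] at hxR; exact Subgroup.mem_bot.mp hxR
      rw [hx1]; simp
    · haveI : Nontrivial (R : Subgroup S) := (Subgroup.nontrivial_iff_ne_bot _).mpr hbot
      haveI hcen : Nontrivial (Subgroup.center (R : Subgroup S)) :=
        IsPGroup.center_nontrivial R.isPGroup'
      obtain ⟨c0, hc0⟩ := exists_ne (1 : Subgroup.center (R : Subgroup S))
      -- the tower: `c0 : center R`, `cR : R`, `cS : S`, `c : SL₂`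
      let cR : (R : Subgroup S) := c0.1
      have hcR : cR ∈ Subgroup.center (R : Subgroup S) := c0.2
      have hcR1 : cR ≠ 1 := fun h => hc0 (Subtype.ext h)
      let cS : S := cR.1
      have hcS : cS ∈ (R : Subgroup S) := cR.2
      let c : SL2 F := cS.1
      have hc1 : c ≠ 1 := by
        intro h
        apply hcR1
        apply Subtype.ext
        apply Subtype.ext
        exact h
      -- `c` is central in `R`
      have hcentral : ∀ y : S, y ∈ (R : Subgroup S) → (y : SL2 F) * c = c * (y : SL2 F) := by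
        intro y hy
        have h1 := (Subgroup.mem_center_iff.mp hcR) ⟨y, hy⟩
        have h2 := congrArg (fun z : (R : Subgroup S) => ((z : S) : SL2 F)) h1
        simpa using h2
      -- order of `c`
      obtain ⟨i, hi⟩ := (IsPGroup.iff_orderOf.mp R.isPGroup') cR
      have hoc : orderOf c = r ^ i := by
        rw [← hi]
        show orderOf ((cR : S) : SL2 F) = orderOf cR
        rw [Subgroup.orderOf_coe, Subgroup.orderOf_coe]
      have hi0 : i ≠ 0 := by
        intro h
        rw [h, pow_zero] at hoc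
        exact hc1 (orderOf_eq_one_iff.mp hoc)
      have hrp : (Fact.out : r.Prime) = (Fact.out : r.Prime) := rfl
      have hrprime : r.Prime := Fact.out
      have hpprime : p.Prime := Fact.out
      have hcc : c * c ≠ 1 := by
        intro h
        have h1 : orderOf c ∣ 2 := orderOf_dvd_of_pow_eq_one (by rw [pow_two]; exact h)
        rw [hoc] at h1
        have h2 : r ∣ 2 := (dvd_pow_self r hi0).trans h1
        exact hr2 ((Nat.prime_dvd_prime_iff_eq hrprime Nat.prime_two).mp h2)
      have hcop : Nat.Coprime (orderOf c) (2 * p) := by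
        rw [hoc]
        apply Nat.Coprime.pow_left
        exact Nat.Coprime.mul_right ((Nat.coprime_primes hrprime Nat.prime_two).mpr hr2)
          ((Nat.coprime_primes hrprime hpprime).mpr hr)
      have hfin : IsOfFinOrder c := by
        rw [← orderOf_pos_iff, hoc]; exact pow_pos hrprime.pos i
      have hτ : Matrix.trace (c : M2 F) ^ 2 ≠ 4 := hord c hc1 hfin hcop
      have hns : ¬ ∃ a : F, (c : M2 F) = a • (1 : M2 F) := by
        rintro ⟨a, ha⟩
        have hdet : (c : M2 F).det = 1 := c.2
        rw [ha, Matrix.det_smul, Matrix.det_one, Fintype.card_fin, mul_one] at hdet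
        apply hcc
        apply Subtype.ext
        rw [Matrix.SpecialLinearGroup.coe_mul, ha, Matrix.smul_mul, Matrix.one_mul, smul_smul,
          ← pow_two, hdet, one_smul]
        rfl
      -- `g` commutes with `c`
      have hgc : (g : SL2 F) * c = c * (g : SL2 F) := by
        have hdS : g * cS * g⁻¹ ∈ (R : Subgroup S) :=
          (Subgroup.mem_normalizer_iff.mp hg cS).mp hcS
        have hdc := hcentral (g * cS * g⁻¹) hdS
        have hdc' : ((g : SL2 F) * c * (g : SL2 F)⁻¹) * c = c * ((g : SL2 F) * c * (g : SL2 F)⁻¹) := by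
          simpa using hdc
        have htrace : Matrix.trace (((g : SL2 F) * c * (g : SL2 F)⁻¹ : SL2 F) : M2 F)
            = Matrix.trace (c : M2 F) := by
          rw [Matrix.SpecialLinearGroup.coe_mul, Matrix.SpecialLinearGroup.coe_mul,
            Matrix.trace_mul_cycle, ← Matrix.SpecialLinearGroup.coe_mul, inv_mul_cancel,
            Matrix.SpecialLinearGroup.coe_one, Matrix.one_mul]
        obtain ⟨a, b, hab⟩ := hcent c _ hns hdc'
        rcases htr c _ a b hab htrace hτ with hd | hd
        · exact mul_inv_eq_iff_eq_mul.mp hd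
        · exfalso
          have hG : (g : SL2 F) * c = c⁻¹ * (g : SL2 F) := mul_inv_eq_iff_eq_mul.mp hd
          have hG2 : Commute ((g : SL2 F) * (g : SL2 F)) c⁻¹ := by
            have e1 : (g : SL2 F) * c⁻¹ = c * (g : SL2 F) := by
              rw [mul_inv_eq_iff_eq_mul, mul_assoc, hG, mul_inv_cancel_left]
            show (g : SL2 F) * (g : SL2 F) * c⁻¹ = c⁻¹ * ((g : SL2 F) * (g : SL2 F))
            rw [mul_assoc, e1, ← mul_assoc, hG, mul_assoc]
          have hm : orderOf (g : SL2 F) ≠ 0 := by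
            rw [Subgroup.orderOf_coe]; exact (orderOf_pos g).ne'
          obtain ⟨k, n, hn, hkn⟩ := Nat.exists_eq_two_pow_mul_odd hm
          obtain ⟨j, rfl⟩ := hn
          have htk : ((g : SL2 F) ^ (2 * j + 1)) ^ (2 ^ k) = 1 := by
            rw [← pow_mul, mul_comm, ← hkn, pow_orderOf_eq_one]
          have htc := hA ((g : SL2 F) ^ (2 * j + 1)) (S.pow_mem g.2 _) k htk c
          have ht2 : (g : SL2 F) ^ (2 * j + 1) * c = c⁻¹ * (g : SL2 F) ^ (2 * j + 1) := by
            have e2 : (g : SL2 F) ^ (2 * j + 1) = ((g : SL2 F) * (g : SL2 F)) ^ j * (g : SL2 F) := by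
              rw [pow_succ, pow_mul, pow_two]
            rw [e2, mul_assoc, hG, ← mul_assoc, (hG2.pow_left j).eq, mul_assoc]
          rw [ht2] at htc
          have h3 : c⁻¹ = c := mul_right_cancel htc
          apply hcc
          nth_rewrite 1 [← h3]
          exact inv_mul_cancel c
      have hxc : (x : SL2 F) * c = c * (x : SL2 F) := hcentral x hxR
      obtain ⟨a, b, hgab⟩ := hcent c (g : SL2 F) hns hgc
      obtain ⟨a', b', hxab⟩ := hcent c (x : SL2 F) hns hxc
      apply Subtype.ext
      apply Subtype.ext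
      show ((x : SL2 F) * (g : SL2 F) : SL2 F).1 = ((g : SL2 F) * (x : SL2 F) : SL2 F).1
      rw [Matrix.SpecialLinearGroup.coe_mul, Matrix.SpecialLinearGroup.coe_mul]
      show (x : SL2 F).1 * (g : SL2 F).1 = (g : SL2 F).1 * (x : SL2 F).1
      have hgab' : (g : SL2 F).1 = a • (1 : M2 F) + b • (c : M2 F) := hgab
      have hxab' : (x : SL2 F).1 = a' • (1 : M2 F) + b' • (c : M2 F) := hxab
      rw [hgab', hxab']
      exact BNCb_lin_comm _ _ _ _ _

end Cfsg.Agent.Lib.Helper48.QA
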