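import Mathlib
import Cfsg.Prelude.Def_LieTypeChar

/-!
# S2363 project: definitions and the arithmetic core

`|G| < p^(3k)` and `|G|^3 < p^(8k)` for groups of Lie type in characteristic `p`, `p^k` the
`p`-part of `|G|`.
-/

set_option autoImplicit false

namespace Cfsg.Agent.Lib.Helper47.S63

/-- The conclusion of S2363. -/
def Concl (p : ℕ) (G : Type*) [Group G] : Prop :=
  Nat.card G < p ^ (3 * (Nat.card G).factorization p) ∧
    ((¬ ∃ (F : Type) (_ : Field F) (_ : Fintype F),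
        Fintype.card F = p ^ (Nat.card G).factorization p ∧
          Nonempty (G ≃* Matrix.ProjectiveSpecialLinearGroup (Fin 2) F)) →
      Nat.card G ^ 3 < p ^ (8 * (Nat.card G).factorization p))

/-- The strong form of the conclusion (no exception). -/
def Strong (p N : ℕ) : Prop :=
  N < p ^ (3 * N.factorization p) ∧ N ^ 3 < p ^ (8 * N.factorization p)

lemma concl_of_strong {p : ℕ} {G : Type*} [Group G] (h : Strong p (Nat.card G)) : Concl p G :=
  ⟨h.1, fun _ => h.2⟩

/-- Arithmetic core: `dd * N = q^a * R` with `q = p^f`, `p ∤ dd`, `p ∤ R`, `R < q^b`. -/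
theorem core {p f a b dd N R : ℕ} (hp : p.Prime) (hN : 0 < N) (hd : ¬ p ∣ dd) (hR : ¬ p ∣ R)
    (heq : dd * N = (p ^ f) ^ a * R) (hRlt : R < (p ^ f) ^ b) :
    N.factorization p = f * a ∧ (b ≤ 2 * a → N < p ^ (3 * N.factorization p)) ∧
      (3 * b ≤ 5 * a → N ^ 3 < p ^ (8 * N.factorization p)) := by
  have hdd : dd ≠ 0 := by
    rintro rfl
    exact hd (dvd_zero p)
  have hR0 : R ≠ 0 := by
    rintro rfl
    exact hR (dvd_zero p)
  have hq : 0 < p ^ f := pos_of_ne_zero (pow_ne_zero _ hp.ne_zero)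
  have hfac : N.factorization p = f * a := by
    have h1 : (dd * N).factorization p = N.factorization p := by
      rw [Nat.factorization_mul hdd hN.ne', Finsupp.add_apply,
        Nat.factorization_eq_zero_of_not_dvd hd, zero_add]
    have h2 : ((p ^ f) ^ a * R).factorization p = f * a := by
      rw [Nat.factorization_mul (pow_ne_zero _ hq.ne') hR0, Finsupp.add_apply,
        Nat.factorization_eq_zero_of_not_dvd hR, add_zero, ← pow_mul,
        Nat.Prime.factorization_pow hp, Finsupp.single_eq_same]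
    rw [← h1, heq, h2]
  have hlt : N < (p ^ f) ^ (a + b) := by
    have h1 : N ≤ dd * N := Nat.le_mul_of_pos_left N (Nat.pos_of_ne_zero hdd)
    have h2 : (p ^ f) ^ a * R < (p ^ f) ^ a * (p ^ f) ^ b :=
      Nat.mul_lt_mul_of_pos_left hRlt (pow_pos hq a)
    rw [pow_add]
    omega
  refine ⟨hfac, fun hb => ?_, fun hb => ?_⟩
  · rw [hfac]
    calc N < (p ^ f) ^ (a + b) := hlt
      _ ≤ (p ^ f) ^ (3 * a) := Nat.pow_le_pow_right hq (by omega)
      _ = p ^ (3 * (f * a)) := by rw [← pow_mul]; congr 1; ring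
  · rw [hfac]
    calc N ^ 3 < ((p ^ f) ^ (a + b)) ^ 3 := Nat.pow_lt_pow_left hlt (by norm_num)
      _ = (p ^ f) ^ (3 * (a + b)) := by rw [← pow_mul]; congr 1; ring
      _ ≤ (p ^ f) ^ (8 * a) := Nat.pow_le_pow_right hq (by omega)
      _ = p ^ (8 * (f * a)) := by rw [← pow_mul]; congr 1; ring

/-- Strong form from the core. -/
theorem strong_of_core {p f a b dd N R : ℕ} (hp : p.Prime) (hN : 0 < N) (hd : ¬ p ∣ dd)
    (hR : ¬ p ∣ R) (heq : dd * N = (p ^ f) ^ a * R) (hRlt : R < (p ^ f) ^ b)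
    (hb : 3 * b ≤ 5 * a) : Strong p N := by
  obtain ⟨-, h1, h2⟩ := core hp hN hd hR heq hRlt
  exact ⟨h1 (by omega), h2 hb⟩

/-- Weak core: `q^a ∣ N` and `N < q^c` with `3c ≤ 8a`. -/
theorem strong_of_weak {p f a c N : ℕ} (hp : p.Prime) (hN : 0 < N) (hdiv : (p ^ f) ^ a ∣ N)
    (hlt : N < (p ^ f) ^ c) (hc : 3 * c ≤ 8 * a) : Strong p N := by
  have hq : 0 < p ^ f := pos_of_ne_zero (pow_ne_zero _ hp.ne_zero)
  have hfac : f * a ≤ N.factorization p := by
    rw [← pow_mul] at hdiv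
    exact (Nat.Prime.pow_dvd_iff_le_factorization hp hN.ne').mp hdiv
  constructor
  · calc N < (p ^ f) ^ c := hlt
      _ ≤ (p ^ f) ^ (3 * a) := Nat.pow_le_pow_right hq (by omega)
      _ = p ^ (3 * (f * a)) := by rw [← pow_mul]; congr 1; ring
      _ ≤ p ^ (3 * N.factorization p) := Nat.pow_le_pow_right hp.pos (by omega)
  · calc N ^ 3 < ((p ^ f) ^ c) ^ 3 := Nat.pow_lt_pow_left hlt (by norm_num)
      _ = (p ^ f) ^ (3 * c) := by rw [← pow_mul]; congr 1; ring
      _ ≤ (p ^ f) ^ (8 * a) := Nat.pow_le_pow_right hq (by omega)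
      _ = p ^ (8 * (f * a)) := by rw [← pow_mul]; congr 1; ring
      _ ≤ p ^ (8 * N.factorization p) := Nat.pow_le_pow_right hp.pos (by omega)

end Cfsg.Agent.Lib.Helper47.S63
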