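import Mathlib
import Cfsg.Prelude.Def_ClassicalGeometry
import Cfsg.Prelude.Def_GeometricClasses

/-!
# S5975 project: definitions

Elements of prime order of `Sp_{2d}(q)` and the normalisers of the field subalgebras of
symplectic type (field-extension subgroups `Sp_{2d/k}(q^k).k`).
-/

set_option autoImplicit false

universe u

namespace Cfsg.Agent.Lib.Helper47.S75

open Matrix

/-- The hypotheses of S5975 on the subalgebra `K`: a field of degree `k`, all of whose elements
are self-adjoint for the standard alternating form `f` and satisfy `f (a v) v = 0`. -/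
structure Valid {F : Type u} [Field F] (d k : ℕ)
    (K : Subalgebra F (Matrix (Fin d ⊕ Fin d) (Fin d ⊕ Fin d) F)) : Prop where
  fld : Cfsg.Geo.IsFieldSubalgebra k K
  sa : Cfsg.Geo.IsSelfAdjointFor (Cfsg.sympForm d F) K
  alt : ∀ a ∈ K, ∀ v : Fin d ⊕ Fin d → F, Cfsg.sympForm d F (a *ᵥ v) v = 0

/-- The order of `Sp_{2m}(Q)`. -/
def spOrd (Q m : ℕ) : ℕ := Q ^ (m ^ 2) * ∏ i ∈ Finset.range m, (Q ^ (2 * (i + 1)) - 1)

end Cfsg.Agent.Lib.Helper47.S75
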