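import Cfsg.Agent.Lib.Helper47.FormConj
import Cfsg.Agent.Lib.Helper47.SemiConjMat

/-!
# Semisimple elements of `Sp_{2n}(q)` with the same characteristic polynomial are conjugate
-/

set_option autoImplicit false

namespace Cfsg.Agent.Lib.Helper47

open Polynomial Module Matrix

section Sp

variable {F : Type*} [Field F] {l : Type*} [Fintype l] [DecidableEq l]

/-- The standard symplectic form `x ⬝ (J y)`. -/
def spForm (l : Type*) (F : Type*) [Field F] [Fintype l] [DecidableEq l] (x y : l ⊕ l → F) : F :=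
  x ⬝ᵥ (Matrix.J l F *ᵥ y)

lemma spForm_isSForm : IsSForm (RingHom.id F) (-1) (spForm l F) where
  add_left x y z := by simp [spForm, add_dotProduct]
  smul_left c x y := by simp [spForm, smul_dotProduct]
  symm x y := by
    simp only [spForm, RingHom.id_apply]
    rw [dotProduct_comm, ← Matrix.vecMul_transpose, ← Matrix.dotProduct_mulVec,
      Matrix.J_transpose, Matrix.neg_mulVec, dotProduct_neg]
    ring

lemma spForm_nondeg : Nondeg (spForm l F) := by
  intro x hx
  have h1 : x ᵥ* Matrix.J l F = 0 := by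
    apply dotProduct_eq_zero
    intro w
    rw [← Matrix.dotProduct_mulVec]
    exact hx w
  exact Matrix.eq_zero_of_vecMul_eq_zero (Matrix.isUnit_det_J l F).ne_zero h1

lemma spForm_alt (x : l ⊕ l → F) : spForm l F x x = 0 := by
  simp only [spForm, Matrix.J, Matrix.fromBlocks_mulVec, dotProduct, Fintype.sum_sum_type,
    Sum.elim_inl, Sum.elim_inr, Matrix.zero_mulVec, Matrix.neg_mulVec,
    Matrix.one_mulVec, Pi.neg_apply, Function.comp_apply, zero_add, add_zero,
    mul_neg, Finset.sum_neg_distrib]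
  rw [neg_add_eq_zero]
  exact Finset.sum_congr rfl (fun i _ => mul_comm _ _)

lemma spForm_isometry {A : Matrix (l ⊕ l) (l ⊕ l) F} (hA : A ∈ Matrix.symplecticGroup l F)
    (x y : l ⊕ l → F) :
    spForm l F (Matrix.toLin' A x) (Matrix.toLin' A y) = spForm l F x y := by
  simp only [spForm, Matrix.toLin'_apply]
  rw [← Matrix.vecMul_transpose A x, ← Matrix.dotProduct_mulVec, Matrix.mulVec_mulVec,
    Matrix.mulVec_mulVec, SymplecticGroup.mem_iff'.mp hA]

lemma mem_sp_of_isometry {P : Matrix (l ⊕ l) (l ⊕ l) F}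
    (h : ∀ x y, spForm l F (P *ᵥ x) (P *ᵥ y) = spForm l F x y) :
    P ∈ Matrix.symplecticGroup l F := by
  rw [SymplecticGroup.mem_iff']
  apply Matrix.toLin'.injective
  apply LinearMap.ext
  intro y
  apply dotProduct_eq
  intro x
  have := h x y
  simp only [spForm] at this
  rw [← Matrix.vecMul_transpose P x, ← Matrix.dotProduct_mulVec, Matrix.mulVec_mulVec,
    Matrix.mulVec_mulVec] at this
  rw [Matrix.toLin'_apply, Matrix.toLin'_apply, dotProduct_comm, this, dotProduct_comm]

end Sp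

/-- In `Sp_{2n}(q)`, elements of order prime to `p` with the same characteristic polynomial are
conjugate. -/
theorem sp_isConj_of_charpoly_eq {F : Type*} [Field F] [Finite F] (p : ℕ) [Fact p.Prime]
    [CharP F p] (n : ℕ) (g h : Matrix.symplecticGroup (Fin n) F) (kg kh : ℕ)
    (hkg : kg.Coprime p) (hkh : kh.Coprime p) (hg : g ^ kg = 1) (hh : h ^ kh = 1)
    (hc : (g : Matrix (Fin n ⊕ Fin n) (Fin n ⊕ Fin n) F).charpoly
      = (h : Matrix (Fin n ⊕ Fin n) (Fin n ⊕ Fin n) F).charpoly) :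
    IsConj g h := by
  have hgs : Module.End.IsSemisimple (toLin' (g : Matrix (Fin n ⊕ Fin n) (Fin n ⊕ Fin n) F)) :=
    isSemisimple_toLin'_of_pow_eq_one _ kg (natCast_ne_zero_of_coprime p hkg) (by
      rw [← SubmonoidClass.coe_pow, hg]; rfl)
  have hhs : Module.End.IsSemisimple (toLin' (h : Matrix (Fin n ⊕ Fin n) (Fin n ⊕ Fin n) F)) :=
    isSemisimple_toLin'_of_pow_eq_one _ kh (natCast_ne_zero_of_coprime p hkh) (by
      rw [← SubmonoidClass.coe_pow, hh]; rfl)
  obtain ⟨φ, hφe, hφi⟩ := exists_isometry_conj (σ := RingHom.id F) (ε := -1) (fun x => rfl)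
    (Or.inl ⟨rfl, rfl⟩) _ (Fin n ⊕ Fin n → F) (Fin n ⊕ Fin n → F) (spForm (Fin n) F)
    (spForm (Fin n) F) (toLin' (g : Matrix (Fin n ⊕ Fin n) (Fin n ⊕ Fin n) F))
    (toLin' (h : Matrix (Fin n ⊕ Fin n) (Fin n ⊕ Fin n) F)) rfl spForm_isSForm spForm_isSForm
    spForm_nondeg spForm_nondeg (fun _ => spForm_alt) (fun _ => spForm_alt) hgs hhs
    (spForm_isometry g.2) (spForm_isometry h.2)
    (by rw [Matrix.charpoly_toLin', Matrix.charpoly_toLin', hc])
  have hP : LinearMap.toMatrix' φ.toLinearMap ∈ Matrix.symplecticGroup (Fin n) F :=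
    mem_sp_of_isometry (fun x y => by
      rw [← Matrix.toLin'_apply, ← Matrix.toLin'_apply, Matrix.toLin'_toMatrix']
      exact hφi x y)
  have hPg : LinearMap.toMatrix' φ.toLinearMap * (g : Matrix (Fin n ⊕ Fin n) (Fin n ⊕ Fin n) F)
      = (h : Matrix (Fin n ⊕ Fin n) (Fin n ⊕ Fin n) F) * LinearMap.toMatrix' φ.toLinearMap := by
    apply Matrix.toLin'.injective
    rw [Matrix.toLin'_mul, Matrix.toLin'_mul, Matrix.toLin'_toMatrix']
    apply LinearMap.ext
    intro x
    rw [LinearMap.comp_apply, LinearMap.comp_apply]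
    exact hφe x
  rw [isConj_iff]
  refine ⟨⟨_, hP⟩, ?_⟩
  rw [mul_inv_eq_iff_eq_mul]
  apply Subtype.ext
  exact hPg

end Cfsg.Agent.Lib.Helper47
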