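import Mathlib
import Cfsg.Agent.Lib.Helper4.TPDefs
import Cfsg.Agent.S0016

/-! Project TP (helper4, S4033), piece N4B (helper47): a group `K` of automorphisms of a finite
abelian group all of whose nonidentity elements have the same fixed points, and which moves an
`s`-element, has all its abelian subgroups of order prime to `s` cyclic (norm trick). -/

set_option autoImplicit false

namespace Cfsg.Agent.Lib.Helper4.TP

universe u

/-- a non-cyclic abelian `p`-group has two elements of order `p`, one outside the cyclic group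
generated by the other -/
theorem n4b_helper47_two {A : Type*} [Group A] [Finite A] (p : ℕ) [hp : Fact p.Prime]
    (hA : IsPGroup p A) (hcomm : ∀ a b : A, a * b = b * a) (hnc : ¬ IsCyclic A) :
    ∃ b c : A, b ≠ 1 ∧ b ^ p = 1 ∧ c ^ p = 1 ∧ c ∉ Subgroup.zpowers b := by
  have h := mt (Cfsg.Agent.S0016.isCyclic_of_comm_of_unique p hA hcomm) hnc
  push Not at h
  obtain ⟨H, K, hH, hK, hne⟩ := h
  have hp1 : 1 < p := hp.out.one_lt
  have hHnt : H ≠ ⊥ := by
    intro hb
    rw [hb, Subgroup.card_bot] at hH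
    omega
  obtain ⟨⟨b, hbH⟩, hb1⟩ := (Subgroup.ne_bot_iff_exists_ne_one).mp hHnt
  have hb1' : b ≠ 1 := fun h' => hb1 (Subtype.ext h')
  have hbp : b ^ p = 1 := by
    have h1 : (⟨b, hbH⟩ : H) ^ Nat.card H = 1 := pow_card_eq_one'
    rw [hH] at h1
    exact congrArg Subtype.val h1
  have hzb : Subgroup.zpowers b = H := by
    apply Subgroup.eq_of_le_of_card_ge
    · rw [Subgroup.zpowers_le]; exact hbH
    · rw [Nat.card_zpowers, orderOf_eq_prime hbp hb1', hH]
  have hKH : ¬ K ≤ H := by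
    intro hle
    exact hne (Subgroup.eq_of_le_of_card_ge hle (by rw [hH, hK])).symm
  obtain ⟨c, hcK, hcH⟩ := SetLike.not_le_iff_exists.mp hKH
  refine ⟨b, c, hb1', hbp, ?_, ?_⟩
  · have h1 : (⟨c, hcK⟩ : K) ^ Nat.card K = 1 := pow_card_eq_one'
    rw [hK] at h1
    exact congrArg Subtype.val h1
  · rw [hzb]; exact hcH

/-- the norm of `w` under an automorphism `z` with `z ^ l = 1` is fixed by `z` -/
theorem n4b_helper47_fix {A : Type u} [CommGroup A] (z : MulAut A) (l : ℕ) (hz : z ^ l = 1)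
    (w : A) : z (∏ i ∈ Finset.range l, (z ^ i) w) = ∏ i ∈ Finset.range l, (z ^ i) w := by
  rw [map_prod]
  have h1 : ∀ i : ℕ, z ((z ^ i) w) = (z ^ (i + 1)) w := fun i => by rw [pow_succ']; rfl
  rw [Finset.prod_congr rfl (fun i _ => h1 i)]
  have h2 := Finset.prod_range_succ' (fun i => (z ^ i) w) l
  have h3 := Finset.prod_range_succ (fun i => (z ^ i) w) l
  have h4 : (∏ i ∈ Finset.range l, (z ^ (i + 1)) w) * (z ^ 0) w =
      (∏ i ∈ Finset.range l, (z ^ i) w) * (z ^ l) w := h2.symm.trans h3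
  rw [hz, pow_zero] at h4
  exact mul_right_cancel h4

/-- multiplication by a unit modulo a prime permutes the residues -/
theorem n4b_helper47_reindex {M : Type*} [CommMonoid M] (l c : ℕ) (hl : l.Prime) (hc0 : c ≠ 0)
    (hcl : c < l) (g : ℕ → M) (hg : ∀ k, g (k % l) = g k) :
    ∏ j ∈ Finset.range l, g (j * c) = ∏ k ∈ Finset.range l, g k := by
  have hcop : Nat.Coprime l c := Nat.coprime_of_lt_prime hc0 hcl hl
  have hinj : ∀ j ∈ Finset.range l, ∀ j' ∈ Finset.range l,
      (j * c) % l = (j' * c) % l → j = j' := by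
    intro j hj j' hj' h
    have h1 : j * c ≡ j' * c [MOD l] := h
    have h2 : j ≡ j' [MOD l] := Nat.ModEq.cancel_right_of_coprime hcop h1
    exact Nat.ModEq.eq_of_lt_of_lt h2 (Finset.mem_range.mp hj) (Finset.mem_range.mp hj')
  have himg : (Finset.range l).image (fun j => (j * c) % l) = Finset.range l := by
    apply Finset.eq_of_subset_of_card_le
    · intro k hk
      obtain ⟨j, -, rfl⟩ := Finset.mem_image.mp hk
      exact Finset.mem_range.mpr (Nat.mod_lt _ hl.pos)
    · rw [Finset.card_image_of_injOn (fun a ha b hb h => hinj a ha b hb h)]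
  calc ∏ j ∈ Finset.range l, g (j * c) = ∏ j ∈ Finset.range l, g ((j * c) % l) :=
        Finset.prod_congr rfl (fun j _ => (hg _).symm)
    _ = ∏ k ∈ (Finset.range l).image (fun j => (j * c) % l), g k :=
        (Finset.prod_image (fun a ha b hb h => hinj a ha b hb h)).symm
    _ = ∏ k ∈ Finset.range l, g k := by rw [himg]

/-- the norm identity for two commuting automorphisms of prime order `l` -/
theorem n4b_helper47_key {A : Type u} [CommGroup A] (x y : MulAut A) (l' : ℕ)
    (hl : (l' + 1).Prime) (hxy : Commute x y) (hy : y ^ (l' + 1) = 1) (v : A) :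
    (∏ j ∈ Finset.range (l' + 1), ∏ i ∈ Finset.range (l' + 1), ((x * y ^ j) ^ i) v) *
        ∏ k ∈ Finset.range (l' + 1), (y ^ k) v =
      v ^ (l' + 1) *
        ∏ i ∈ Finset.range (l' + 1), (x ^ i) (∏ k ∈ Finset.range (l' + 1), (y ^ k) v) := by
  have hL : (∏ j ∈ Finset.range (l' + 1), ∏ i ∈ Finset.range (l' + 1), ((x * y ^ j) ^ i) v) =
      (∏ i ∈ Finset.range l', ∏ k ∈ Finset.range (l' + 1), (x ^ (i + 1) * y ^ k) v) *
        v ^ (l' + 1) := by
    calc (∏ j ∈ Finset.range (l' + 1), ∏ i ∈ Finset.range (l' + 1), ((x * y ^ j) ^ i) v)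
        = ∏ j ∈ Finset.range (l' + 1), ∏ i ∈ Finset.range (l' + 1),
            (x ^ i * y ^ (j * i)) v := by
          refine Finset.prod_congr rfl (fun j _ => Finset.prod_congr rfl (fun i _ => ?_))
          rw [(hxy.pow_right j).mul_pow, ← pow_mul]
      _ = ∏ i ∈ Finset.range (l' + 1), ∏ j ∈ Finset.range (l' + 1),
            (x ^ i * y ^ (j * i)) v := Finset.prod_comm
      _ = (∏ i ∈ Finset.range l', ∏ j ∈ Finset.range (l' + 1),
            (x ^ (i + 1) * y ^ (j * (i + 1))) v) *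
            ∏ j ∈ Finset.range (l' + 1), (x ^ 0 * y ^ (j * 0)) v :=
          Finset.prod_range_succ' _ _
      _ = (∏ i ∈ Finset.range l', ∏ k ∈ Finset.range (l' + 1), (x ^ (i + 1) * y ^ k) v) *
            v ^ (l' + 1) := by
          congr 1
          · refine Finset.prod_congr rfl (fun i hi => ?_)
            have hi' : i < l' := Finset.mem_range.mp hi
            exact n4b_helper47_reindex (l' + 1) (i + 1) hl (Nat.succ_ne_zero i) (by omega)
              (fun k => (x ^ (i + 1) * y ^ k) v)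
              (fun k => by
                show (x ^ (i + 1) * y ^ (k % (l' + 1))) v = (x ^ (i + 1) * y ^ k) v
                rw [← pow_eq_pow_mod k hy])
          · simp
  have hR : (∏ i ∈ Finset.range (l' + 1), (x ^ i) (∏ k ∈ Finset.range (l' + 1), (y ^ k) v)) =
      (∏ i ∈ Finset.range l', ∏ k ∈ Finset.range (l' + 1), (x ^ (i + 1) * y ^ k) v) *
        ∏ k ∈ Finset.range (l' + 1), (y ^ k) v := by
    calc (∏ i ∈ Finset.range (l' + 1), (x ^ i) (∏ k ∈ Finset.range (l' + 1), (y ^ k) v))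
        = ∏ i ∈ Finset.range (l' + 1), ∏ k ∈ Finset.range (l' + 1), (x ^ i * y ^ k) v := by
          refine Finset.prod_congr rfl (fun i _ => ?_)
          rw [map_prod]
          rfl
      _ = (∏ i ∈ Finset.range l', ∏ k ∈ Finset.range (l' + 1), (x ^ (i + 1) * y ^ k) v) *
            ∏ k ∈ Finset.range (l' + 1), (x ^ 0 * y ^ k) v := Finset.prod_range_succ' _ _
      _ = (∏ i ∈ Finset.range l', ∏ k ∈ Finset.range (l' + 1), (x ^ (i + 1) * y ^ k) v) *
            ∏ k ∈ Finset.range (l' + 1), (y ^ k) v := by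
          simp
  rw [hL, hR]
  have hac : ∀ P V N : A, P * V * N = V * (P * N) := fun P V N => by
    rw [mul_comm P V, mul_assoc]
  exact hac _ _ _

/-- TP-N4B -/
theorem n4b : N4BStmt.{u} := by
  intro A _ _ K s hs hSF hMv B hBK hcop hBcomm
  obtain ⟨k, hkK, a, ⟨i0, ha⟩, hka⟩ := hMv
  have hk1 : k ≠ 1 := by
    rintro rfl
    exact hka rfl
  have hmove : ∀ z ∈ K, z ≠ 1 → z a ≠ a := by
    intro z hz hz1 h
    exact hka ((hSF k z hkK hz hk1 hz1 a).mpr h)
  by_contra hnc
  have hcommB : ∀ p q : ↥B, p * q = q * p := fun p q => Subtype.ext (hBcomm p p.2 q q.2)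
  have hex : ∃ l : ℕ, l.Prime ∧ ∃ P : Sylow l ↥B, ¬ IsCyclic ↥(P : Subgroup ↥B) := by
    by_contra hcon
    push Not at hcon
    haveI : IsZGroup ↥B := ⟨fun p hp P => hcon p hp P⟩
    haveI : Group.IsNilpotent ↥B :=
      @CommGroup.isNilpotent ↥B { (inferInstance : Group ↥B) with mul_comm := hcommB }
    exact hnc inferInstance
  obtain ⟨l, hl, P, hP⟩ := hex
  haveI : Fact l.Prime := ⟨hl⟩
  obtain ⟨b, c, hb1, hbl, hcl, hcb⟩ :=
    n4b_helper47_two l P.isPGroup' (fun p q => Subtype.ext (hcommB p q)) hP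
  obtain ⟨x, hxdef⟩ : ∃ x : MulAut A, x = ((b : ↥B) : MulAut A) := ⟨_, rfl⟩
  obtain ⟨y, hydef⟩ : ∃ y : MulAut A, y = ((c : ↥B) : MulAut A) := ⟨_, rfl⟩
  have hxB : x ∈ B := hxdef ▸ (b : ↥B).2
  have hyB : y ∈ B := hydef ▸ (c : ↥B).2
  have hxK : x ∈ K := hBK hxB
  have hyK : y ∈ K := hBK hyB
  have hx1 : x ≠ 1 := by
    intro h
    apply hb1
    apply Subtype.ext
    apply Subtype.ext
    rw [← hxdef, h]
    rfl
  have hxl : x ^ l = 1 := by
    have h := congrArg (fun t : ↥(P : Subgroup ↥B) => ((t : ↥B) : MulAut A)) hbl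
    simpa [hxdef] using h
  have hyl : y ^ l = 1 := by
    have h := congrArg (fun t : ↥(P : Subgroup ↥B) => ((t : ↥B) : MulAut A)) hcl
    simpa [hydef] using h
  have hyx : y ∉ Subgroup.zpowers x := by
    intro h
    obtain ⟨n, hn⟩ := Subgroup.mem_zpowers_iff.mp h
    apply hcb
    rw [Subgroup.mem_zpowers_iff]
    refine ⟨n, ?_⟩
    apply Subtype.ext
    apply Subtype.ext
    rw [hxdef, hydef] at hn
    simpa using hn
  have hy1 : y ≠ 1 := fun h => hyx (h ▸ one_mem _)
  have hls : l ≠ s := by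
    rintro rfl
    have h1 : orderOf x = l := orderOf_eq_prime hxl hx1
    have h2 : orderOf (⟨x, hxB⟩ : ↥B) = orderOf x := Subgroup.orderOf_mk x hxB
    have h3 : l ∣ Nat.card ↥B := by
      rw [← h1, ← h2]
      exact orderOf_dvd_natCard _
    exact hl.one_lt.ne' (Nat.Coprime.eq_one_of_dvd hcop.symm h3)
  have hxy : Commute x y := hBcomm x hxB y hyB
  obtain ⟨l', rfl⟩ := Nat.exists_eq_succ_of_ne_zero hl.ne_zero
  have hkey := n4b_helper47_key x y l' hl hxy hyl a
  have hN2 : ∀ z ∈ K, z ≠ 1 → z ^ (l' + 1) = 1 → ∀ w : A,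
      x (∏ i ∈ Finset.range (l' + 1), (z ^ i) w) = ∏ i ∈ Finset.range (l' + 1), (z ^ i) w := by
    intro z hzK hz1 hzl w
    exact (hSF z x hzK hxK hz1 hx1 _).mp (n4b_helper47_fix z (l' + 1) hzl w)
  have hfixL : x (∏ j ∈ Finset.range (l' + 1), ∏ i ∈ Finset.range (l' + 1),
      ((x * y ^ j) ^ i) a) =
      ∏ j ∈ Finset.range (l' + 1), ∏ i ∈ Finset.range (l' + 1), ((x * y ^ j) ^ i) a := by
    rw [map_prod]
    refine Finset.prod_congr rfl (fun j hj => ?_)
    apply hN2 (x * y ^ j) (K.mul_mem hxK (K.pow_mem hyK j)) ?_ ?_ a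
    · intro h
      have hj' : j < l' + 1 := Finset.mem_range.mp hj
      have hyj : y ^ j = x⁻¹ := eq_inv_of_mul_eq_one_right h
      have hj0 : j ≠ 0 := by
        rintro rfl
        rw [pow_zero] at hyj
        exact hx1 (inv_eq_one.mp hyj.symm)
      have hoy : orderOf y = l' + 1 := orderOf_eq_prime hyl hy1
      have hcopj : Nat.Coprime j (orderOf y) := by
        rw [hoy]
        exact (Nat.coprime_of_lt_prime hj0 hj' hl).symm
      obtain ⟨m, hm⟩ := exists_pow_eq_self_of_coprime hcopj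
      apply hyx
      rw [← hm, hyj, inv_pow]
      exact Subgroup.inv_mem _ (Subgroup.npow_mem_zpowers x m)
    · rw [(hxy.pow_right j).mul_pow, hxl, one_mul, ← pow_mul, mul_comm, pow_mul, hyl, one_pow]
  have hfixN : x (∏ k ∈ Finset.range (l' + 1), (y ^ k) a) =
      ∏ k ∈ Finset.range (l' + 1), (y ^ k) a := hN2 y hyK hy1 hyl a
  have hfixD : x (∏ i ∈ Finset.range (l' + 1),
      (x ^ i) (∏ k ∈ Finset.range (l' + 1), (y ^ k) a)) =
      ∏ i ∈ Finset.range (l' + 1), (x ^ i) (∏ k ∈ Finset.range (l' + 1), (y ^ k) a) :=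
    n4b_helper47_fix x (l' + 1) hxl _
  have hfixa : x (a ^ (l' + 1)) = a ^ (l' + 1) := by
    have h1 : x (a ^ (l' + 1)) * x (∏ i ∈ Finset.range (l' + 1),
        (x ^ i) (∏ k ∈ Finset.range (l' + 1), (y ^ k) a)) =
        a ^ (l' + 1) * ∏ i ∈ Finset.range (l' + 1),
          (x ^ i) (∏ k ∈ Finset.range (l' + 1), (y ^ k) a) := by
      rw [← map_mul, ← hkey, map_mul, hfixL, hfixN]
    rw [hfixD] at h1
    exact mul_right_cancel h1
  have hcopa : Nat.Coprime (l' + 1) (orderOf a) := by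
    rw [ha]
    exact Nat.Coprime.pow_right _ ((Nat.coprime_primes hl hs).mpr hls)
  obtain ⟨m, hm⟩ := exists_pow_eq_self_of_coprime hcopa
  apply hmove x hxK hx1
  calc x a = x ((a ^ (l' + 1)) ^ m) := by rw [hm]
    _ = (a ^ (l' + 1)) ^ m := by rw [map_pow, hfixa]
    _ = a := hm

end Cfsg.Agent.Lib.Helper4.TP
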