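import Cfsg.Agent.Lib.Helper47.FormConj

/-!
# Centraliser elements with an adjoint and prescribed determinant

For a semisimple isometry `g` of a nondegenerate hermitian form over a finite field (nontrivial
involution), and any `γ`, there are commuting endomorphisms `T`, `T'` commuting with `g`,
mutually adjoint, with `det T = γ`.
-/

set_option autoImplicit false

namespace Cfsg.Agent.Lib.Helper47

open Polynomial Module

section UCent

variable {F : Type*} [Field F] {V : Type*} [AddCommGroup V] [Module F V]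

lemma invt_aeval {g : Module.End F V} {W : Submodule F V}
    (hW : W ∈ Module.End.invtSubmodule g) (p : F[X]) :
    W ∈ Module.End.invtSubmodule (aeval g p) := by
  rw [Module.End.mem_invtSubmodule_iff_forall_mem_of_mem]
  intro x hx
  exact aeval_mem_of_invt hW p hx

/-- The map `S ⊕ id` with respect to a complement decomposition. -/
noncomputable def sumId {W U : Submodule F V} (hc : IsCompl W U) (S : Module.End F W) :
    Module.End F V :=
  (Submodule.prodEquivOfIsCompl W U hc).conj (S.prodMap LinearMap.id)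

lemma sumId_apply {W U : Submodule F V} (hc : IsCompl W U) (S : Module.End F W) (a : W) (b : U) :
    sumId hc S ((a : V) + b) = (S a : V) + b := by
  have h1 : (a : V) + b = Submodule.prodEquivOfIsCompl W U hc (a, b) := by
    simp
  rw [h1, sumId, LinearEquiv.conj_apply_apply, LinearEquiv.symm_apply_apply]
  simp

lemma det_sumId [FiniteDimensional F V] {W U : Submodule F V} (hc : IsCompl W U)
    (S : Module.End F W) : LinearMap.det (sumId hc S) = LinearMap.det S := by
  rw [sumId, LinearEquiv.conj_apply, LinearMap.comp_assoc, LinearMap.det_conj,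
    LinearMap.det_prodMap, LinearMap.det_id, mul_one]

lemma exists_decomp {W U : Submodule F V} (hc : IsCompl W U) (x : V) :
    ∃ (a : W) (b : U), x = (a : V) + b := by
  obtain ⟨⟨a, b⟩, rfl⟩ := (Submodule.prodEquivOfIsCompl W U hc).surjective x
  exact ⟨a, b, by simp⟩

variable {σ : F →+* F} {ε : F} {B : V → V → F}

/-- From an invariant nondegenerate subspace `W` and a polynomial `p`: the maps `p(g)|_W ⊕ 1` and
its adjoint. -/
lemma exists_adj_pair [Finite F] [FiniteDimensional F V] (hB : IsSForm σ ε B)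
    (hσ : ∀ x, σ (σ x) = x) {g : Module.End F V}
    (hgi : ∀ x y, B (g x) (g y) = B x y) {r : F[X]} (hr : aeval g r * g = 1)
    {W : Submodule F V} (hW : W ∈ Module.End.invtSubmodule g) (hWn : Nondeg (resForm B W))
    (p : F[X]) :
    ∃ T T' : Module.End F V, (∀ x, T (g x) = g (T x)) ∧ (∀ x, T' (g x) = g (T' x)) ∧
      (∀ x, T (T' x) = T' (T x)) ∧ (∀ x y, B (T x) y = B x (T' y)) ∧
      LinearMap.det T = LinearMap.det (resInv (aeval g p) (invt_aeval hW p)) := by
  have hc := isCompl_orth hB hWn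
  have hO := orth_invt hB hgi hr hW
  have hgW : ∀ a : W, g (a : V) ∈ W := fun a =>
    (Module.End.mem_invtSubmodule_iff_forall_mem_of_mem g).mp hW _ a.2
  have hgO : ∀ b : hB.orth W, g (b : V) ∈ hB.orth W := fun b =>
    (Module.End.mem_invtSubmodule_iff_forall_mem_of_mem g).mp hO _ b.2
  refine ⟨sumId hc (resInv (aeval g p) (invt_aeval hW p)),
    sumId hc (resInv (aeval g (adjPoly σ r p)) (invt_aeval hW _)), ?_, ?_, ?_, ?_, det_sumId hc _⟩
  · intro x
    obtain ⟨a, b, rfl⟩ := exists_decomp hc x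
    have e1 : g ((a : V) + b) = ((⟨g a, hgW a⟩ : W) : V) + ((⟨g b, hgO b⟩ : hB.orth W) : V) := by
      rw [map_add]
    rw [e1, sumId_apply, sumId_apply, map_add]
    simp only [resInv_apply]
    rw [aeval_comm_apply']
  · intro x
    obtain ⟨a, b, rfl⟩ := exists_decomp hc x
    have e1 : g ((a : V) + b) = ((⟨g a, hgW a⟩ : W) : V) + ((⟨g b, hgO b⟩ : hB.orth W) : V) := by
      rw [map_add]
    rw [e1, sumId_apply, sumId_apply, map_add]
    simp only [resInv_apply]
    rw [aeval_comm_apply']
  · intro x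
    obtain ⟨a, b, rfl⟩ := exists_decomp hc x
    rw [sumId_apply, sumId_apply, sumId_apply, sumId_apply]
    simp only [resInv_apply]
    rw [aeval_comm_apply]
  · intro x y
    obtain ⟨a, b, rfl⟩ := exists_decomp hc x
    obtain ⟨a₂, b₂, rfl⟩ := exists_decomp hc y
    rw [sumId_apply, sumId_apply]
    simp only [resInv_apply]
    have c1 : ∀ (w : V), w ∈ W → B w b₂ = 0 := fun w hw => b₂.2 w hw
    have c2 : ∀ (w : V), w ∈ W → B b w = 0 := fun w hw => hB.refl (b.2 w hw)
    rw [hB.add_left, hB.add_right, hB.add_right, hB.add_left, hB.add_right, hB.add_right,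
      c1 _ (aeval_mem_of_invt hW p a.2), c2 _ a₂.2, c1 _ a.2,
      c2 _ (aeval_mem_of_invt hW _ a₂.2), adj_apply hB hσ hgi hr]

lemma det_resInv_cyc [FiniteDimensional F V] {g : Module.End F V} {v : V} {f : F[X]}
    (hfi : Irreducible f) (hv : v ≠ 0) (hfv : aeval g f v = 0) (pβ : F[X])
    (hCp : cyc g v ∈ Module.End.invtSubmodule (aeval g pβ)) :
    LinearMap.det (resInv (aeval g pβ) hCp) = Algebra.norm F (AdjoinRoot.mk f pβ) := by
  have : Fact (Irreducible f) := ⟨hfi⟩
  have : Module.Finite F (AdjoinRoot f) := (AdjoinRoot.powerBasis hfi.ne_zero).finite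
  have hc₀ : resInv (aeval g pβ) hCp
      = (cycEquiv hfi hv hfv).conj (LinearMap.mulLeft F (AdjoinRoot.mk f pβ)) := by
    apply LinearMap.ext
    intro x
    obtain ⟨y, rfl⟩ := (cycEquiv hfi hv hfv).surjective x
    rw [LinearEquiv.conj_apply_apply]
    apply Subtype.ext
    simp only [resInv_apply, LinearEquiv.symm_apply_apply, LinearMap.mulLeft_apply]
    rw [cycEquiv_mul]
  rw [hc₀, LinearEquiv.conj_apply, LinearMap.comp_assoc, LinearMap.det_conj, Algebra.norm_apply]
  rfl

/-- An invariant nondegenerate subspace and a polynomial acting on it with prescribed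
determinant. -/
lemma exists_piece_det [Finite F] [FiniteDimensional F V] [Nontrivial V] (hB : IsSForm σ ε B)
    (hσ : ∀ x, σ (σ x) = x) (hne : ∃ c, σ c ≠ c) (hnd : Nondeg B) {g : Module.End F V}
    (hgs : g.IsSemisimple) (hgi : ∀ x y, B (g x) (g y) = B x y) {r : F[X]}
    (hr : aeval g r * g = 1) (γ : F) :
    ∃ (W : Submodule F V) (hW : W ∈ Module.End.invtSubmodule g) (p : F[X]),
      Nondeg (resForm B W) ∧ LinearMap.det (resInv (aeval g p) (invt_aeval hW p)) = γ := by
  obtain ⟨f, hfm, hfi, -, v, hv, hfv⟩ := exists_irreducible_ker g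
  have : Fact (Irreducible f) := ⟨hfi⟩
  have : Module.Finite F (AdjoinRoot f) := (AdjoinRoot.powerBasis hfi.ne_zero).finite
  have : Finite (AdjoinRoot f) := Module.finite_of_finite F
  obtain ⟨β, hβ⟩ := FiniteField.norm_surjective F (AdjoinRoot f) γ
  obtain ⟨pβ, rfl⟩ := AdjoinRoot.mk_surjective β
  by_cases hI : f ∣ adjPoly σ r f
  · obtain ⟨v₁, hv₁, hfv₁, hne₁⟩ :=
      exists_nonisotropic_cyc hB hσ hgi hr hnd hgs hfi hI hv hfv (Or.inr hne)
    have hn := nondeg_cyc hB hσ hgi hr hfi hv₁ hfv₁ hne₁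
    refine ⟨cyc g v₁, cyc_invt g v₁, pβ, hn, ?_⟩
    rw [det_resInv_cyc hfi hv₁ hfv₁, hβ]
  · have hC := cyc_invt g v
    obtain ⟨D, hD, -, hi, hii⟩ := exists_dual_compl hB hgi hr hnd hgs hC
    have hker : ∀ x ∈ cyc g v, aeval g f x = 0 := by
      rintro _ ⟨p, rfl⟩
      rw [cycMap_apply, aeval_comm_apply, hfv, map_zero]
    have hCC : ∀ x ∈ cyc g v, ∀ y ∈ cyc g v, B x y = 0 := by
      intro x hx y hy
      exact isotropic_ker_of_not_dvd hB hσ hgi hr hfi hI x
        (LinearMap.mem_ker.mpr (hker x hx)) y (LinearMap.mem_ker.mpr (hker y hy))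
    have hDs : ∀ d ∈ D, aeval g (adjPoly σ r f) d = 0 := by
      intro d hd
      apply hi _ (aeval_mem_of_invt hD _ hd)
      intro c hc
      rw [← adj_apply hB hσ hgi hr, hker c hc, hB.zero_left]
    have hdisj := pair_disjoint hCC hi
    have hWn := pair_nondeg hB hCC hi hii
    have hW := pairSub_invt hC hD
    obtain ⟨a, b, hab⟩ := (hfi.coprime_iff_not_dvd.mpr hI)
    -- `q = pβ` on `C`, `q = 1` on `D`
    obtain ⟨q, hq⟩ : ∃ q : F[X], q = pβ * (b * adjPoly σ r f) + a * f := ⟨_, rfl⟩
    have hqC : ∀ c ∈ cyc g v, aeval g q c = aeval g pβ c := by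
      intro c hc
      have e : q = pβ + (1 - pβ) * a * f := by
        rw [hq]
        have : b * adjPoly σ r f = 1 - a * f := by rw [← hab]; ring
        rw [this]; ring
      rw [e, map_add, map_mul, LinearMap.add_apply, Module.End.mul_apply, hker c hc, map_zero,
        add_zero]
    have hqD : ∀ d ∈ D, aeval g q d = d := by
      intro d hd
      have e : q = 1 + (pβ - 1) * b * adjPoly σ r f := by
        rw [hq]
        have : a * f = 1 - b * adjPoly σ r f := by rw [← hab]; ring
        rw [this]; ring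
      rw [e, map_add, map_mul, LinearMap.add_apply, Module.End.mul_apply, hDs d hd, map_zero,
        add_zero, map_one]
      rfl
    refine ⟨pairSub (cyc g v) D, hW, q, hWn, ?_⟩
    have hCp := invt_aeval hC pβ
    have hc₀ : resInv (aeval g q) (invt_aeval hW q)
        = (pairEquiv _ _ hdisj).conj ((resInv (aeval g pβ) hCp).prodMap LinearMap.id) := by
      apply LinearMap.ext
      intro x
      obtain ⟨⟨c, d⟩, rfl⟩ := (pairEquiv _ _ hdisj).surjective x
      rw [LinearEquiv.conj_apply_apply, LinearEquiv.symm_apply_apply]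
      apply Subtype.ext
      rw [resInv_apply, pairEquiv_apply, LinearMap.prodMap_apply, pairEquiv_apply, map_add,
        hqC c c.2, hqD d d.2]
      rfl
    rw [hc₀, LinearEquiv.conj_apply, LinearMap.comp_assoc, LinearMap.det_conj,
      LinearMap.det_prodMap, LinearMap.det_id, mul_one, det_resInv_cyc hfi hv hfv, hβ]

/-- **Adjoint pair in the centraliser with prescribed determinant.** -/
theorem exists_adj_pair_det [Finite F] [FiniteDimensional F V] [Nontrivial V]
    (hB : IsSForm σ ε B) (hσ : ∀ x, σ (σ x) = x) (hne : ∃ c, σ c ≠ c) (hnd : Nondeg B)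
    {g : Module.End F V} (hgs : g.IsSemisimple) (hgi : ∀ x y, B (g x) (g y) = B x y) (γ : F) :
    ∃ T T' : Module.End F V, (∀ x, T (g x) = g (T x)) ∧ (∀ x, T' (g x) = g (T' x)) ∧
      (∀ x, T (T' x) = T' (T x)) ∧ (∀ x y, B (T x) y = B x (T' y)) ∧ LinearMap.det T = γ := by
  have hinj : Function.Injective g := by
    rw [← LinearMap.ker_eq_bot, LinearMap.ker_eq_bot']
    intro x hx
    apply hnd
    intro y
    rw [← hgi, hx, hB.zero_left]
  have h0 : g.charpoly.coeff 0 ≠ 0 := by
    intro h0
    have hdet : LinearMap.det g = 0 := by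
      rw [LinearMap.det_eq_sign_charpoly_coeff, h0, mul_zero]
    have := LinearMap.bot_lt_ker_of_det_eq_zero hdet
    rw [LinearMap.ker_eq_bot.mpr hinj] at this
    exact lt_irrefl _ this
  have hr := exists_inv_poly g g.charpoly (LinearMap.aeval_self_charpoly g) h0
  obtain ⟨W, hW, p, hWn, hdet⟩ := exists_piece_det hB hσ hne hnd hgs hgi hr γ
  obtain ⟨T, T', h1, h2, h3, h4, h5⟩ := exists_adj_pair hB hσ hgi hr hW hWn p
  exact ⟨T, T', h1, h2, h3, h4, h5.trans hdet⟩

end UCent

end Cfsg.Agent.Lib.Helper47
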